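import Cfsg.Agent.MinSimple.VModule
import Cfsg.Agent.ZN.Map
import Cfsg.Agent.Lib.NormalAbelian
import Cfsg.Agent.HexRec.Coord
import Mathlib
import Cfsg.Agent.HexRec.OfHexRel

section


/-!
# `O₂(C_G(y))` for an involution `y` of a group of characteristic 2 type
-/

set_option autoImplicit false

namespace Cfsg.Agent.Omega.GTwoFour.Cor

open Subgroup Cfsg Cfsg.Agent.ZN Cfsg.Agent.MinSimple.VModule

universe u

variable {G : Type u} [Group G]

/-- `O₂(C_G(y))` -/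
def R (y : G) : Subgroup G := o2 (centralizer ({y} : Set G))

theorem R_two (y : G) : IsPGroup 2 (R y) := o2_isPGroup _

theorem R_cen {y r : G} (hr : r ∈ R y) : r * y = y * r :=
  mem_centralizer_singleton_iff.mp (o2_le _ hr)

theorem R_norm {y g r : G} (hg : g * y = y * g) (hr : r ∈ R y) : g * r * g⁻¹ ∈ R y :=
  (mem_normalizer_iff.mp (le_normalizer_o2 _ (mem_centralizer_singleton_iff.mpr hg)) r).mp hr

theorem le_R {y : G} {N : Subgroup G} (h1 : ∀ n ∈ N, n * y = y * n) (h2 : IsPGroup 2 N)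
    (h3 : ∀ g, g * y = y * g → ∀ n ∈ N, g * n * g⁻¹ ∈ N) : N ≤ R y := by
  refine le_o2 (fun n hn => mem_centralizer_singleton_iff.mpr (h1 n hn)) h2 ?_
  intro g hg
  rw [mem_centralizer_singleton_iff] at hg
  rw [mem_normalizer_iff]
  intro n
  refine ⟨fun hn => h3 g hg n hn, fun hn => ?_⟩
  have h4 : g⁻¹ * y = y * g⁻¹ := by
    rw [inv_mul_eq_iff_eq_mul, ← mul_assoc, hg, mul_inv_cancel_right]
  have h5 := h3 g⁻¹ h4 _ hn
  rwa [show g⁻¹ * (g * n * g⁻¹) * g⁻¹⁻¹ = n by group] at h5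

theorem y_mem_R {y : G} (hy : y * y = 1) : y ∈ R y := by
  have h1 : zpowers y ≤ R y := by
    refine le_R ?_ ?_ ?_
    · intro n hn
      obtain ⟨k, rfl⟩ := mem_zpowers_iff.mp hn
      exact (Commute.refl y).zpow_left k
    · have h2 : y ^ (2 : ℕ) = 1 := by rw [pow_two, hy]
      intro ⟨n, hn⟩
      obtain ⟨k, rfl⟩ := mem_zpowers_iff.mp hn
      refine ⟨1, Subtype.ext ?_⟩
      simp only [pow_one, SubgroupClass.coe_pow, OneMemClass.coe_one]
      rw [← zpow_natCast, ← zpow_mul, mul_comm, zpow_mul, zpow_natCast, h2, one_zpow]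
    · intro g hg n hn
      obtain ⟨k, rfl⟩ := mem_zpowers_iff.mp hn
      have h3 : g * y ^ k = y ^ k * g := (show Commute g y from hg).zpow_right k
      rw [h3, mul_inv_cancel_right]
      exact hn
  exact h1 (mem_zpowers y)

theorem R_self (hG : IsCharacteristicTwoType G) {y g : G} (hy : y * y = 1) (hy1 : y ≠ 1)
    (hg : g * y = y * g) (h : ∀ r ∈ R y, g * r = r * g) : g ∈ R y := by
  have hp : IsPGroup 2 (zpowers y) := by
    have h2 : y ^ (2 : ℕ) = 1 := by rw [pow_two, hy]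
    intro ⟨n, hn⟩
    obtain ⟨k, rfl⟩ := mem_zpowers_iff.mp hn
    refine ⟨1, Subtype.ext ?_⟩
    simp only [pow_one, SubgroupClass.coe_pow, OneMemClass.coe_one]
    rw [← zpow_natCast, ← zpow_mul, mul_comm, zpow_mul, zpow_natCast, h2, one_zpow]
  have hN : normalizer (zpowers y : Set G) = centralizer ({y} : Set G) := by
    ext n
    rw [mem_centralizer_singleton_iff, mem_normalizer_iff]
    constructor
    · intro h1
      have h2 := (h1 y).mp (mem_zpowers y)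
      obtain ⟨k, hk⟩ := mem_zpowers_iff.mp h2
      have h3 : y ^ k = 1 ∨ y ^ k = y := by
        rcases Int.even_or_odd k with ⟨m, rfl⟩ | ⟨m, rfl⟩
        · left
          rw [zpow_add, ← (Commute.refl y).mul_zpow, hy, one_zpow]
        · right
          rw [zpow_add, two_mul, zpow_add, ← (Commute.refl y).mul_zpow, hy, one_zpow, one_mul, zpow_one]
      rcases h3 with h3 | h3
      · exfalso
        rw [h3] at hk
        apply hy1
        have : n * y * n⁻¹ = 1 := hk.symm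
        rwa [mul_inv_eq_one, mul_eq_left] at this
      · rw [h3] at hk
        rw [eq_comm, mul_inv_eq_iff_eq_mul] at hk
        exact hk
    · intro h1 m
      have key : ∀ k : ℤ, n * y ^ k * n⁻¹ = y ^ k := by
        intro k
        rw [((show Commute n y from h1).zpow_right k).eq, mul_inv_cancel_right]
      constructor
      · intro hm
        obtain ⟨k, rfl⟩ := mem_zpowers_iff.mp hm
        rw [key]
        exact hm
      · intro hm
        obtain ⟨k, hk⟩ := mem_zpowers_iff.mp hm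
        have : m = y ^ k := by
          have h5 := key k
          rw [hk] at h5
          have h6 : n * (n * m * n⁻¹) * n⁻¹ = n * m * n⁻¹ := h5
          have h7 : n * m * n⁻¹ = m := by
            have := mul_right_cancel (mul_left_cancel (a := n) (by simpa [mul_assoc] using h6) :
              (n * m * n⁻¹) * n⁻¹ = m * n⁻¹)
            exact this
          rw [← h7, hk]
        rw [this]
        exact zpow_mem (mem_zpowers y) k
  have h1 := hG.2 (zpowers y) hp (fun hc => hy1 (zpowers_eq_bot.mp hc))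
  rw [hN] at h1
  have h2 : (⟨g, mem_centralizer_singleton_iff.mpr hg⟩ : ↥(centralizer ({y} : Set G))) ∈
      pCore 2 ↥(centralizer ({y} : Set G)) := by
    refine h1 (mem_centralizer_iff.mpr fun x hx => Subtype.ext ?_)
    exact (h _ ⟨x, hx, rfl⟩).symm
  exact ⟨_, h2, rfl⟩

theorem card_R_conj (g y : G) : Nat.card (R (g * y * g⁻¹)) = Nat.card (R y) := by
  have h1 : centralizer ({g * y * g⁻¹} : Set G) =
      (centralizer ({y} : Set G)).map (MulAut.conj g).toMonoidHom := by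
    ext n
    rw [mem_centralizer_singleton_iff, mem_map]
    constructor
    · intro hn
      refine ⟨g⁻¹ * n * g, ?_, by simp [MulAut.conj_apply, mul_assoc]⟩
      rw [mem_centralizer_singleton_iff]
      calc g⁻¹ * n * g * y = g⁻¹ * (n * (g * y * g⁻¹)) * g := by group
        _ = g⁻¹ * ((g * y * g⁻¹) * n) * g := by rw [hn]
        _ = _ := by group
    · rintro ⟨m, hm, rfl⟩
      rw [mem_centralizer_singleton_iff] at hm
      simp only [MulEquiv.coe_toMonoidHom, MulAut.conj_apply]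
      calc g * m * g⁻¹ * (g * y * g⁻¹) = g * (m * y) * g⁻¹ := by group
        _ = g * (y * m) * g⁻¹ := by rw [hm]
        _ = _ := by group
  have hinj : Function.Injective (MulAut.conj g).toMonoidHom := (MulAut.conj g).injective
  rw [R, h1, o2_map _ hinj, Subgroup.card_map_of_injective hinj]
  rfl

/-- a Sylow 2-subgroup of `C_G(y)` inside a conjugate of `S` -/
theorem extremal [Finite G] (S : Sylow 2 G) {y : G} (hy : y * y = 1) :
    ∃ g : G, g * y * g⁻¹ ∈ (S : Subgroup G) ∧ ∀ P : Subgroup G, IsPGroup 2 P →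
      (∀ p ∈ P, p * y = y * p) →
      Nat.card P ≤ Nat.card ((S : Subgroup G) ⊓ centralizer ({g * y * g⁻¹} : Set G) : Subgroup G) := by
  have h2 : Fact (Nat.Prime 2) := ⟨Nat.prime_two⟩
  set N := centralizer ({y} : Set G) with hN
  obtain ⟨P0⟩ : Nonempty (Sylow 2 N) := inferInstance
  set Q : Subgroup G := (P0 : Subgroup N).map N.subtype with hQ
  have hQ2 : IsPGroup 2 Q := P0.isPGroup'.map _
  have hyQ : y ∈ Q := by
    have h3 : pCore 2 N ≤ (P0 : Subgroup N) := Lib.Cores.pCore_le_sylow P0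
    exact Subgroup.map_mono h3 (y_mem_R hy)
  obtain ⟨Q', hQ'⟩ := hQ2.exists_le_sylow
  obtain ⟨g, hg⟩ := MulAction.exists_smul_eq G Q' S
  have hgQ : ∀ x ∈ Q, g * x * g⁻¹ ∈ (S : Subgroup G) := by
    intro x hx
    rw [← hg]
    exact ⟨x, hQ' hx, rfl⟩
  refine ⟨g, hgQ y hyQ, fun P hP hPy => ?_⟩
  have h4 : P ≤ N := fun p hp => mem_centralizer_singleton_iff.mpr (hPy p hp)
  have h5 : IsPGroup 2 (P.subgroupOf N) := hP.comap_of_injective _ N.subtype_injective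
  obtain ⟨P1, hP1⟩ := h5.exists_le_sylow
  have h6 : Nat.card P ≤ Nat.card Q := by
    rw [← Nat.card_congr (subgroupOfEquivOfLe h4).toEquiv, hQ,
      Subgroup.card_map_of_injective N.subtype_injective]
    exact (Subgroup.card_le_of_le hP1).trans (by rw [Sylow.card_eq_multiplicity, Sylow.card_eq_multiplicity])
  refine h6.trans ?_
  refine Nat.card_le_card_of_injective
    (fun x : Q => (⟨g * x * g⁻¹, hgQ x x.2, mem_centralizer_singleton_iff.mpr ?_⟩ :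
      ((S : Subgroup G) ⊓ centralizer ({g * y * g⁻¹} : Set G) : Subgroup G))) ?_
  · obtain ⟨x, z, hz, rfl⟩ := x
    have h7 := mem_centralizer_singleton_iff.mp z.2
    simp only [Subgroup.coe_subtype]
    calc g * (z : G) * g⁻¹ * (g * y * g⁻¹) = g * ((z : G) * y) * g⁻¹ := by group
      _ = g * (y * z) * g⁻¹ := by rw [h7]
      _ = _ := by group
  · intro a b hab
    have h8 : g * (a : G) * g⁻¹ = g * (b : G) * g⁻¹ := congrArg Subtype.val hab
    exact Subtype.ext (mul_left_cancel (mul_right_cancel h8))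

/-- `|O₂(C(y))| |P| ≤ |C(y)|₂` -/
theorem card_mul_le [Finite G] {y : G} {P : Subgroup G} (hP : IsPGroup 2 P) (hPy : ∀ p ∈ P, p * y = y * p)
    (hd : ∀ x ∈ R y, x ∈ P → x = 1) {n : ℕ}
    (hn : ∀ Q : Subgroup G, IsPGroup 2 Q → (∀ q ∈ Q, q * y = y * q) → Nat.card Q ≤ n) :
    Nat.card (R y) * Nat.card P ≤ n := by
  have h1 : P ≤ normalizer (R y : Set G) := fun p hp => le_normalizer_o2 _
    (mem_centralizer_singleton_iff.mpr (hPy p hp))
  have h2 : IsPGroup 2 (R y ⊔ P : Subgroup G) := (R_two y).to_sup_of_normal_left' hP h1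
  have h3 : Nat.card (R y) * Nat.card P ≤ Nat.card (R y ⊔ P : Subgroup G) := by
    rw [← Nat.card_prod]
    refine Nat.card_le_card_of_injective (fun x : R y × P =>
      (⟨x.1 * x.2, mul_mem (le_sup_left (a := R y) x.1.2) (le_sup_right (a := R y) x.2.2)⟩ :
        (R y ⊔ P : Subgroup G))) ?_
    rintro ⟨a, p⟩ ⟨b, q⟩ hab
    have h4 : (a : G) * p = b * q := congrArg Subtype.val hab
    have h5 : (b : G)⁻¹ * a = q * (p : G)⁻¹ := by
      rw [inv_mul_eq_iff_eq_mul, ← mul_assoc, ← h4, mul_inv_cancel_right]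
    have h6 := hd _ (mul_mem (inv_mem b.2) a.2) (h5 ▸ mul_mem q.2 (inv_mem p.2))
    have h7 : (a : G) = b := (inv_mul_eq_one.mp h6).symm
    rw [h7] at h4
    exact Prod.ext (Subtype.ext h7) (Subtype.ext (mul_left_cancel h4))
  refine h3.trans (hn _ h2 ?_)
  intro q hq
  have h8 : R y ⊔ P ≤ centralizer ({y} : Set G) :=
    sup_le (o2_le _) fun p hp => mem_centralizer_singleton_iff.mpr (hPy p hp)
  exact mem_centralizer_singleton_iff.mp (h8 hq)

end Cfsg.Agent.Omega.GTwoFour.Cor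

end

section


/-!
# OMEGA II.d: the end `F₄(q).2` (bb OMEGA #14245), abstract part

`G` of characteristic 2 type, `N` a subgroup (`N = N_G(G₀)`, `G₀ = F₄(q)`), `y ∈ N` an involution (exchanging long and
short), `v` a root involution commuting with `v^y`, `z = v v^y`, `C_G(v) ≤ N`, `O₂(C_N(y)) = ⟨y⟩`, `K` a 2-subgroup
of `C_N(y)` centralising `v` with `z` the square of an element of `K`.  If every `l ∈ C_N(y) ∩ C(v)` with `l⁴ = 1` and
`[l, K] ≤ ⟨z⟩` is `1`, `z` or an involution with `v l` conjugate to `z`, and if `v` is not conjugate to `z`, then we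
have a contradiction (`Abs.false`).
-/

set_option autoImplicit false

namespace Cfsg.Agent.Omega.IId.FFour

open Subgroup Cfsg Cfsg.Agent.ZN Cfsg.Agent.Omega.GTwoFour.Cor

universe u

variable {G : Type u} [Group G]

/-- The elements of `⟨y⟩`, `y` an involution. -/
theorem mem_zpowers_two {y : G} (hy : y * y = 1) {x : G} : x ∈ zpowers y ↔ x = 1 ∨ x = y := by
  constructor
  · rintro ⟨m, rfl⟩
    have h2 : y ^ (2 : ℤ) = 1 := by rw [zpow_two, hy]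
    rcases Int.even_or_odd m with ⟨k, rfl⟩ | ⟨k, rfl⟩
    · left
      change y ^ (k + k) = 1
      rw [← two_mul, zpow_mul, h2, one_zpow]
    · right
      change y ^ (2 * k + 1) = y
      rw [zpow_add, zpow_mul, h2, one_zpow, one_mul, zpow_one]
  · rintro (rfl | rfl)
    · exact one_mem _
    · exact mem_zpowers _

/-- A 2-group `K` acting on a 2-group `R`, `y ∈ R` a central involution of `R ⊔ K`: there is `e ∈ R - ⟨y⟩`, fixed by `K`
modulo `⟨y⟩`, with `e² ∈ ⟨y⟩`. -/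
theorem exists_fixed [Finite G] {R K : Subgroup G} {y : G} (hy : y * y = 1) (hyR : y ∈ R) (hR : IsPGroup 2 R)
    (hK : IsPGroup 2 K) (hRy : ∀ r ∈ R, r * y = y * r) (hKy : ∀ k ∈ K, k * y = y * k)
    (hKR : ∀ k ∈ K, ∀ r ∈ R, k * r * k⁻¹ ∈ R) (hne : ∃ r ∈ R, r ≠ 1 ∧ r ≠ y) :
    ∃ e ∈ R, e ≠ 1 ∧ e ≠ y ∧ (e * e = 1 ∨ e * e = y) ∧ ∀ k ∈ K, k * e * k⁻¹ = e ∨ k * e * k⁻¹ = e * y := by
  have hp : Fact (Nat.Prime 2) := ⟨Nat.prime_two⟩
  have hKn : K ≤ normalizer (R : Set G) := by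
    intro k hk
    rw [mem_normalizer_iff]
    intro r
    refine ⟨fun hr => hKR k hk r hr, fun hr => ?_⟩
    have h1 := hKR k⁻¹ (inv_mem hk) _ hr
    rwa [show k⁻¹ * (k * r * k⁻¹) * k⁻¹⁻¹ = r by group] at h1
  have hP : IsPGroup 2 (K ⊔ R : Subgroup G) := hK.to_sup_of_normal_right' hR hKn
  let P : Subgroup G := K ⊔ R
  have hRP : R ≤ P := le_sup_right
  have hPc : ∀ p ∈ P, p * y = y * p := by
    have h1 : P ≤ centralizer ({y} : Set G) := sup_le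
      (fun k hk => mem_centralizer_singleton_iff.2 (hKy k hk))
      (fun r hr => mem_centralizer_singleton_iff.2 (hRy r hr))
    exact fun p hp => mem_centralizer_singleton_iff.1 (h1 hp)
  have hyP : y ∈ P := hRP hyR
  let Y' : Subgroup P := (zpowers y).subgroupOf P
  have hmem : ∀ x : P, x ∈ Y' ↔ (x : G) = 1 ∨ (x : G) = y := fun x => by
    rw [show (x ∈ Y') = ((x : G) ∈ zpowers y) from rfl, mem_zpowers_two hy]
  have hY'n : Y'.Normal := by
    constructor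
    intro x hx g
    rw [hmem] at hx ⊢
    rcases hx with h | h
    · left
      rw [coe_mul, coe_mul, h, mul_one, coe_inv, mul_inv_cancel]
    · right
      rw [coe_mul, coe_mul, h, hPc g g.2, coe_inv, mul_inv_cancel_right]
  let R' : Subgroup P := R.subgroupOf P
  have hR'n : R'.Normal := by
    constructor
    intro x hx g
    change ((g * x * g⁻¹ : P) : G) ∈ R
    have hg : (g : G) ∈ normalizer (R : Set G) := (sup_le hKn le_normalizer : P ≤ normalizer (R : Set G)) g.2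
    exact (mem_normalizer_iff.1 hg _).1 hx
  let M : Subgroup (P ⧸ Y') := R'.map (QuotientGroup.mk' Y')
  have hMn : M.Normal := hR'n.map _ (QuotientGroup.mk'_surjective Y')
  have hnil : Group.IsNilpotent (P ⧸ Y') := (hP.to_quotient Y').isNilpotent
  have hMne : M ≠ ⊥ := by
    intro h0
    obtain ⟨r, hr, hr1, hr2⟩ := hne
    have h1 : QuotientGroup.mk' Y' ⟨r, hRP hr⟩ ∈ M := ⟨⟨r, hRP hr⟩, hr, rfl⟩
    rw [h0, mem_bot, QuotientGroup.mk'_apply, QuotientGroup.eq_one_iff, hmem] at h1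
    rcases h1 with h1 | h1
    · exact hr1 h1
    · exact hr2 h1
  have h1 := Lib.NormalAbelian.normal_inf_center_ne_bot M hMne
  obtain ⟨⟨m, hm⟩, hm1⟩ := ne_bot_iff_exists_ne_one.mp h1
  obtain ⟨⟨w, hwP⟩, hwR, rfl⟩ := hm.1
  have hwR' : w ∈ R := hwR
  have hw1 : w ≠ 1 ∧ w ≠ y := by
    have h2 : (⟨w, hwP⟩ : P) ∉ Y' := by
      intro h
      apply hm1
      apply Subtype.ext
      change QuotientGroup.mk' Y' ⟨w, hwP⟩ = 1
      rw [QuotientGroup.mk'_apply, QuotientGroup.eq_one_iff]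
      exact h
    rw [hmem] at h2
    exact not_or.1 h2
  have hwK : ∀ k ∈ K, k * w * k⁻¹ = w ∨ k * w * k⁻¹ = w * y := by
    intro k hk
    have hkP : k ∈ P := (le_sup_left : K ≤ P) hk
    have h2 := mem_center_iff.mp hm.2 (QuotientGroup.mk' Y' ⟨k, hkP⟩)
    rw [← map_mul, ← map_mul, QuotientGroup.mk'_apply, QuotientGroup.mk'_apply, QuotientGroup.eq, hmem] at h2
    have h3 : (k * w)⁻¹ * (w * k) = 1 ∨ (k * w)⁻¹ * (w * k) = y := h2
    rcases h3 with h3 | h3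
    · left
      rw [inv_mul_eq_one] at h3
      rw [h3, mul_inv_cancel_right]
    · right
      have h4 : w * k = k * w * y := by rw [← h3, mul_inv_cancel_left]
      have h5 : k * w = w * k * y := by rw [h4, mul_assoc, hy, mul_one]
      rw [h5, mul_assoc, ← hKy k⁻¹ (inv_mem hk), ← mul_assoc, mul_inv_cancel_right]
  -- powers
  have hpow : ∃ n : ℕ, w ^ 2 ^ n = 1 ∨ w ^ 2 ^ n = y := by
    obtain ⟨n, hn⟩ := hR ⟨w, hwR'⟩
    exact ⟨n, Or.inl (by have := congrArg Subtype.val hn; exact this)⟩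
  classical
  have hmin := Nat.find_spec hpow
  have hn0 : Nat.find hpow ≠ 0 := by
    intro h0
    rw [h0, pow_zero, pow_one] at hmin
    rcases hmin with h | h
    · exact hw1.1 h
    · exact hw1.2 h
  obtain ⟨n, hn⟩ := Nat.exists_eq_succ_of_ne_zero hn0
  have hlt := Nat.find_min hpow (show n < Nat.find hpow by omega)
  rw [hn, pow_succ, pow_mul, pow_two] at hmin
  refine ⟨w ^ 2 ^ n, pow_mem hwR' _, fun h => hlt (Or.inl h), fun h => hlt (Or.inr h), hmin, fun k hk => ?_⟩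
  have h6 : k * w ^ 2 ^ n * k⁻¹ = (k * w * k⁻¹) ^ 2 ^ n := by rw [conj_pow]
  rw [h6]
  rcases hwK k hk with h | h
  · left
    rw [h]
  · rw [h, (show Commute w y from hRy w hwR').mul_pow]
    rcases Nat.eq_zero_or_pos n with rfl | hpos
    · right
      rw [pow_zero, pow_one, pow_one]
    · left
      have h7 : y ^ 2 ^ n = 1 := by
        obtain ⟨m, rfl⟩ := Nat.exists_eq_succ_of_ne_zero hpos.ne'
        rw [pow_succ', pow_mul, pow_two, hy, one_pow]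
      rw [h7, mul_one]

/-- The data. -/
structure Abs (N K : Subgroup G) (y v z : G) : Prop where
  yy : y * y = 1
  y1 : y ≠ 1
  yN : y ∈ N
  vv : v * v = 1
  zdef : z = v * (y * v * y)
  com : v * (y * v * y) = y * v * y * v
  z1 : z ≠ 1
  hC : ∀ g, g * v = v * g → g ∈ N
  hD : ∀ Q : Subgroup G, IsPGroup 2 Q → (∀ x ∈ Q, x ∈ N ∧ x * y = y * x) →
    (∀ k ∈ N, k * y = y * k → ∀ x ∈ Q, k * x * k⁻¹ ∈ Q) → ∀ x ∈ Q, x = 1 ∨ x = y
  K2 : IsPGroup 2 K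
  KN : ∀ k ∈ K, k ∈ N
  Ky : ∀ k ∈ K, k * y = y * k
  Kv : ∀ k ∈ K, k * v = v * k
  hz : ∃ t ∈ K, t * t = z
  star : ∀ l ∈ N, l * y = y * l → l * v = v * l → l * l * (l * l) = 1 →
    (∀ k ∈ K, k * l * k⁻¹ = l ∨ k * l * k⁻¹ = l * z) →
    l = 1 ∨ l = z ∨ (l * l = 1 ∧ ∃ g, g * (v * l) * g⁻¹ = z)
  nc : ∀ g, g * v * g⁻¹ ≠ z

namespace Abs

variable {N K : Subgroup G} {y v z : G}

theorem yvy (h : Abs N K y v z) : y * z * y = z := by
  rw [h.zdef]
  calc y * (v * (y * v * y)) * y = y * v * y * v * (y * y) := by group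
    _ = v * (y * v * y) := by rw [h.yy, mul_one, ← h.com]

theorem zy (h : Abs N K y v z) : z * y = y * z := by
  calc z * y = y * y * z * y := by rw [h.yy, one_mul]
    _ = y * (y * z * y) := by group
    _ = y * z := by rw [h.yvy]

theorem zv (h : Abs N K y v z) : z * v = v * z := by
  rw [h.zdef]
  calc v * (y * v * y) * v = v * (y * v * y * v) := by group
    _ = v * (v * (y * v * y)) := by rw [h.com]

theorem vyv (h : Abs N K y v z) : v * y * v = y * z := by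
  rw [h.zdef, h.com]
  calc v * y * v = (y * y) * v * y * v := by rw [h.yy, one_mul]
    _ = y * (y * v * y * v) := by group

theorem zz (h : Abs N K y v z) : z * z = 1 := by
  have h1 : z = y * (v * y * v) := by rw [h.vyv, ← mul_assoc, h.yy, one_mul]
  have h2 : v * y * v * (v * y * v) = 1 := by
    calc v * y * v * (v * y * v) = v * y * (v * v) * y * v := by group
      _ = v * (y * y) * v := by rw [h.vv, mul_one, mul_assoc v y y]
      _ = 1 := by rw [h.yy, mul_one, h.vv]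
  have h3 : y * (v * y * v) = v * y * v * y := by
    rw [h.vyv, mul_assoc, h.zy]
  calc z * z = y * (v * y * v) * (v * y * v * y) := by rw [← h3, ← h1]
    _ = y * (v * y * v * (v * y * v)) * y := by group
    _ = 1 := by rw [h2, mul_one, h.yy]

theorem v_inv (h : Abs N K y v z) : v⁻¹ = v := inv_eq_of_mul_eq_one_left h.vv
theorem y_inv (h : Abs N K y v z) : y⁻¹ = y := inv_eq_of_mul_eq_one_left h.yy
theorem z_inv (h : Abs N K y v z) : z⁻¹ = z := inv_eq_of_mul_eq_one_left h.zz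

theorem vN (h : Abs N K y v z) : v ∈ N := h.hC v rfl

variable [Finite G]

theorem inf (h : Abs N K y v z) : ∀ x ∈ R y, x ∈ N → x = 1 ∨ x = y := by
  intro x hx hxN
  refine h.hD (R y ⊓ N) ((R_two y).to_le inf_le_left) (fun x hx => ⟨hx.2, R_cen hx.1⟩) ?_ x ⟨hx, hxN⟩
  intro k hk hky x hx
  exact ⟨R_norm hky hx.1, N.mul_mem (N.mul_mem hk hx.2) (N.inv_mem hk)⟩

/-- An element `x` of `C_R(z)` with `v x v ∈ R` is trivial. -/
theorem cap (h : Abs N K y v z) : ∀ x ∈ R y, x * z = z * x → v * x * v ∈ R y → x = 1 := by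
  -- `X = E ⊓ E^v`
  let X : Subgroup G :=
    { carrier := {x | x ∈ R y ∧ x * z = z * x ∧ v * x * v ∈ R y}
      mul_mem' := by
        rintro a b ⟨a1, a2, a3⟩ ⟨b1, b2, b3⟩
        refine ⟨mul_mem a1 b1, ?_, ?_⟩
        · rw [mul_assoc, b2, ← mul_assoc, a2, mul_assoc]
        · have e : v * (a * b) * v = v * a * v * (v * b * v) := by
            calc v * (a * b) * v = v * a * 1 * b * v := by group
              _ = v * a * (v * v) * b * v := by rw [h.vv]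
              _ = _ := by group
          rw [e]
          exact mul_mem a3 b3
      one_mem' := ⟨one_mem _, by rw [one_mul, mul_one], by rw [mul_one, h.vv]; exact one_mem _⟩
      inv_mem' := by
        rintro a ⟨a1, a2, a3⟩
        refine ⟨(R y).inv_mem a1, ?_, ?_⟩
        · rw [inv_mul_eq_iff_eq_mul, ← mul_assoc, a2, mul_inv_cancel_right]
        · have e : v * a⁻¹ * v = (v * a * v)⁻¹ := by
            rw [mul_inv_rev, mul_inv_rev, h.v_inv]; group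
          rw [e]
          exact (R y).inv_mem a3 }
  have hX : ∀ x, x ∈ X ↔ x ∈ R y ∧ x * z = z * x ∧ v * x * v ∈ R y := fun _ => Iff.rfl
  have hXv : ∀ x ∈ X, v * x * v ∈ X := by
    rintro x ⟨h1, h2, h3⟩
    refine ⟨h3, ?_, ?_⟩
    · calc v * x * v * z = v * x * (v * z) := by group
        _ = v * (x * z) * v := by rw [← h.zv]; group
        _ = v * z * x * v := by rw [h2]; group
        _ = z * (v * x * v) := by rw [← h.zv]; group
    · have e : v * (v * x * v) * v = x := by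
        calc v * (v * x * v) * v = v * v * x * (v * v) := by group
          _ = x := by rw [h.vv, one_mul, mul_one]
      rw [e]
      exact h1
  have hX2 : IsPGroup 2 X := (R_two y).to_le fun x hx => hx.1
  -- elements of `X` commuting with `v`
  have hfix : ∀ x ∈ X, x * v = v * x → x = 1 := by
    intro x hx hxv
    rcases h.inf x hx.1 (h.hC x hxv) with h1 | h1
    · exact h1
    · exfalso
      -- `x = y` commutes with `v`
      rw [h1] at hxv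
      apply h.z1
      rw [h.zdef, hxv]
      calc v * (v * y * y) = v * v * (y * y) := by group
        _ = 1 := by rw [h.vv, h.yy, mul_one]
  intro x hx1 hx2 hx3
  by_contra hx
  have hxX : x ∈ X := ⟨hx1, hx2, hx3⟩
  -- `K = ⟨v⟩` acts on `X`
  have hV2 : IsPGroup 2 (zpowers v) := by
    intro ⟨n, hn⟩
    refine ⟨1, Subtype.ext ?_⟩
    change n ^ 2 ^ 1 = 1
    rcases (mem_zpowers_two h.vv).1 hn with rfl | rfl
    · rw [one_pow]
    · rw [pow_one, pow_two, h.vv]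
  have hVn : zpowers v ≤ normalizer (X : Set G) := by
    rw [zpowers_le, mem_normalizer_iff]
    intro r
    rw [h.v_inv]
    refine ⟨fun hr => hXv r hr, fun hr => ?_⟩
    have h1 := hXv _ hr
    have e : v * (v * r * v) * v = r := by
      calc v * (v * r * v) * v = v * v * r * (v * v) := by group
        _ = r := by rw [h.vv, one_mul, mul_one]
    rwa [e] at h1
  have hp : Fact (Nat.Prime 2) := ⟨Nat.prime_two⟩
  have hP : IsPGroup 2 (zpowers v ⊔ X : Subgroup G) := hV2.to_sup_of_normal_right' hX2 hVn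
  let P : Subgroup G := zpowers v ⊔ X
  let X' : Subgroup P := X.subgroupOf P
  have hXn : X'.Normal := by
    constructor
    intro x hx g
    change ((g * x * g⁻¹ : P) : G) ∈ X
    have hg : (g : G) ∈ normalizer (X : Set G) := (sup_le hVn le_normalizer : P ≤ normalizer (X : Set G)) g.2
    exact (mem_normalizer_iff.1 hg _).1 hx
  have hX'ne : X' ≠ ⊥ := by
    intro h0
    have h1 : (⟨x, (le_sup_right : X ≤ P) hxX⟩ : P) ∈ X' := hxX
    rw [h0, mem_bot] at h1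
    exact hx (congrArg Subtype.val h1)
  have hnil : Group.IsNilpotent P := hP.isNilpotent
  have h1 := Lib.NormalAbelian.normal_inf_center_ne_bot X' hX'ne
  obtain ⟨⟨⟨m, hmP⟩, hm⟩, hm1⟩ := ne_bot_iff_exists_ne_one.mp h1
  have h2 := mem_center_iff.mp hm.2 ⟨v, (le_sup_left : zpowers v ≤ P) (mem_zpowers v)⟩
  have h3 : v * m = m * v := congrArg Subtype.val h2
  have h4 : m = 1 := hfix m hm.1 h3.symm
  apply hm1
  apply Subtype.ext
  exact Subtype.ext h4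

/-- **The contradiction.** -/
theorem false (h : Abs N K y v z) (hG : IsCharacteristicTwoType G) : False := by
  obtain ⟨t, ht, htz⟩ := h.hz
  have hyR : y ∈ R y := y_mem_R h.yy
  -- `R y ≠ ⟨y⟩`
  have hne : ∃ r ∈ R y, r ≠ 1 ∧ r ≠ y := by
    by_contra hcon
    push Not at hcon
    have h1 : t ∈ R y := by
      refine R_self hG h.yy h.y1 (h.Ky t ht) fun r hr => ?_
      by_cases hr1 : r = 1
      · rw [hr1, one_mul, mul_one]
      · rw [hcon r hr hr1]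
        exact h.Ky t ht
    by_cases ht1 : t = 1
    · apply h.z1
      rw [← htz, ht1, one_mul]
    · apply h.z1
      rw [← htz, hcon t h1 ht1, h.yy]
  obtain ⟨e, heR, he1, hey, hee, heK⟩ := exists_fixed h.yy hyR (R_two y) h.K2 (fun r hr => R_cen hr) h.Ky
    (fun k hk r hr => R_norm (h.Ky k hk) hr) hne
  have ey : e * y = y * e := R_cen heR
  -- `e` commutes with `z`
  have hez : e * z = z * e := by
    have h1 : t * t * e * (t * t)⁻¹ = e := by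
      have h2 : t * t * e * (t * t)⁻¹ = t * (t * e * t⁻¹) * t⁻¹ := by group
      rw [h2]
      rcases heK t ht with h3 | h3
      · rw [h3, h3]
      · rw [h3]
        have h4 : t * (e * y) * t⁻¹ = t * e * t⁻¹ * (t * y * t⁻¹) := by group
        rw [h4, h3, h.Ky t ht, mul_inv_cancel_right, mul_assoc, h.yy, mul_one]
    rw [htz] at h1
    calc e * z = (z * e * z⁻¹) * z := by rw [h1]
      _ = z * e := by group
  -- `R` is normalised by `z`, `v R v` by everything in `C(y, z)`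
  have vv2 : ∀ a, v * (v * a * v) * v = a := fun a => by
    calc v * (v * a * v) * v = v * v * a * (v * v) := by group
      _ = a := by rw [h.vv, one_mul, mul_one]
  have vmul : ∀ a b, v * (a * b) * v = v * a * v * (v * b * v) := fun a b => by
    calc v * (a * b) * v = v * a * 1 * b * v := by group
      _ = v * a * (v * v) * b * v := by rw [h.vv]
      _ = _ := by group
  -- `v e v` commutes with `y`
  have hvz : ∀ a, a * z = z * a → v * a * v * z = z * (v * a * v) := fun a ha => by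
    calc v * a * v * z = v * a * (v * z) := by group
      _ = v * (a * z) * v := by rw [← h.zv]; group
      _ = v * z * a * v := by rw [ha]; group
      _ = z * (v * a * v) := by rw [← h.zv]; group
  have hvyz : ∀ a, a * y = y * a → v * a * v * (y * z) = y * z * (v * a * v) := fun a ha => by
    rw [← h.vyv, ← vmul, ha, vmul]
  have hvy : ∀ a, a * y = y * a → a * z = z * a → v * a * v * y = y * (v * a * v) := fun a ha hb => by
    have h1 := hvyz a ha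
    have h2 := hvz a hb
    have e1 : y = y * z * z := by rw [mul_assoc, h.zz, mul_one]
    calc v * a * v * y = v * a * v * (y * z * z) := by rw [← e1]
      _ = v * a * v * (y * z) * z := by group
      _ = y * z * (v * a * v) * z := by rw [h1]
      _ = y * z * (v * a * v * z) := by group
      _ = y * z * (z * (v * a * v)) := by rw [h2]
      _ = y * (z * z) * (v * a * v) := by group
      _ = _ := by rw [h.zz, mul_one]
  -- `[e, v e v] = 1`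
  have hcom : ∀ a ∈ R y, a * z = z * a → ∀ b ∈ R y, b * z = z * b → a * (v * b * v) = v * b * v * a := by
    intro a ha haz b hb hbz
    obtain ⟨c, hc⟩ : ∃ c, c = v * b * v := ⟨_, rfl⟩
    rw [← hc]
    have hay := R_cen ha
    have hby := R_cen hb
    have hcy : c * y = y * c := hc ▸ hvy b hby hbz
    have hcz : c * z = z * c := hc ▸ hvz b hbz
    have h1 : a * c * a⁻¹ * c⁻¹ = 1 := by
      apply h.cap
      · have h2 : c * a⁻¹ * c⁻¹ ∈ R y := R_norm hcy (inv_mem ha)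
        have h3 := mul_mem ha h2
        rwa [show a * (c * a⁻¹ * c⁻¹) = a * c * a⁻¹ * c⁻¹ by group] at h3
      · have ca : Commute a z := haz
        have cc : Commute c z := hcz
        exact ((ca.mul_left cc).mul_left ca.inv_left).mul_left cc.inv_left
      · -- `v [a, c] v = [v a v, b]`
        have h4 : v * (a * c * a⁻¹ * c⁻¹) * v = (v * a * v) * b * (v * a * v)⁻¹ * b⁻¹ := by
          have h5 : v * c * v = b := by rw [hc, vv2]
          have h6 : v * a⁻¹ * v = (v * a * v)⁻¹ := by rw [mul_inv_rev, mul_inv_rev, h.v_inv]; group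
          have h7 : v * c⁻¹ * v = b⁻¹ := by
            have h71 : v * c⁻¹ * v = (v * c * v)⁻¹ := by rw [mul_inv_rev, mul_inv_rev, h.v_inv]; group
            rw [h71, h5]
          rw [vmul, vmul, vmul, h5, h6, h7]
        rw [h4]
        have h8 : v * a * v * y = y * (v * a * v) := hvy a hay haz
        exact mul_mem (R_norm h8 hb) (inv_mem hb)
    calc a * c = (a * c * a⁻¹ * c⁻¹) * (c * a) := by group
      _ = c * a := by rw [h1, one_mul]
  set w := e * (v * e * v) with hw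
  have hec : e * (v * e * v) = v * e * v * e := hcom e heR hez e heR hez
  have hwv : w * v = v * w := by
    calc w * v = e * (v * e) * (v * v) := by rw [hw]; group
      _ = v * (v * e * v * e) := by rw [h.vv, mul_one]; calc
          e * (v * e) = e * (v * e) * 1 := by rw [mul_one]
          _ = e * (v * e) * (v * v) := by rw [h.vv]
          _ = e * (v * e * v) * v := by group
          _ = v * e * v * e * v := by rw [hec]
          _ = v * (e * v * e * v) := by group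
          _ = v * (e * (v * e * v)) := by group
          _ = v * (v * e * v * e) := by rw [hec]
      _ = v * w := by rw [← hec]
  have hwN : w ∈ N := h.hC w hwv
  have hwy : w * y = y * w := by
    have h1 : Commute e y := ey
    have h2 : Commute (v * e * v) y := hvy e ey hez
    exact h1.mul_left h2
  have hww : w * w = e * e * (v * (e * e) * v) := by
    rw [hw, vmul]
    calc e * (v * e * v) * (e * (v * e * v)) = e * (v * e * v * e) * (v * e * v) := by group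
      _ = e * (e * (v * e * v)) * (v * e * v) := by rw [← hec]
      _ = _ := by group
  have hww' : (e * e = 1 ∧ w * w = 1) ∨ (e * e = y ∧ w * w = z) := by
    rcases hee with h1 | h1
    · left
      exact ⟨h1, by rw [hww, h1, mul_one, h.vv, mul_one]⟩
    · right
      refine ⟨h1, ?_⟩
      rw [hww, h1, h.vyv, ← mul_assoc, h.yy, one_mul]
  have hw4 : w * w * (w * w) = 1 := by
    rcases hww' with ⟨-, h1⟩ | ⟨-, h1⟩
    · rw [h1, mul_one]
    · rw [h1, h.zz]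
  have hwK : ∀ k ∈ K, k * w * k⁻¹ = w ∨ k * w * k⁻¹ = w * z := by
    intro k hk
    have hkv := h.Kv k hk
    have hkv' : v * k⁻¹ = k⁻¹ * v := by
      rw [eq_inv_mul_iff_mul_eq, ← mul_assoc, hkv, mul_inv_cancel_right]
    have h1 : k * w * k⁻¹ = k * e * k⁻¹ * (v * (k * e * k⁻¹) * v) := by
      calc k * w * k⁻¹ = k * e * k⁻¹ * ((k * v) * e * (v * k⁻¹)) := by rw [hw]; group
        _ = k * e * k⁻¹ * ((v * k) * e * (k⁻¹ * v)) := by rw [hkv, hkv']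
        _ = _ := by group
    rw [h1]
    rcases heK k hk with h2 | h2
    · left
      rw [h2]
    · right
      rw [h2, vmul, h.vyv]
      have h3 : v * e * v * y = y * (v * e * v) := hvy e ey hez
      calc e * y * (v * e * v * (y * z)) = e * (y * (v * e * v)) * (y * z) := by group
        _ = e * (v * e * v * y) * (y * z) := by rw [h3]
        _ = e * (v * e * v) * (y * y) * z := by group
        _ = w * z := by rw [h.yy, mul_one]
  rcases h.star w hwN hwy hwv hw4 hwK with h1 | h1 | ⟨h1, g, hg⟩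
  · -- `w = 1`
    apply he1
    apply h.cap e heR hez
    have h2 : v * e * v = e⁻¹ := (eq_inv_of_mul_eq_one_right (hw ▸ h1))
    rw [h2]
    exact inv_mem heR
  · -- `w = z`
    apply hey
    have h2 : y * e ∈ R y := mul_mem hyR heR
    have h3 : y * e = 1 := by
      apply h.cap _ h2
      · have c1 : Commute y z := h.zy.symm
        have c2 : Commute e z := hez
        exact c1.mul_left c2
      · have h4 : v * (y * e) * v = y * (z * (v * e * v)) := by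
          rw [vmul, h.vyv, mul_assoc]
        have h5 : v * e * v = e⁻¹ * z := by
          rw [eq_inv_mul_iff_mul_eq, ← hw, h1]
        have h6 : v * (y * e) * v = y * e⁻¹ := by
          rw [h4, h5]
          have h7 : z * (e⁻¹ * z) = e⁻¹ := by
            have c2 : Commute e⁻¹ z := (show Commute e z from hez).inv_left
            rw [c2.eq, ← mul_assoc, h.zz, one_mul]
          rw [h7]
        rw [h6]
        exact mul_mem hyR (inv_mem heR)
    rw [eq_comm, ← h.y_inv]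
    exact inv_eq_of_mul_eq_one_right h3
  · -- `w` an involution, `v w` conjugate to `z`
    have hee1 : e * e = 1 := by
      rcases hww' with ⟨h2, -⟩ | ⟨-, h2⟩
      · exact h2
      · exact absurd (h2.symm.trans h1) h.z1
    have hei : e⁻¹ = e := inv_eq_of_mul_eq_one_left hee1
    -- `e⁻¹ v e = v w`
    have h2 : e * v * e⁻¹ = v * w := by
      rw [hei, hw, hec]
      calc e * v * e = v * v * (e * v * e) := by rw [h.vv, one_mul]
        _ = v * (v * e * v * e) := by group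
    apply h.nc (g * e)
    rw [← hg, ← h2]
    group

end Abs

end Cfsg.Agent.Omega.IId.FFour

end

section


/-!
# The pair of type `G₂(4)`: input structure, coordinates

`X : Tup F F → G` : the Sylow 2-subgroup `T` of `G₂(F)`, `|F| = 4`, in hexagonal coordinates
(`x1 .. x6`, odd roots short, even roots long; `x4` = highest root); `ja`, `jb` : the two fundamental
Weyl elements (`ja` at `x1`, `jb` at `x6`); `f` : the field involution.
-/

set_option autoImplicit false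

namespace Cfsg.Agent.Omega.GTwoFour

open Cfsg.Agent.HexRec

variable {F : Type*} [Field F]

/-- product law of the Sylow 2-subgroup of `G₂(F)` in characteristic two -/
def mu (a b : Tup F F) : Tup F F where
  a1 := a.a1 + b.a1
  a2 := a.a2 + b.a2 + a.a6 * b.a1 ^ 3 + b.a1 * a.a3 + b.a1 ^ 2 * a.a5
  a3 := a.a3 + b.a3 + a.a6 * b.a1 ^ 2
  a4 := a.a4 + b.a4 + a.a6 ^ 2 * b.a1 ^ 3 + b.a1 * a.a5 ^ 2 + a.a6 * b.a2 +
    a.a6 * (b.a1 ^ 2 * a.a5) + b.a3 * a.a5 + a.a6 * (b.a3 * b.a1)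
  a5 := a.a5 + b.a5 + a.a6 * b.a1
  a6 := a.a6 + b.a6

/-- Frobenius on the coordinates -/
def fr (a : Tup F F) : Tup F F := ⟨a.a1 ^ 2, a.a2 ^ 2, a.a3 ^ 2, a.a4 ^ 2, a.a5 ^ 2, a.a6 ^ 2⟩

/-- the element with a single coordinate -/
def e1 (t : F) : Tup F F := ⟨t, 0, 0, 0, 0, 0⟩
def e2 (t : F) : Tup F F := ⟨0, t, 0, 0, 0, 0⟩
def e3 (t : F) : Tup F F := ⟨0, 0, t, 0, 0, 0⟩
def e4 (t : F) : Tup F F := ⟨0, 0, 0, t, 0, 0⟩
def e5 (t : F) : Tup F F := ⟨0, 0, 0, 0, t, 0⟩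
def e6 (t : F) : Tup F F := ⟨0, 0, 0, 0, 0, t⟩

/-- The pair of type `G₂(4)` with a field involution `f`. -/
structure Dat {G : Type*} [Group G] (X : Tup F F → G) (f ja jb : G) : Prop where
  card : Nat.card F = 4
  inj : Function.Injective X
  mul : ∀ a b, X a * X b = X (mu a b)
  ff : f * f = 1
  fX : ∀ a, f * X a * f = X (fr a)
  f_not : ∀ a, f ≠ X a
  fA : f * ja = ja * f
  fB : f * jb = jb * f
  nA : ∀ a2 a3 a4 a5 a6 : F, ja * X ⟨0, a2, a3, a4, a5, a6⟩ =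
    X ⟨0, a6, a5, a4 + a2 * a6 + a3 * a5, a3, a2⟩ * ja
  nB : ∀ a1 a2 a3 a4 a5 : F, jb * X ⟨a1, a2, a3, a4, a5, 0⟩ =
    X ⟨a5, a4 + a3 * a5 + a1 * a5 ^ 2, a3, a2 + a1 * a3 + a1 ^ 2 * a5, a1, 0⟩ * jb

/-! ### the field with four elements -/

section field

variable (hF : Nat.card F = 4)
include hF

omit [Field F] in
theorem fin : Finite F := Nat.finite_of_card_ne_zero (by rw [hF]; norm_num)

theorem pow4 (t : F) : t ^ 4 = t := by
  have := fin hF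
  have := Fintype.ofFinite F
  have h := FiniteField.pow_card t
  rwa [← Nat.card_eq_fintype_card, hF] at h

theorem two : (2 : F) = 0 := by
  have := fin hF
  have := Fintype.ofFinite F
  have h3 : (4 : F) = 0 := by
    have := Nat.cast_card_eq_zero F
    rw [← Nat.card_eq_fintype_card, hF] at this
    exact_mod_cast this
  have h4 : (2 : F) * 2 = 0 := by rw [← h3]; norm_num
  exact mul_self_eq_zero.mp h4

theorem addself (t : F) : t + t = 0 := by linear_combination t * two hF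

theorem eqadd {s t : F} (h : s + t = 0) : s = t := by linear_combination h - t * two hF

theorem cube {t : F} (ht : t ≠ 0) : t ^ 3 = 1 := by
  have h := pow4 hF t
  have h2 : t * (t ^ 3 - 1) = 0 := by linear_combination h
  rcases mul_eq_zero.mp h2 with h3 | h3
  · exact absurd h3 ht
  · linear_combination h3

theorem exists_w : ∃ w : F, w ^ 2 + w + 1 = 0 := by
  have := fin hF
  have := Fintype.ofFinite F
  classical
  have h : ∃ w : F, w ∉ ({0, 1} : Finset F) := by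
    by_contra hcon
    push Not at hcon
    have h1 : (Finset.univ : Finset F) ⊆ {0, 1} := fun x _ => hcon x
    have h2 := Finset.card_le_card h1
    have h3 : ({0, 1} : Finset F).card ≤ 2 := Finset.card_le_two
    rw [Finset.card_univ, ← Nat.card_eq_fintype_card, hF] at h2
    omega
  obtain ⟨w, hw⟩ := h
  simp only [Finset.mem_insert, Finset.mem_singleton, not_or] at hw
  refine ⟨w, ?_⟩
  have h1 := cube hF hw.1
  have h2 : (w - 1) * (w ^ 2 + w + 1) = 0 := by linear_combination h1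
  rcases mul_eq_zero.mp h2 with h3 | h3
  · exact absurd (sub_eq_zero.mp h3) hw.2
  · exact h3

/-- an element `c` of the prime field is `s ^ 2 + s` -/
theorem exists_tr {c : F} (h : c ^ 2 + c = 0) : ∃ s : F, s ^ 2 + s = c := by
  have h1 : c * (c + 1) = 0 := by linear_combination h
  rcases mul_eq_zero.mp h1 with h2 | h2
  · exact ⟨0, by rw [h2]; ring⟩
  · obtain ⟨w, hw⟩ := exists_w hF
    refine ⟨w, ?_⟩
    linear_combination hw - h2

end field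

end Cfsg.Agent.Omega.GTwoFour

end

section


/-!
# `SL₂(4)`: the facts used for the identification of the pair of type `G₂(4)`
-/

set_option autoImplicit false

namespace Cfsg.Agent.Omega.GTwoFour.Id

open Subgroup
open scoped MatrixGroups

variable {F : Type*} [Field F]

/-- `[[1,t],[0,1]]` -/
def up (t : F) : SL(2, F) := ⟨!![1, t; 0, 1], by simp [Matrix.det_fin_two]⟩

/-- `[[0,1],[-1,0]]` -/
def jj : SL(2, F) := ⟨!![0, 1; -1, 0], by simp [Matrix.det_fin_two]⟩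

theorem ext2 {M N : SL(2, F)} (h00 : M.1 0 0 = N.1 0 0) (h01 : M.1 0 1 = N.1 0 1)
    (h10 : M.1 1 0 = N.1 1 0) (h11 : M.1 1 1 = N.1 1 1) : M = N := by
  apply Subtype.ext
  ext i j
  fin_cases i <;> fin_cases j <;> assumption

theorem mul_app (M N : SL(2, F)) (i j : Fin 2) : (M * N).1 i j = M.1 i 0 * N.1 0 j + M.1 i 1 * N.1 1 j := by
  change (M.1 * N.1) i j = _
  rw [Matrix.mul_apply, Fin.sum_univ_two]

theorem det_app (M : SL(2, F)) : M.1 0 0 * M.1 1 1 - M.1 0 1 * M.1 1 0 = 1 := by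
  rw [← Matrix.det_fin_two, M.2]

theorem inv_app (M : SL(2, F)) : (M⁻¹).1 0 0 = M.1 1 1 ∧ (M⁻¹).1 0 1 = -M.1 0 1 ∧ (M⁻¹).1 1 0 = -M.1 1 0 ∧
    (M⁻¹).1 1 1 = M.1 0 0 := by
  rw [Matrix.SpecialLinearGroup.SL2_inv_expl]
  simp

theorem one_app : (1 : SL(2, F)).1 0 0 = 1 ∧ (1 : SL(2, F)).1 0 1 = 0 ∧ (1 : SL(2, F)).1 1 0 = 0 ∧
    (1 : SL(2, F)).1 1 1 = 1 := by
  simp

theorem up_app (t : F) : (up t).1 0 0 = 1 ∧ (up t).1 0 1 = t ∧ (up t).1 1 0 = 0 ∧ (up t).1 1 1 = 1 := by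
  simp [up]

theorem jj_app : (jj : SL(2, F)).1 0 0 = 0 ∧ (jj : SL(2, F)).1 0 1 = 1 ∧ (jj : SL(2, F)).1 1 0 = -1 ∧
    (jj : SL(2, F)).1 1 1 = 0 := by
  simp [jj]

theorem up_add (s t : F) : up (s + t) = up s * up t := by
  obtain ⟨a1, a2, a3, a4⟩ := up_app s
  obtain ⟨b1, b2, b3, b4⟩ := up_app t
  obtain ⟨c1, c2, c3, c4⟩ := up_app (s + t)
  apply ext2 <;> simp only [mul_app, a1, a2, a3, a4, b1, b2, b3, b4, c1, c2, c3, c4] <;> ring

theorem up_zero : up (0 : F) = 1 := by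
  obtain ⟨a1, a2, a3, a4⟩ := up_app (0 : F)
  obtain ⟨b1, b2, b3, b4⟩ := one_app (F := F)
  apply ext2 <;> simp only [a1, a2, a3, a4, b1, b2, b3, b4]

theorem up_inj {s t : F} (h : up s = up t) : s = t := by
  rw [← (up_app s).2.1, h, (up_app t).2.1]

/-- `SL₂(F)` is generated by `up F` and `jj` -/
theorem mem_of_up_jj {K : Subgroup SL(2, F)} (h1 : ∀ t, up t ∈ K) (h2 : jj ∈ K) (M : SL(2, F)) : M ∈ K := by
  have low : ∀ c : F, jj * up (-c) * (jj)⁻¹ ∈ K := fun c => K.mul_mem (K.mul_mem h2 (h1 _)) (K.inv_mem h2)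
  have key : ∀ M : SL(2, F), M.1 1 0 ≠ 0 → M ∈ K := by
    intro M hM
    have e : M = up ((M.1 0 0 - 1) / M.1 1 0) * (jj * up (-M.1 1 0) * (jj)⁻¹) *
        up ((M.1 1 1 - 1) / M.1 1 0) := by
      obtain ⟨a1, a2, a3, a4⟩ := up_app ((M.1 0 0 - 1) / M.1 1 0)
      obtain ⟨b1, b2, b3, b4⟩ := up_app ((M.1 1 1 - 1) / M.1 1 0)
      obtain ⟨c1, c2, c3, c4⟩ := up_app (-M.1 1 0)
      obtain ⟨j1, j2, j3, j4⟩ := jj_app (F := F)
      obtain ⟨i1, i2, i3, i4⟩ := inv_app (jj : SL(2, F))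
      have hd := det_app M
      apply ext2 <;> simp only [mul_app, a1, a2, a3, a4, b1, b2, b3, b4, c1, c2, c3, c4, j1, j2, j3, j4, i1, i2,
        i3, i4] <;> field_simp
      · ring
      · linear_combination (-M.1 1 0) * hd
      · ring
      · ring
    rw [e]
    exact K.mul_mem (K.mul_mem (h1 _) (low _)) (h1 _)
  by_cases hM : M.1 1 0 = 0
  · have hd := det_app M
    rw [hM, mul_zero, sub_zero] at hd
    have h0 : M.1 0 0 ≠ 0 := left_ne_zero_of_mul_eq_one hd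
    have h3 : jj * M ∈ K := by
      apply key
      obtain ⟨j1, j2, j3, j4⟩ := jj_app (F := F)
      rw [mul_app, j3, j4]
      simpa using h0
    have e : M = (jj)⁻¹ * (jj * M) := by group
    rw [e]
    exact K.mul_mem (K.inv_mem h2) h3
  · exact key M hM

/-- a 2-subgroup of `SL₂(4)` is conjugate into `up F` -/
theorem exists_conj_up (hF : Nat.card F = 4) (P : Subgroup SL(2, F)) (hP : IsPGroup 2 P) :
    ∃ g : SL(2, F), ∀ p ∈ P, ∃ t, g * p * g⁻¹ = up t := by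
  have := fin hF
  have : Finite SL(2, F) := inferInstance
  let act : MulAction P (Fin 2 → F) :=
    MulAction.compHom (Fin 2 → F) ((Matrix.SpecialLinearGroup.toLin' : SL(2, F) →* _).comp P.subtype)
  have hfix0 : (0 : Fin 2 → F) ∈ MulAction.fixedPoints P (Fin 2 → F) := by
    intro p
    exact Matrix.mulVec_zero p.1.1
  have hdvd : 2 ∣ Nat.card (Fin 2 → F) := by
    rw [Nat.card_fun, hF]
    simp
  obtain ⟨v, hv, hv0⟩ := hP.exists_fixed_point_of_prime_dvd_card_of_fixed_point (Fin 2 → F) hdvd hfix0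
  have hk : ∃ k : SL(2, F), k.1 0 0 = v 0 ∧ k.1 1 0 = v 1 := by
    by_cases h0 : v 0 = 0
    · have h1 : v 1 ≠ 0 := by
        intro h1
        apply hv0
        funext i
        fin_cases i
        · exact h0.symm
        · exact h1.symm
      refine ⟨⟨!![v 0, -(v 1)⁻¹; v 1, 0], ?_⟩, ?_, ?_⟩
      · rw [Matrix.det_fin_two]
        simp [h1]
      · simp
      · simp
    · refine ⟨⟨!![v 0, 0; v 1, (v 0)⁻¹], ?_⟩, ?_, ?_⟩
      · rw [Matrix.det_fin_two]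
        simp [h0]
      · simp
      · simp
  obtain ⟨k, k0, k1⟩ := hk
  refine ⟨k⁻¹, fun p hp => ⟨(k⁻¹ * p * k⁻¹⁻¹).1 0 1, ?_⟩⟩
  rw [inv_inv, mul_assoc]
  have hpv : Matrix.mulVec p.1 v = v := hv ⟨p, hp⟩
  have e0 : p.1 0 0 * v 0 + p.1 0 1 * v 1 = v 0 := by
    have := congrFun hpv 0
    simpa [Matrix.mulVec, dotProduct, Fin.sum_univ_two] using this
  have e1 : p.1 1 0 * v 0 + p.1 1 1 * v 1 = v 1 := by
    have := congrFun hpv 1
    simpa [Matrix.mulVec, dotProduct, Fin.sum_univ_two] using this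
  obtain ⟨i1, i2, i3, i4⟩ := inv_app k
  have hd := det_app k
  have f0 : (k⁻¹ * (p * k)).1 0 0 = 1 := by
    rw [mul_app, mul_app, mul_app, k0, k1, e0, e1, i1, i2]
    rw [k0, k1] at hd
    linear_combination hd
  have f1 : (k⁻¹ * (p * k)).1 1 0 = 0 := by
    rw [mul_app, mul_app, mul_app, k0, k1, e0, e1, i3, i4, k0, k1]
    ring
  have hd2 := det_app (k⁻¹ * (p * k))
  rw [f0, f1] at hd2
  set t := (k⁻¹ * (p * k)).1 0 1 with ht
  obtain ⟨a1, a2, a3, a4⟩ := up_app t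
  apply ext2
  · rw [f0, a1]
  · rw [a2]
  · rw [f1, a3]
  · rw [a4]
    linear_combination hd2

/-- fixed points of an element of order three -/
theorem exists_fix {G : Type*} [Group G] {N : Subgroup G} [Finite N] (hN : ¬ 3 ∣ Nat.card N) {g h : G}
    (hg : g * g * g = 1) (hh : h * h * h = 1) (hgh : ∀ y ∈ N, g * y * h⁻¹ ∈ N) : ∃ y ∈ N, g * y = y * h := by
  have := Fintype.ofFinite N
  let σ : N → N := fun y => ⟨g * y * h⁻¹, hgh y y.2⟩
  have h3 : ∀ y, σ (σ (σ y)) = y := by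
    intro y
    apply Subtype.ext
    change g * (g * (g * y * h⁻¹) * h⁻¹) * h⁻¹ = y
    calc g * (g * (g * y * h⁻¹) * h⁻¹) * h⁻¹ = g * g * g * y * (h * h * h)⁻¹ := by group
      _ = y := by rw [hg, hh]; group
  let e : Equiv.Perm N := ⟨σ, fun y => σ (σ y), h3, h3⟩
  have he : e ^ 3 ^ 1 = 1 := by
    ext y
    rw [pow_one, pow_succ, pow_two, Equiv.Perm.mul_apply, Equiv.Perm.mul_apply]
    exact congrArg _ (h3 y)
  have : Fact (Nat.Prime 3) := ⟨Nat.prime_three⟩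
  rw [Nat.card_eq_fintype_card] at hN
  obtain ⟨y, hy⟩ := Equiv.Perm.exists_fixed_point_of_prime hN he
  refine ⟨y, y.2, ?_⟩
  have h4 : g * y * h⁻¹ = y := congrArg Subtype.val hy
  calc g * y = g * y * h⁻¹ * h := by group
    _ = _ := by rw [h4]

/-- `[[w²,0],[0,w]]` -/
def IsD (w : F) (M : SL(2, F)) : Prop := M.1 0 0 = w ^ 2 ∧ M.1 0 1 = 0 ∧ M.1 1 0 = 0 ∧ M.1 1 1 = w

theorem w3 {w : F} (hw : w ^ 2 + w + 1 = 0) : w * w * w = 1 := by linear_combination (w - 1) * hw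

theorem w_ne {w : F} (hw : w ^ 2 + w + 1 = 0) : w ≠ 0 := by
  rintro rfl
  simp at hw

theorem IsD.up {w : F} (hw : w ^ 2 + w + 1 = 0) {M : SL(2, F)} (hM : IsD w M) (t : F) :
    M * Id.up t * M⁻¹ = Id.up (w * t) := by
  obtain ⟨m1, m2, m3, m4⟩ := hM
  obtain ⟨a1, a2, a3, a4⟩ := up_app t
  obtain ⟨b1, b2, b3, b4⟩ := up_app (w * t)
  obtain ⟨i1, i2, i3, i4⟩ := inv_app M
  have h3 := w3 hw
  apply ext2 <;> simp only [mul_app, a1, a2, a3, a4, b1, b2, b3, b4, m1, m2, m3, m4, i1, i2, i3, i4]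
  · linear_combination h3
  · linear_combination t * w * h3
  · ring
  · linear_combination h3

/-- `X/N ≅ SL₂(F)`, `U/N` the upper triangular unipotent group, `h` diagonal -/
structure Ch {G : Type*} [Group G] (X N U : Subgroup G) (h : G) (w : F) (ρ : G → SL(2, F)) : Prop where
  cF : Nat.card F = 4
  NU : N ≤ U
  UX : U ≤ X
  hX : h ∈ X
  mul : ∀ x ∈ X, ∀ y ∈ X, ρ (x * y) = ρ x * ρ y
  surj : ∀ M, ∃ x ∈ X, ρ x = M
  ker : ∀ x ∈ X, ρ x = 1 ↔ x ∈ N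
  up : ∀ x ∈ X, x ∈ U ↔ ∃ t, ρ x = up t
  dg : IsD w (ρ h)
  w2 : w ^ 2 + w + 1 = 0

theorem exists_chart {G : Type*} [Group G] [Finite G] (hF : Nat.card F = 4) {X N U : Subgroup G} {h : G}
    (NU : N ≤ U) (UX : U ≤ X) (h2 : IsPGroup 2 U) (hc : Nat.card U = 4 * Nat.card N)
    (hX : h ∈ X) (hN : h ∉ N) (h3 : h * h * h = 1) (hU : ∀ u ∈ U, h * u * h⁻¹ ∈ U)
    (hsl : ∃ π : X →* SL(2, F), Function.Surjective π ∧ ∀ x, π x = 1 ↔ (x : G) ∈ N) :
    ∃ (w : F) (ρ : G → SL(2, F)), Ch X N U h w ρ := by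
  classical
  have finF := fin hF
  obtain ⟨π, hπ, hk⟩ := hsl
  set U' := U.subgroupOf X with hU'
  have hP : IsPGroup 2 (U'.map π) := (h2.comap_of_injective X.subtype X.subtype_injective).map π
  obtain ⟨g, hg⟩ := exists_conj_up hF (U'.map π) hP
  have hmem : ∀ u : X, (u : G) ∈ U → ∃ t, g * π u * g⁻¹ = up t := fun u hu =>
    hg _ (mem_map_of_mem π (mem_subgroupOf.2 hu))
  -- all of `up F`
  have hall : ∀ t, ∃ u : X, (u : G) ∈ U ∧ g * π u * g⁻¹ = up t := by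
    choose τ hτ using hmem
    let f : U → F := fun u => τ ⟨u, UX u.2⟩ u.2
    have hf : ∀ u : U, g * π ⟨(u : G), UX u.2⟩ * g⁻¹ = up (f u) := fun u => hτ _ _
    let φ : U →* Multiplicative F :=
      { toFun := fun u => Multiplicative.ofAdd (f u)
        map_one' := by
          apply congrArg Multiplicative.ofAdd
          apply up_inj
          rw [← hf, up_zero]
          have : (⟨((1 : U) : G), UX (1 : U).2⟩ : X) = 1 := rfl
          rw [this, map_one, mul_one, mul_inv_cancel]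
        map_mul' := fun a b => by
          change Multiplicative.ofAdd (f (a * b)) = Multiplicative.ofAdd (f a + f b)
          apply congrArg Multiplicative.ofAdd
          apply up_inj
          rw [up_add, ← hf, ← hf, ← hf]
          have : (⟨((a * b : U) : G), UX (a * b).2⟩ : X) = ⟨a, UX a.2⟩ * ⟨b, UX b.2⟩ := rfl
          rw [this, map_mul]
          group }
    have hker : φ.ker = N.subgroupOf U := by
      ext u
      have e1 : u ∈ φ.ker ↔ f u = 0 := by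
        rw [MonoidHom.mem_ker]
        exact Multiplicative.ofAdd.injective.eq_iff (b := (0 : F))
      rw [e1, mem_subgroupOf, ← hk ⟨(u : G), UX u.2⟩]
      constructor
      · intro h0
        have h4 := hf u
        rw [h0, up_zero] at h4
        have h5 : π ⟨(u : G), UX u.2⟩ = g⁻¹ * (g * π ⟨(u : G), UX u.2⟩ * g⁻¹) * g := by group
        rw [h5, h4]; group
      · intro h0
        apply up_inj
        rw [← hf, h0, up_zero]
        group
    have hcard : Nat.card φ.range = 4 := by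
      have h5 := φ.ker.card_mul_index
      rw [index_ker, hker, hc, Nat.card_congr (subgroupOfEquivOfLe NU).toEquiv] at h5
      have h6 : 0 < Nat.card N := Nat.card_pos
      have h7 : Nat.card N * Nat.card φ.range = Nat.card N * 4 := by rw [h5, mul_comm]
      exact Nat.eq_of_mul_eq_mul_left h6 h7
    have htop : φ.range = ⊤ := by
      apply eq_top_of_card_eq
      rw [hcard]
      exact hF.symm
    intro t
    have h5 : Multiplicative.ofAdd t ∈ φ.range := by rw [htop]; exact mem_top _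
    obtain ⟨u, hu⟩ := h5
    refine ⟨⟨u, UX u.2⟩, u.2, ?_⟩
    rw [hf u]
    exact congrArg up (Multiplicative.ofAdd.injective hu)
  -- `h`
  set M := g * π ⟨h, hX⟩ * g⁻¹ with hM
  have hMn : ∃ s, M * up 1 * M⁻¹ = up s := by
    obtain ⟨u, hu, hu1⟩ := hall 1
    obtain ⟨s, hs⟩ := hmem (⟨h, hX⟩ * u * ⟨h, hX⟩⁻¹) (hU _ hu)
    refine ⟨s, ?_⟩
    rw [← hs, ← hu1, hM, map_mul, map_mul, map_inv]
    group
  have hM3 : M * M * M = 1 := by
    have : (⟨h, hX⟩ : X) * ⟨h, hX⟩ * ⟨h, hX⟩ = 1 := Subtype.ext h3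
    have h4 := congrArg π this
    rw [map_mul, map_mul, map_one] at h4
    calc M * M * M = g * (π ⟨h, hX⟩ * π ⟨h, hX⟩ * π ⟨h, hX⟩) * g⁻¹ := by rw [hM]; group
      _ = 1 := by rw [h4]; group
  have hM1 : M ≠ 1 := by
    intro h4
    apply hN
    rw [← hk ⟨h, hX⟩]
    have h5 : π ⟨h, hX⟩ = g⁻¹ * M * g := by rw [hM]; group
    rw [h5, h4]; group
  have h10 : M.1 1 0 = 0 := by
    obtain ⟨s, hs⟩ := hMn
    obtain ⟨a1, a2, a3, a4⟩ := up_app (1 : F)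
    obtain ⟨b1, b2, b3, b4⟩ := up_app s
    obtain ⟨i1, i2, i3, i4⟩ := inv_app M
    have h4 : (M * up 1 * M⁻¹).1 1 0 = 0 := by rw [hs, b3]
    simp only [mul_app, a1, a2, a3, a4, i1, i3] at h4
    have h5 : M.1 1 0 * M.1 1 0 = 0 := by linear_combination -h4
    exact mul_self_eq_zero.1 h5
  have hd := det_app M
  rw [h10, mul_zero, sub_zero] at hd
  set w := M.1 1 1 with hw
  have hw3 : w * w * w = 1 := by
    have h4 : (M * M * M).1 1 1 = 1 := by rw [hM3]; exact one_app.2.2.2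
    simp only [mul_app, h10] at h4
    linear_combination h4
  have two := two hF
  have hw2 : w ^ 2 + w + 1 = 0 := by
    have h4 : (w - 1) * (w ^ 2 + w + 1) = 0 := by linear_combination hw3
    rcases mul_eq_zero.1 h4 with h5 | h5
    · exfalso
      have h6 : w = 1 := by linear_combination h5
      rw [h6, mul_one] at hd
      have h7 : M = up (M.1 0 1) := by
        obtain ⟨a1, a2, a3, a4⟩ := up_app (M.1 0 1)
        apply ext2
        · rw [a1, hd]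
        · rw [a2]
        · rw [a3, h10]
        · rw [a4, ← hw, h6]
      apply hM1
      have h8 : M * M = 1 := by
        rw [h7, ← up_add, addself hF, up_zero]
      rw [h8, one_mul] at hM3
      exact hM3
    · exact h5
  have h00 : M.1 0 0 = w ^ 2 := by linear_combination w ^ 2 * hd - M.1 0 0 * hw3
  set b := M.1 0 1 with hb
  let ρ : G → SL(2, F) := fun x => if hx : x ∈ X then (up b * g) * π ⟨x, hx⟩ * (up b * g)⁻¹ else 1
  have hρ : ∀ x (hx : x ∈ X), ρ x = (up b * g) * π ⟨x, hx⟩ * (up b * g)⁻¹ := fun x hx => dif_pos hx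
  have hρ' : ∀ x (hx : x ∈ X), ρ x = up b * (g * π ⟨x, hx⟩ * g⁻¹) * (up b)⁻¹ := fun x hx => by
    rw [hρ x hx]; group
  refine ⟨w, ρ, hF, NU, UX, hX, ?_, ?_, ?_, ?_, ?_, hw2⟩
  · intro x hx y hy
    rw [hρ x hx, hρ y hy, hρ _ (X.mul_mem hx hy)]
    have : (⟨x * y, X.mul_mem hx hy⟩ : X) = ⟨x, hx⟩ * ⟨y, hy⟩ := rfl
    rw [this, map_mul]
    group
  · intro M'
    obtain ⟨x, hx⟩ := hπ ((up b * g)⁻¹ * M' * (up b * g))
    refine ⟨x, x.2, ?_⟩
    rw [hρ x x.2, show (⟨(x : G), x.2⟩ : X) = x from rfl, hx]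
    group
  · intro x hx
    rw [← hk ⟨x, hx⟩, hρ x hx]
    constructor
    · intro h4
      have h5 : π ⟨x, hx⟩ = (up b * g)⁻¹ * (up b * g * π ⟨x, hx⟩ * (up b * g)⁻¹) * (up b * g) := by group
      rw [h5, h4]; group
    · intro h4
      rw [h4]; group
  · intro x hx
    have hcomm : ∀ t, up b * up t * (up b)⁻¹ = up t := fun t => by
      rw [← up_add, add_comm, up_add]; group
    constructor
    · intro hxU
      obtain ⟨t, ht⟩ := hmem ⟨x, hx⟩ hxU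
      exact ⟨t, by rw [hρ' x hx, ht, hcomm]⟩
    · rintro ⟨t, ht⟩
      obtain ⟨u, hu, hu1⟩ := hall t
      have h4 : π ⟨x, hx⟩ = π u := by
        have h5 : up b * (g * π ⟨x, hx⟩ * g⁻¹) * (up b)⁻¹ = up b * (g * π u * g⁻¹) * (up b)⁻¹ := by
          rw [← hρ' x hx, ht, hu1, hcomm]
        simpa using h5
      have h5 : π (⟨x, hx⟩ * u⁻¹) = 1 := by rw [map_mul, map_inv, h4, mul_inv_cancel]
      rw [hk] at h5
      have h6 : x * (u : G)⁻¹ ∈ U := NU h5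
      exact (U.mul_mem_cancel_right (U.inv_mem hu)).1 h6
  · have h4 : ρ h = up b * M * (up b)⁻¹ := hρ' h hX
    rw [h4]
    obtain ⟨a1, a2, a3, a4⟩ := up_app b
    obtain ⟨i1, i2, i3, i4⟩ := inv_app (up b)
    refine ⟨?_, ?_, ?_, ?_⟩ <;>
      simp only [mul_app, a1, a2, a3, a4, i1, i2, i3, i4, h00, ← hb, h10, ← hw]
    · ring
    · linear_combination b * two - b * hw2 + b * w * two
    · ring
    · ring

/-! ### facts on a chart -/

/-- `SL₂(F)` is generated by the conjugates of `up F` -/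
theorem mem_of_up_conj {K : Subgroup SL(2, F)} (h1 : ∀ t, up t ∈ K) (h2 : ∀ t, jj * up t * (jj)⁻¹ ∈ K)
    (M : SL(2, F)) : M ∈ K := by
  refine mem_of_up_jj h1 ?_ M
  have e : (jj : SL(2, F)) = up 1 * (jj * up 1 * (jj)⁻¹) * up 1 := by
    obtain ⟨a1, a2, a3, a4⟩ := up_app (1 : F)
    obtain ⟨j1, j2, j3, j4⟩ := jj_app (F := F)
    obtain ⟨i1, i2, i3, i4⟩ := inv_app (jj : SL(2, F))
    apply ext2 <;> simp only [mul_app, a1, a2, a3, a4, j1, j2, j3, j4, i1, i2, i3, i4] <;> ring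
  rw [e]
  exact K.mul_mem (K.mul_mem (h1 _) (h2 _)) (h1 _)

theorem jj_sq (hF : Nat.card F = 4) : (jj : SL(2, F)) * jj = 1 := by
  obtain ⟨j1, j2, j3, j4⟩ := jj_app (F := F)
  obtain ⟨o1, o2, o3, o4⟩ := one_app (F := F)
  have h := two hF
  apply ext2 <;> simp only [mul_app, j1, j2, j3, j4, o1, o2, o3, o4]
  · linear_combination -h
  · ring
  · ring
  · linear_combination -h

theorem jj_up : (jj : SL(2, F)) * up 1 * (jj * up 1) * (jj * up 1) = 1 := by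
  obtain ⟨j1, j2, j3, j4⟩ := jj_app (F := F)
  obtain ⟨o1, o2, o3, o4⟩ := one_app (F := F)
  obtain ⟨a1, a2, a3, a4⟩ := up_app (1 : F)
  apply ext2 <;> simp only [mul_app, j1, j2, j3, j4, o1, o2, o3, o4, a1, a2, a3, a4] <;> ring

theorem jj_IsD {w : F} {M : SL(2, F)} (hM : IsD w M) : jj * M * (jj)⁻¹ = M⁻¹ := by
  obtain ⟨m1, m2, m3, m4⟩ := hM
  obtain ⟨j1, j2, j3, j4⟩ := jj_app (F := F)
  obtain ⟨i1, i2, i3, i4⟩ := inv_app (jj : SL(2, F))
  obtain ⟨k1, k2, k3, k4⟩ := inv_app M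
  apply ext2 <;> simp only [mul_app, j1, j2, j3, j4, i1, i2, i3, i4, k1, k2, k3, k4, m1, m2, m3, m4] <;> ring

/-- `jj * up 1` is conjugate to `M` -/
theorem jj_up_conj (hF : Nat.card F = 4) {w : F} (hw : w ^ 2 + w + 1 = 0) {M : SL(2, F)} (hM : IsD w M) :
    ∃ P : SL(2, F), P * (jj * up 1) * P⁻¹ = M := by
  obtain ⟨m1, m2, m3, m4⟩ := hM
  obtain ⟨j1, j2, j3, j4⟩ := jj_app (F := F)
  obtain ⟨a1, a2, a3, a4⟩ := up_app (1 : F)
  have h := two hF
  have hd : Matrix.det !![1, -w ^ 2; 1, -w] = 1 := by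
    rw [Matrix.det_fin_two_of]
    linear_combination hw - (w + 1) * h
  set P : SL(2, F) := ⟨!![1, -w ^ 2; 1, -w], hd⟩ with hP
  have p1 : P.1 0 0 = 1 := by simp [hP]
  have p2 : P.1 0 1 = -w ^ 2 := by simp [hP]
  have p3 : P.1 1 0 = 1 := by simp [hP]
  have p4 : P.1 1 1 = -w := by simp [hP]
  refine ⟨P, ?_⟩
  have e : P * (jj * up 1) = M * P := by
    apply ext2 <;> simp only [mul_app, j1, j2, j3, j4, a1, a2, a3, a4, p1, p2, p3, p4, m1, m2, m3, m4]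
    · ring
    · linear_combination (w ^ 2 - w + 1) * hw
    · ring
    · linear_combination hw
  rw [e]; group

namespace Ch

variable {G : Type*} [Group G] {X N U : Subgroup G} {h : G} {w : F} {ρ : G → SL(2, F)}
  (c : Ch X N U h w ρ)
include c

theorem one : ρ 1 = 1 := by
  have := c.mul 1 X.one_mem 1 X.one_mem
  rw [mul_one] at this
  exact left_eq_mul.1 this

theorem inv {x : G} (hx : x ∈ X) : ρ x⁻¹ = (ρ x)⁻¹ := by
  rw [eq_inv_iff_mul_eq_one, ← c.mul _ (X.inv_mem hx) _ hx, inv_mul_cancel, c.one]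

theorem NX : N ≤ X := c.NU.trans c.UX

theorem conj {x y : G} (hx : x ∈ X) (hy : y ∈ X) : ρ (x * y * x⁻¹) = ρ x * ρ y * (ρ x)⁻¹ := by
  rw [c.mul _ (X.mul_mem hx hy) _ (X.inv_mem hx), c.mul _ hx _ hy, c.inv hx]

theorem nN {x y : G} (hx : x ∈ X) (hy : y ∈ N) : x * y * x⁻¹ ∈ N := by
  rw [← c.ker _ (X.mul_mem (X.mul_mem hx (c.NX hy)) (X.inv_mem hx)), c.conj hx (c.NX hy),
    (c.ker y (c.NX hy)).2 hy]
  group

theorem eq_iff {x y : G} (hx : x ∈ X) (hy : y ∈ X) : ρ x = ρ y ↔ x⁻¹ * y ∈ N := by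
  rw [← c.ker _ (X.mul_mem (X.inv_mem hx) hy), c.mul _ (X.inv_mem hx) _ hy, c.inv hx, inv_mul_eq_one]

theorem exists_up (t : F) : ∃ u ∈ U, ρ u = Id.up t := by
  obtain ⟨x, hx, h1⟩ := c.surj (Id.up t)
  exact ⟨x, (c.up x hx).2 ⟨t, h1⟩, h1⟩

theorem conj_h {u : G} (hu : u ∈ X) {t : F} (h1 : ρ u = Id.up t) : ρ (h * u * h⁻¹) = Id.up (w * t) := by
  rw [c.conj c.hX hu, h1]
  exact c.dg.up c.w2 t

theorem le_of_mem {K : Subgroup G} (hU : U ≤ K) {j : G} (hjX : j ∈ X) (hj : ρ j = jj) (hjK : j ∈ K) :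
    X ≤ K := by
  let K' : Subgroup SL(2, F) :=
    { carrier := {M | ∃ x ∈ X, x ∈ K ∧ ρ x = M}
      one_mem' := ⟨1, X.one_mem, K.one_mem, c.one⟩
      mul_mem' := by
        rintro _ _ ⟨x, hx, hx', rfl⟩ ⟨y, hy, hy', rfl⟩
        exact ⟨x * y, X.mul_mem hx hy, K.mul_mem hx' hy', c.mul _ hx _ hy⟩
      inv_mem' := by
        rintro _ ⟨x, hx, hx', rfl⟩
        exact ⟨x⁻¹, X.inv_mem hx, K.inv_mem hx', c.inv hx⟩ }
  have hK' : ∀ M, M ∈ K' := by
    intro M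
    refine mem_of_up_jj (K := K') ?_ ⟨j, hjX, hjK, hj⟩ M
    intro t
    obtain ⟨u, hu, hu1⟩ := c.exists_up t
    exact ⟨u, c.UX hu, hU hu, hu1⟩
  intro x hx
  obtain ⟨y, hy, hyK, hyx⟩ := hK' (ρ x)
  rw [c.eq_iff hy hx] at hyx
  exact (K.mul_mem_cancel_left (K.inv_mem hyK)).1 (hU (c.NU hyx))

/-- a normal subgroup of `X` containing `U` is `X` -/
theorem le_of_normal {K : Subgroup G} (hU : U ≤ K) (hn : ∀ x ∈ X, ∀ y ∈ K, x * y * x⁻¹ ∈ K) : X ≤ K := by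
  obtain ⟨j, hjX, hj⟩ := c.surj jj
  let K' : Subgroup SL(2, F) :=
    { carrier := {M | ∃ x ∈ X, x ∈ K ∧ ρ x = M}
      one_mem' := ⟨1, X.one_mem, K.one_mem, c.one⟩
      mul_mem' := by
        rintro _ _ ⟨x, hx, hx', rfl⟩ ⟨y, hy, hy', rfl⟩
        exact ⟨x * y, X.mul_mem hx hy, K.mul_mem hx' hy', c.mul _ hx _ hy⟩
      inv_mem' := by
        rintro _ ⟨x, hx, hx', rfl⟩
        exact ⟨x⁻¹, X.inv_mem hx, K.inv_mem hx', c.inv hx⟩ }
  have h1 : ∀ t, Id.up t ∈ K' := by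
    intro t
    obtain ⟨u, hu, hu1⟩ := c.exists_up t
    exact ⟨u, c.UX hu, hU hu, hu1⟩
  have hK' : ∀ M, M ∈ K' := by
    intro M
    refine mem_of_up_conj h1 ?_ M
    intro t
    obtain ⟨u, hu, hu1⟩ := c.exists_up t
    exact ⟨j * u * j⁻¹, X.mul_mem (X.mul_mem hjX (c.UX hu)) (X.inv_mem hjX), hn _ hjX _ (hU hu), by
      rw [c.conj hjX (c.UX hu), hu1, hj]⟩
  intro x hx
  obtain ⟨y, hy, hyK, hyx⟩ := hK' (ρ x)
  rw [c.eq_iff hy hx] at hyx
  exact (K.mul_mem_cancel_left (K.inv_mem hyK)).1 (hU (c.NU hyx))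

omit c in
theorem cases4 (hF : Nat.card F = 4) (hw : w ^ 2 + w + 1 = 0) (t : F) : t = 0 ∨ t = 1 ∨ t = w ∨ t = w ^ 2 := by
  by_cases h0 : t = 0
  · exact Or.inl h0
  have h1 := cube hF h0
  have h2 : (t - 1) * ((t - w) * (t - w ^ 2)) = 0 := by
    linear_combination h1 + (-t ^ 2 + t * w ) * hw - (t ^ 2 * 0 + t * (w - 1) * 0) * hw + (-w + 1) * hw
  rcases mul_eq_zero.1 h2 with h3 | h3
  · exact Or.inr (Or.inl (sub_eq_zero.1 h3))
  rcases mul_eq_zero.1 h3 with h4 | h4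
  · exact Or.inr (Or.inr (Or.inl (sub_eq_zero.1 h4)))
  · exact Or.inr (Or.inr (Or.inr (sub_eq_zero.1 h4)))

theorem nU {u : G} (hu : u ∈ U) : h * u * h⁻¹ ∈ U := by
  obtain ⟨t, ht⟩ := (c.up u (c.UX hu)).1 hu
  exact (c.up _ (X.mul_mem (X.mul_mem c.hX (c.UX hu)) (X.inv_mem c.hX))).2 ⟨_, c.conj_h (c.UX hu) ht⟩

/-- an element that normalises everything, commutes with `h` and fixes `up 1` centralises `X/N` -/
theorem triv_of {g : G} (gX : ∀ x ∈ X, g * x * g⁻¹ ∈ X) (gN : ∀ x ∈ N, g * x * g⁻¹ ∈ N)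
    (gh : g * h = h * g) (g1 : ∀ u ∈ X, ρ u = Id.up 1 → ρ (g * u * g⁻¹) = Id.up 1) :
    ∀ x ∈ X, ρ (g * x * g⁻¹) = ρ x := by
  have sm : ∀ x ∈ X, ∀ y ∈ X, ρ (g * (x * y) * g⁻¹) = ρ (g * x * g⁻¹) * ρ (g * y * g⁻¹) := by
    intro x hx y hy
    rw [← c.mul _ (gX x hx) _ (gX y hy)]
    congr 1; group
  have hNt : ∀ n ∈ N, ρ (g * n * g⁻¹) = 1 := fun n hn => (c.ker _ (gX n (c.NX hn))).2 (gN n hn)
  let K : Subgroup G :=
    { carrier := {x | x ∈ X ∧ ρ (g * x * g⁻¹) = ρ x}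
      one_mem' := ⟨X.one_mem, by rw [mul_one, mul_inv_cancel]⟩
      mul_mem' := by
        rintro x y ⟨hx, hx'⟩ ⟨hy, hy'⟩
        exact ⟨X.mul_mem hx hy, by rw [sm x hx y hy, hx', hy', c.mul _ hx _ hy]⟩
      inv_mem' := by
        rintro x ⟨hx, hx'⟩
        refine ⟨X.inv_mem hx, ?_⟩
        rw [c.inv hx, ← hx', ← c.inv (gX x hx)]
        congr 1; group }
  have hK : ∀ x, x ∈ K ↔ x ∈ X ∧ ρ (g * x * g⁻¹) = ρ x := fun x => Iff.rfl
  have hNK : N ≤ K := fun n hn => (hK n).2 ⟨c.NX hn, by rw [hNt n hn, (c.ker n (c.NX hn)).2 hn]⟩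
  have step : ∀ t, (∀ u ∈ X, ρ u = Id.up t → u ∈ K) → ∀ u ∈ X, ρ u = Id.up (w * t) → u ∈ K := by
    intro t ht u hu hut
    obtain ⟨v, hv, hvt⟩ := c.exists_up t
    have hvX := c.UX hv
    have h1 := ((hK v).1 (ht v hvX hvt)).2
    have hX' := X.mul_mem (X.mul_mem c.hX hvX) (X.inv_mem c.hX)
    have h2 : h * v * h⁻¹ ∈ K := by
      refine (hK _).2 ⟨hX', ?_⟩
      have e : g * (h * v * h⁻¹) * g⁻¹ = h * (g * v * g⁻¹) * h⁻¹ := by
        calc g * (h * v * h⁻¹) * g⁻¹ = (g * h) * v * (g * h)⁻¹ := by group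
          _ = _ := by rw [gh]; group
      rw [e, c.conj_h (gX v hvX) (h1.trans hvt), c.conj_h hvX hvt]
    have h3 : (h * v * h⁻¹)⁻¹ * u ∈ N := by
      rw [← c.eq_iff hX' hu, c.conj_h hvX hvt, hut]
    exact (K.mul_mem_cancel_left (K.inv_mem h2)).1 (hNK h3)
  have k1 : ∀ u ∈ X, ρ u = Id.up 1 → u ∈ K := fun u hu hu1 => (hK u).2 ⟨hu, by rw [g1 u hu hu1, hu1]⟩
  have kw := step 1 k1
  rw [mul_one] at kw
  have kw2 := step w kw
  have hUK : U ≤ K := by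
    intro u hu
    have huX := c.UX hu
    obtain ⟨t, ht⟩ := (c.up u huX).1 hu
    rcases cases4 c.cF c.w2 t with rfl | rfl | rfl | rfl
    · exact hNK ((c.ker u huX).1 (by rw [ht, up_zero]))
    · exact k1 u huX ht
    · exact kw u huX ht
    · exact kw2 u huX (by rw [ht, pow_two])
  obtain ⟨j, hjX, hj⟩ := c.surj jj
  have hjK : j ∈ K := by
    refine (hK j).2 ⟨hjX, ?_⟩
    set M := ρ (g * j * g⁻¹) with hM
    -- `M D M⁻¹ = D⁻¹`
    have e1 : M * ρ h * M⁻¹ = (ρ h)⁻¹ := by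
      have hn : h * (j * h * j⁻¹) ∈ N := by
        rw [← c.ker _ (X.mul_mem c.hX (X.mul_mem (X.mul_mem hjX c.hX) (X.inv_mem hjX))),
          c.mul _ c.hX _ (X.mul_mem (X.mul_mem hjX c.hX) (X.inv_mem hjX)), c.conj hjX c.hX, hj,
          jj_IsD c.dg]
        group
      have hn' := hNt _ hn
      rw [sm _ c.hX _ (X.mul_mem (X.mul_mem hjX c.hX) (X.inv_mem hjX)),
        sm _ (X.mul_mem hjX c.hX) _ (X.inv_mem hjX), sm _ hjX _ c.hX, gh, mul_inv_cancel_right, ← hM] at hn'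
      have h4 : ρ (g * j⁻¹ * g⁻¹) = M⁻¹ := by
        rw [hM, ← c.inv (gX j hjX)]
        congr 1; group
      rw [h4] at hn'
      calc M * ρ h * M⁻¹ = (ρ h)⁻¹ * (ρ h * (M * ρ h * M⁻¹)) := by group
        _ = _ := by rw [hn', mul_one]
    -- `(M up 1)³ = 1`
    obtain ⟨u, hu, hu1⟩ := c.exists_up 1
    have huX := c.UX hu
    have e2 : M * Id.up 1 * (M * Id.up 1) * (M * Id.up 1) = 1 := by
      have hju := X.mul_mem hjX huX
      have hn : j * u * (j * u) * (j * u) ∈ N := by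
        rw [← c.ker _ (X.mul_mem (X.mul_mem hju hju) hju), c.mul _ (X.mul_mem hju hju) _ hju,
          c.mul _ hju _ hju, c.mul _ hjX _ huX, hj, hu1, jj_up]
      have hn' := hNt _ hn
      rwa [sm _ (X.mul_mem hju hju) _ hju, sm _ hju _ hju, sm _ hjX _ huX, g1 u huX hu1, ← hM] at hn'
    have two := two c.cF
    have h3 := w3 c.w2
    obtain ⟨m1, m2, m3, m4⟩ := c.dg
    obtain ⟨i1, i2, i3, i4⟩ := inv_app (ρ h)
    have e3 : M * ρ h = (ρ h)⁻¹ * M := by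
      rw [← e1]; group
    have f1 : M.1 0 0 = 0 := by
      have := congrArg (fun z : SL(2, F) => z.1 0 0) e3
      simp only [mul_app, m1, m2, m3, m4, i1, i2] at this
      linear_combination (-1) * this + M.1 0 0 * c.w2 - w * M.1 0 0 * two
    have f2 : M.1 1 1 = 0 := by
      have := congrArg (fun z : SL(2, F) => z.1 1 1) e3
      simp only [mul_app, m1, m2, m3, m4, i3, i4] at this
      linear_combination this + M.1 1 1 * c.w2 - w * M.1 1 1 * two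
    have hd := det_app M
    obtain ⟨a1, a2, a3, a4⟩ := up_app (1 : F)
    obtain ⟨o1, o2, o3, o4⟩ := one_app (F := F)
    have f3 := congrArg (fun z : SL(2, F) => z.1 0 0) e2
    simp only [mul_app, f1, f2, a1, a2, a3, a4, o1] at f3
    rw [f1, f2] at hd
    have f4 : M.1 1 0 = -1 := by linear_combination (-M.1 1 0) * hd - f3
    rw [hj]
    obtain ⟨j1, j2, j3, j4⟩ := jj_app (F := F)
    apply ext2
    · rw [f1, j1]
    · rw [j2]
      rw [f4] at hd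
      linear_combination hd
    · rw [f4, j3]
    · rw [f2, j4]
  intro x hx
  exact ((hK x).1 (c.le_of_mem hUK hjX hj hjK hx)).2

/-- an element that normalises `X`, `N`, `U` and commutes with `h` acts on `X/N` as a power of `h` -/
theorem exists_triv {g : G} (gX : ∀ x ∈ X, g * x * g⁻¹ ∈ X) (gN : ∀ x ∈ N, g * x * g⁻¹ ∈ N)
    (gN' : ∀ x, g * x * g⁻¹ ∈ N → x ∈ N)
    (gU : ∀ x ∈ U, g * x * g⁻¹ ∈ U) (gh : g * h = h * g) :
    ∃ g', (g' = g ∨ g' = g * h ∨ g' = g * h⁻¹) ∧ ∀ x ∈ X, ρ (g' * x * g'⁻¹) = ρ x := by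
  obtain ⟨u, hu, hu1⟩ := c.exists_up 1
  have huX := c.UX hu
  obtain ⟨a, ha⟩ := (c.up _ (gX u huX)).1 (gU u hu)
  have hUp : ∀ {g' : G} (g'X : ∀ x ∈ X, g' * x * g'⁻¹ ∈ X) (g'N : ∀ x ∈ N, g' * x * g'⁻¹ ∈ N),
      ρ (g' * u * g'⁻¹) = Id.up 1 → ∀ v ∈ X, ρ v = Id.up 1 → ρ (g' * v * g'⁻¹) = Id.up 1 := by
    intro g' g'X g'N h1 v hv hv1
    have h2 : u⁻¹ * v ∈ N := (c.eq_iff huX hv).1 (hu1.trans hv1.symm)
    have h3 : g' * v * g'⁻¹ = (g' * u * g'⁻¹) * (g' * (u⁻¹ * v) * g'⁻¹) := by group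
    rw [h3, c.mul _ (g'X u huX) _ (c.NX (g'N _ h2)), h1, (c.ker _ (c.NX (g'N _ h2))).2 (g'N _ h2), mul_one]
  have ghi : g * h⁻¹ = h⁻¹ * g := by
    calc g * h⁻¹ = h⁻¹ * (h * g) * h⁻¹ := by group
      _ = h⁻¹ * g := by rw [← gh]; group
  rcases cases4 c.cF c.w2 a with rfl | rfl | rfl | rfl
  · exfalso
    rw [up_zero, c.ker _ (gX u huX)] at ha
    have h1 := gN' u ha
    rw [← c.ker u huX, hu1, ← up_zero] at h1
    exact one_ne_zero (up_inj h1)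
  · exact ⟨g, Or.inl rfl, c.triv_of gX gN gh (hUp gX gN ha)⟩
  · -- `g h⁻¹`
    have g'X : ∀ x ∈ X, g * h⁻¹ * x * (g * h⁻¹)⁻¹ ∈ X := by
      intro x hx
      have e : g * h⁻¹ * x * (g * h⁻¹)⁻¹ = g * (h⁻¹ * x * h) * g⁻¹ := by group
      rw [e]
      exact gX _ (X.mul_mem (X.mul_mem (X.inv_mem c.hX) hx) c.hX)
    have g'N : ∀ x ∈ N, g * h⁻¹ * x * (g * h⁻¹)⁻¹ ∈ N := by
      intro x hx
      have e : g * h⁻¹ * x * (g * h⁻¹)⁻¹ = g * (h⁻¹ * x * h⁻¹⁻¹) * g⁻¹ := by group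
      rw [e]
      exact gN _ (c.nN (X.inv_mem c.hX) hx)
    refine ⟨g * h⁻¹, Or.inr (Or.inr rfl), c.triv_of g'X g'N ?_ (hUp g'X g'N ?_)⟩
    · calc g * h⁻¹ * h = g * h * h⁻¹ := by group
        _ = h * (g * h⁻¹) := by rw [gh]; group
    · have e : g * h⁻¹ * u * (g * h⁻¹)⁻¹ = h⁻¹ * (g * u * g⁻¹) * h⁻¹⁻¹ := by
        calc g * h⁻¹ * u * (g * h⁻¹)⁻¹ = (h⁻¹ * g) * u * (h⁻¹ * g)⁻¹ := by rw [ghi]
          _ = _ := by group
      have h4 := c.dg.up c.w2 1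
      rw [mul_one] at h4
      rw [e, c.conj (X.inv_mem c.hX) (gX u huX), ha, c.inv c.hX, ← h4]
      group
  · have g'X : ∀ x ∈ X, g * h * x * (g * h)⁻¹ ∈ X := by
      intro x hx
      have e : g * h * x * (g * h)⁻¹ = g * (h * x * h⁻¹) * g⁻¹ := by group
      rw [e]
      exact gX _ (X.mul_mem (X.mul_mem c.hX hx) (X.inv_mem c.hX))
    have g'N : ∀ x ∈ N, g * h * x * (g * h)⁻¹ ∈ N := by
      intro x hx
      have e : g * h * x * (g * h)⁻¹ = g * (h * x * h⁻¹) * g⁻¹ := by group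
      rw [e]
      exact gN _ (c.nN c.hX hx)
    refine ⟨g * h, Or.inr (Or.inl rfl), c.triv_of g'X g'N ?_ (hUp g'X g'N ?_)⟩
    · rw [gh]; rw [mul_assoc, gh, ← mul_assoc]
    · have e : g * h * u * (g * h)⁻¹ = h * (g * u * g⁻¹) * h⁻¹ := by
        calc g * h * u * (g * h)⁻¹ = (h * g) * u * (h * g)⁻¹ := by rw [gh]
          _ = _ := by group
      rw [e, c.conj_h (gX u huX) ha]
      congr 1
      linear_combination w3 c.w2

/-- twisting by the Frobenius -/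
theorem exists_twist : ∃ ρ' : G → SL(2, F), Ch X N U h (w ^ 2) ρ' := by
  have : CharP F 2 := CharTwo.of_one_ne_zero_of_two_eq_zero one_ne_zero (two c.cF)
  let φ : SL(2, F) →* SL(2, F) := Matrix.SpecialLinearGroup.map (frobenius F 2)
  have hφ : ∀ (M : SL(2, F)) i j, (φ M).1 i j = (M.1 i j) ^ 2 := fun M i j => rfl
  have hφφ : ∀ M, φ (φ M) = M := by
    intro M
    apply ext2 <;> rw [hφ, hφ, ← pow_mul] <;> exact pow4 c.cF _
  have hup : ∀ t, φ (Id.up t) = Id.up (t ^ 2) := by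
    intro t
    obtain ⟨a1, a2, a3, a4⟩ := up_app t
    obtain ⟨b1, b2, b3, b4⟩ := up_app (t ^ 2)
    apply ext2 <;> rw [hφ] <;> simp only [a1, a2, a3, a4, b1, b2, b3, b4] <;> ring
  refine ⟨fun x => φ (ρ x), c.cF, c.NU, c.UX, c.hX, ?_, ?_, ?_, ?_, ?_, ?_⟩
  · intro x hx y hy
    rw [c.mul x hx y hy, map_mul]
  · intro M
    obtain ⟨x, hx, h1⟩ := c.surj (φ M)
    exact ⟨x, hx, by rw [h1, hφφ]⟩
  · intro x hx
    rw [← c.ker x hx]
    constructor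
    · intro h1
      rw [← hφφ (ρ x), h1, map_one]
    · intro h1
      rw [h1, map_one]
  · intro x hx
    rw [c.up x hx]
    constructor
    · rintro ⟨t, ht⟩
      exact ⟨t ^ 2, by rw [ht, hup]⟩
    · rintro ⟨t, ht⟩
      exact ⟨t ^ 2, by rw [← hφφ (ρ x), ht, hup]⟩
  · obtain ⟨m1, m2, m3, m4⟩ := c.dg
    refine ⟨?_, ?_, ?_, ?_⟩ <;> rw [hφ]
    · rw [m1]
    · rw [m2]; ring
    · rw [m3]; ring
    · rw [m4]
  · linear_combination (w ^ 2 - w + 1) * c.w2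

end Ch

end Cfsg.Agent.Omega.GTwoFour.Id

end

section


/-!
# Elements of order three acting on sections of order four
-/

set_option autoImplicit false

namespace Cfsg.Agent.Omega.GTwoFour.Id

open Subgroup

variable {G : Type*} [Group G]

/-- `h` acts trivially on `A/B` -/
def Tr (h : G) (A B : Subgroup G) : Prop := ∀ x ∈ A, x⁻¹ * (h * x * h⁻¹) ∈ B

/-- `h` has no fixed points on `A/B` -/
def Fp (h : G) (A B : Subgroup G) : Prop := ∀ x ∈ A, x⁻¹ * (h * x * h⁻¹) ∈ B → x ∈ B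

theorem inv_conj {h : G} (h3 : h * h * h = 1) {A : Subgroup G} (hA : ∀ x ∈ A, h * x * h⁻¹ ∈ A) {x : G}
    (hx : x ∈ A) : h⁻¹ * x * h ∈ A := by
  have e : h⁻¹ = h * h := by rw [inv_eq_iff_mul_eq_one, ← mul_assoc, h3]
  have e2 : h⁻¹ * x * h = h * (h * x * h⁻¹) * h⁻¹ := by
    calc h⁻¹ * x * h = h⁻¹ * x * h⁻¹⁻¹ := by rw [inv_inv]
      _ = (h * h) * x * (h * h)⁻¹ := by rw [e]
      _ = _ := by group
  rw [e2]
  exact hA _ (hA _ hx)

theorem conj_mem_iff {h : G} (h3 : h * h * h = 1) {A : Subgroup G} (hA : ∀ x ∈ A, h * x * h⁻¹ ∈ A) {x : G} :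
    h * x * h⁻¹ ∈ A ↔ x ∈ A := by
  refine ⟨fun hx => ?_, hA x⟩
  have := inv_conj h3 hA hx
  have e : h⁻¹ * (h * x * h⁻¹) * h = x := by group
  rwa [e] at this

/-- lifting of fixed points -/
theorem lift {h : G} (h3 : h * h * h = 1) {B : Subgroup G} [Finite B] (hc : ¬ 3 ∣ Nat.card B)
    (hB : ∀ x ∈ B, h * x * h⁻¹ ∈ B) {x : G} (hx : x⁻¹ * (h * x * h⁻¹) ∈ B) :
    ∃ b ∈ B, h * (x * b) = x * b * h := by
  have h1 : x⁻¹ * h * x * (x⁻¹ * h * x) * (x⁻¹ * h * x) = 1 := by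
    calc x⁻¹ * h * x * (x⁻¹ * h * x) * (x⁻¹ * h * x) = x⁻¹ * (h * h * h) * x := by group
      _ = 1 := by rw [h3]; group
  obtain ⟨b, hb, hb2⟩ := exists_fix hc h1 h3 (by
    intro y hy
    have e : x⁻¹ * h * x * y * h⁻¹ = x⁻¹ * (h * x * h⁻¹) * (h * y * h⁻¹) := by group
    rw [e]
    exact B.mul_mem hx (hB y hy))
  refine ⟨b, hb, ?_⟩
  calc h * (x * b) = x * (x⁻¹ * h * x * b) := by group
    _ = x * b * h := by rw [hb2]; group

/-- the elements of `A` fixed modulo `B` -/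
def fixMod (h : G) (A B : Subgroup G) (hB : ∀ x ∈ A, ∀ y ∈ B, x⁻¹ * y * x ∈ B) : Subgroup G where
  carrier := {x | x ∈ A ∧ x⁻¹ * (h * x * h⁻¹) ∈ B}
  one_mem' := ⟨A.one_mem, by
    have e : (1 : G)⁻¹ * (h * 1 * h⁻¹) = 1 := by group
    rw [e]; exact B.one_mem⟩
  mul_mem' := by
    rintro x y ⟨hx, hx'⟩ ⟨hy, hy'⟩
    refine ⟨A.mul_mem hx hy, ?_⟩
    have e : (x * y)⁻¹ * (h * (x * y) * h⁻¹) = (y⁻¹ * (x⁻¹ * (h * x * h⁻¹)) * y) * (y⁻¹ * (h * y * h⁻¹)) := by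
      group
    rw [e]
    exact B.mul_mem (hB y hy _ hx') hy'
  inv_mem' := by
    rintro x ⟨hx, hx'⟩
    refine ⟨A.inv_mem hx, ?_⟩
    have e : x⁻¹⁻¹ * (h * x⁻¹ * h⁻¹) = x⁻¹⁻¹ * (x⁻¹ * (h * x * h⁻¹))⁻¹ * x⁻¹ := by group
    rw [e]
    exact hB _ (A.inv_mem hx) _ (B.inv_mem hx')

theorem mem_fixMod {h : G} {A B : Subgroup G} {hB : ∀ x ∈ A, ∀ y ∈ B, x⁻¹ * y * x ∈ B} {x : G} :
    x ∈ fixMod h A B hB ↔ x ∈ A ∧ x⁻¹ * (h * x * h⁻¹) ∈ B := Iff.rfl

theorem index_two_aux {A B C : Subgroup G} [Finite A] (hBC : B ≤ C) (hCA : C ≤ A)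
    (hc : Nat.card A = 4 * Nat.card B) (hne : ¬ C ≤ B) (hne' : ¬ A ≤ C) :
    (C.subgroupOf A).index = 2 ∧ (B.subgroupOf C).index = 2 := by
  have : Finite C := Finite.of_injective _ (inclusion_injective hCA)
  have : Finite B := Finite.of_injective _ (inclusion_injective hBC)
  have h1 := (C.subgroupOf A).card_mul_index
  have h2 := (B.subgroupOf C).card_mul_index
  rw [Nat.card_congr (subgroupOfEquivOfLe hCA).toEquiv] at h1
  rw [Nat.card_congr (subgroupOfEquivOfLe hBC).toEquiv] at h2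
  have h3 : (C.subgroupOf A).index ≠ 1 := by
    rw [Ne, index_eq_one, subgroupOf_eq_top]; exact hne'
  have h4 : (B.subgroupOf C).index ≠ 1 := by
    rw [Ne, index_eq_one, subgroupOf_eq_top]; exact hne
  have hB0 : 0 < Nat.card B := Nat.card_pos
  rw [← h2, hc, mul_assoc] at h1
  have h5 : (B.subgroupOf C).index * (C.subgroupOf A).index = 4 := by
    apply Nat.eq_of_mul_eq_mul_left hB0
    rw [h1, mul_comm]
  have h6 : (B.subgroupOf C).index ∣ 4 := Dvd.intro _ h5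
  have h7 : (B.subgroupOf C).index ≤ 4 := Nat.le_of_dvd (by norm_num) h6
  interval_cases h8 : (B.subgroupOf C).index <;> omega

/-- an element of order three on a section of order four acts trivially or without fixed points -/
theorem tr_or_fp {h : G} (h3 : h * h * h = 1) {A B : Subgroup G} [Finite A] (hBA : B ≤ A)
    (hc : Nat.card A = 4 * Nat.card B) (hA3 : ¬ 3 ∣ Nat.card A) (hA : ∀ x ∈ A, h * x * h⁻¹ ∈ A)
    (hB : ∀ x ∈ B, h * x * h⁻¹ ∈ B) (hBn : ∀ x ∈ A, ∀ y ∈ B, x⁻¹ * y * x ∈ B) : Tr h A B ∨ Fp h A B := by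
  by_contra hcon
  rw [not_or] at hcon
  obtain ⟨hT, hF⟩ := hcon
  unfold Tr at hT
  unfold Fp at hF
  push Not at hT hF
  obtain ⟨x, hx, hxB⟩ := hT
  obtain ⟨a, ha, haB, haB'⟩ := hF
  set C := fixMod h A B hBn with hC
  have hCA : C ≤ A := fun z hz => hz.1
  have hBC : B ≤ C := fun z hz => ⟨hBA hz, B.mul_mem (B.inv_mem hz) (hB z hz)⟩
  have : Finite C := Finite.of_injective _ (inclusion_injective hCA)
  obtain ⟨h2, -⟩ := index_two_aux hBC hCA hc (fun hle => haB' (hle ⟨ha, haB⟩)) (fun hle => hxB (hle hx).2)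
  have hCh : ∀ z ∈ C, h * z * h⁻¹ ∈ C := by
    rintro z ⟨hz, hz'⟩
    refine ⟨hA z hz, ?_⟩
    have e : (h * z * h⁻¹)⁻¹ * (h * (h * z * h⁻¹) * h⁻¹) = h * (z⁻¹ * (h * z * h⁻¹)) * h⁻¹ := by group
    rw [e]
    exact hB _ hz'
  have hxC : x ∉ C := fun hc => hxB hc.2
  have hx'C : h * x * h⁻¹ ∉ C := fun hc => hxC ((conj_mem_iff h3 hCh).1 hc)
  have h4 : x⁻¹ * (h * x * h⁻¹) ∈ C := by
    have h5 := mul_mem_iff_of_index_two h2 (a := ⟨x⁻¹, A.inv_mem hx⟩) (b := ⟨h * x * h⁻¹, hA x hx⟩)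
    rw [mem_subgroupOf, mem_subgroupOf, mem_subgroupOf] at h5
    refine h5.2 (iff_of_false (fun hc => hxC ?_) hx'C)
    exact (C.inv_mem_iff).1 hc
  have hC3 : ¬ 3 ∣ Nat.card C := fun hd => hA3 (hd.trans (card_dvd_of_le hCA))
  obtain ⟨b, hb, hb2⟩ := lift h3 hC3 hCh h4
  have h6 : x * b ∈ C := by
    refine ⟨A.mul_mem hx hb.1, ?_⟩
    rw [hb2]
    have e : (x * b)⁻¹ * (x * b * h * h⁻¹) = 1 := by group
    rw [e]; exact B.one_mem
  exact hxC ((C.mul_mem_cancel_right hb).1 h6)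

/-- no invariant subgroup between -/
theorem le_of_fp {h : G} {A B S : Subgroup G} [Finite A] (hBS : B ≤ S) (hSA : S ≤ A)
    (hc : Nat.card A = 4 * Nat.card B) (hS : ∀ x ∈ S, h * x * h⁻¹ ∈ S)
    (h3 : h * h * h = 1) (hB : ∀ x ∈ B, h * x * h⁻¹ ∈ B)
    (hf : Fp h A B) (hne : ¬ S ≤ B) : A ≤ S := by
  by_contra hcon
  obtain ⟨-, h2⟩ := index_two_aux hBS hSA hc hne hcon
  apply hne
  intro x hx
  by_contra hxB
  have h4 : x⁻¹ * (h * x * h⁻¹) ∈ B := by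
    have h5 := mul_mem_iff_of_index_two h2 (a := ⟨x⁻¹, S.inv_mem hx⟩) (b := ⟨h * x * h⁻¹, hS x hx⟩)
    rw [mem_subgroupOf, mem_subgroupOf, mem_subgroupOf] at h5
    exact h5.2 (iff_of_false (fun hc => hxB (B.inv_mem_iff.1 hc)) fun hc => hxB ((conj_mem_iff h3 hB).1 hc))
  exact hxB (hf x (hSA hx) h4)

theorem Tr.of_commute {h x : G} {B : Subgroup G} (hx : h * x = x * h) : x⁻¹ * (h * x * h⁻¹) ∈ B := by
  have e : x⁻¹ * (h * x * h⁻¹) = 1 := by rw [hx]; group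
  rw [e]; exact B.one_mem

/-- trivial times fixed point free is fixed point free -/
theorem Tr.mul_fp {g h : G} {A B : Subgroup G} (hg : Tr g A B) (hh : Fp h A B)
    (hA : ∀ x ∈ A, h * x * h⁻¹ ∈ A) : Fp (g * h) A B := by
  intro x hx hxB
  apply hh x hx
  have h1 := hg _ (hA x hx)
  have e : x⁻¹ * (h * x * h⁻¹) = (x⁻¹ * (g * h * x * (g * h)⁻¹)) *
      ((h * x * h⁻¹)⁻¹ * (g * (h * x * h⁻¹) * g⁻¹))⁻¹ := by group
  rw [e]
  exact B.mul_mem hxB (B.inv_mem h1)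

end Cfsg.Agent.Omega.GTwoFour.Id

end

section


/-!
# The pair of type `G₂(4)`: the input of the identification ID24

`Four` = the output of the pair theorem for `q = 4`, `c = 1` ((H1) - (H5) of
`blueprints/OMEGA-EH5-b2-helper195.md`), stated elementwise.  `X₁` is `X` (normal in the normaliser of
`V`, `X₁/Y = SL₂(4)` on `V`), `X₂/W = SL₂(4)`, `[X₂, R] = 1`; `h₁ ∈ X₁`, `h₂ ∈ X₂` are commuting elements of
order three normalising everything.
-/

set_option autoImplicit false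
set_option linter.unusedSectionVars false

namespace Cfsg.Agent.Omega.GTwoFour.Id

open Subgroup
open scoped MatrixGroups

/-- The pair of type `G₂(4)`. -/
structure Four (F : Type*) [Field F] {G : Type*} [Group G] (X₁ X₂ U V R W Y D : Subgroup G) (h₁ h₂ : G) :
    Prop where
  cF : Nat.card F = 4
  UX₁ : U ≤ X₁
  UX₂ : U ≤ X₂
  /- `X₁/Y = SL₂(4)`, `X₂/W = SL₂(4)` -/
  sl₁ : ∃ π : X₁ →* SL(2, F), Function.Surjective π ∧ ∀ x, π x = 1 ↔ (x : G) ∈ Y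
  sl₂ : ∃ π : X₂ →* SL(2, F), Function.Surjective π ∧ ∀ x, π x = 1 ↔ (x : G) ∈ W
  nV : ∀ x ∈ X₁, ∀ v ∈ V, x * v * x⁻¹ ∈ V
  nD : ∀ x ∈ X₁, ∀ v ∈ D, x * v * x⁻¹ ∈ D
  cR : ∀ x ∈ X₂, ∀ r ∈ R, x * r = r * x
  /- `R` is not normal in `X₁` -/
  Rn : ∃ x ∈ X₁, ∃ r ∈ R, x * r * x⁻¹ ∉ R
  RV : R ≤ V
  VD : V ≤ D
  DW : D ≤ W
  DY : D ≤ Y
  WU : W ≤ U
  YU : Y ≤ U
  UWY : ∀ u ∈ U, ∃ a ∈ W, ∃ b ∈ Y, u = a * b
  /- `W ∩ W^g ≤ D` for the other points `R^g` of `V` -/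
  D_of : ∀ g ∈ X₁, (∃ r ∈ R, g * r * g⁻¹ ∉ R) → ∀ d ∈ W, g⁻¹ * d * g ∈ W → d ∈ D
  kR : Nat.card R = 4
  kV : Nat.card V = 16
  kD : Nat.card D = 64
  kWY : Nat.card (W ⊓ Y : Subgroup G) = 256
  kW : Nat.card W = 1024
  kY : Nat.card Y = 1024
  kU : Nat.card U = 4096
  V_sq : ∀ v ∈ V, v * v = 1
  YV : ∀ y ∈ Y, ∀ v ∈ V, y * v = v * y
  /- `W' ≤ R` -/
  WW : ∀ a ∈ W, ∀ b ∈ W, a * b * a⁻¹ * b⁻¹ ∈ R
  /- `W` is generated by the conjugates of `V` under `X₂` -/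
  gen : ∀ K : Subgroup G, (∀ x ∈ X₂, ∀ v ∈ V, x * v * x⁻¹ ∈ K) → W ≤ K
  /- the torus -/
  h₁X : h₁ ∈ X₁
  h₂X : h₂ ∈ X₂
  h₁ne : h₁ ≠ 1
  h₂ne : h₂ ≠ 1
  h₁3 : h₁ * h₁ * h₁ = 1
  h₂3 : h₂ * h₂ * h₂ = 1
  hh : h₁ * h₂ = h₂ * h₁
  h₁X₂ : ∀ x ∈ X₂, h₁ * x * h₁⁻¹ ∈ X₂
  h₁U : ∀ x ∈ U, h₁ * x * h₁⁻¹ ∈ U
  h₁W : ∀ x ∈ W, h₁ * x * h₁⁻¹ ∈ W
  h₁R : ∀ x ∈ R, h₁ * x * h₁⁻¹ ∈ R
  h₂X₁ : ∀ x ∈ X₁, h₂ * x * h₂⁻¹ ∈ X₁
  h₂U : ∀ x ∈ U, h₂ * x * h₂⁻¹ ∈ U
  h₂Y : ∀ x ∈ Y, h₂ * x * h₂⁻¹ ∈ Y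
  h₂V : ∀ x ∈ V, h₂ * x * h₂⁻¹ ∈ V
  h₂D : ∀ x ∈ D, h₂ * x * h₂⁻¹ ∈ D

namespace Four

variable {F : Type*} [Field F] {G : Type*} [Group G] [Finite G] {X₁ X₂ U V R W Y D : Subgroup G} {h₁ h₂ : G}

section basic

variable (f : Four F X₁ X₂ U V R W Y D h₁ h₂)
include f

theorem not3 {S : Subgroup G} (hS : S ≤ U) : ¬ 3 ∣ Nat.card S := by
  intro h
  have h1 := h.trans (card_dvd_of_le hS)
  rw [f.kU] at h1
  omega

theorem not_mem_U {g : G} (hg : g ≠ 1) (h3 : g * g * g = 1) : g ∉ U := by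
  intro h
  apply hg
  have h1 : g ^ 4096 = 1 := by
    have := pow_card_eq_one' (x := (⟨g, h⟩ : U))
    rw [f.kU] at this
    exact congrArg Subtype.val this
  have h2 : g ^ 3 = 1 := by rw [pow_succ, pow_two, h3]
  have h4 : g ^ 4096 = (g ^ 3) ^ 1365 * g := by rw [← pow_mul, ← pow_succ]
  rw [h2, one_pow, one_mul] at h4
  rw [← h4, h1]

theorem two_U : IsPGroup 2 U := IsPGroup.of_card (n := 12) (by rw [f.kU]; norm_num)

theorem exists_c₁ : ∃ (w : F) (ρ : G → SL(2, F)), Ch X₁ Y U h₁ w ρ :=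
  exists_chart f.cF f.YU f.UX₁ f.two_U (by rw [f.kU, f.kY]) f.h₁X
    (fun h => f.not_mem_U f.h₁ne f.h₁3 (f.YU h)) f.h₁3 f.h₁U f.sl₁

theorem exists_c₂ : ∃ (w : F) (ρ : G → SL(2, F)), Ch X₂ W U h₂ w ρ :=
  exists_chart f.cF f.WU f.UX₂ f.two_U (by rw [f.kU, f.kW]) f.h₂X
    (fun h => f.not_mem_U f.h₂ne f.h₂3 (f.WU h)) f.h₂3 f.h₂U f.sl₂

theorem conj_R {x : G} (hx : x ∈ X₂) {r : G} (hr : r ∈ R) : x * r * x⁻¹ = r := by
  rw [f.cR x hx r hr, mul_inv_cancel_right]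

theorem conj_YV {y : G} (hy : y ∈ Y) {v : G} (hv : v ∈ V) : y * v * y⁻¹ = v := by
  rw [f.YV y hy v hv, mul_inv_cancel_right]

theorem VW : V ≤ W := f.VD.trans f.DW
theorem VY : V ≤ Y := f.VD.trans f.DY
theorem VU : V ≤ U := f.VW.trans f.WU
theorem RU : R ≤ U := f.RV.trans f.VU
theorem DU : D ≤ U := f.DW.trans f.WU
theorem RX₂ : R ≤ X₂ := f.RU.trans f.UX₂

theorem V_comm {a b : G} (ha : a ∈ V) (hb : b ∈ V) : a * b = b * a := f.YV a (f.VD.trans f.DY ha) b hb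

theorem V_inv {a : G} (ha : a ∈ V) : a⁻¹ = a := inv_eq_of_mul_eq_one_right (f.V_sq a ha)

end basic

/-- the set stabiliser, finite case -/
theorem mem_norm {g : G} {A : Subgroup G} (h : ∀ x ∈ A, g * x * g⁻¹ ∈ A) : g ∈ normalizer (A : Set G) := by
  have h1 : A.map (MulAut.conj g).toMonoidHom ≤ A := by
    rintro _ ⟨x, hx, rfl⟩
    exact h x hx
  have h2 : Nat.card A ≤ Nat.card (A.map (MulAut.conj g).toMonoidHom) :=
    (Nat.card_congr (A.equivMapOfInjective _ (MulAut.conj g).injective).toEquiv).le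
  have h3 := eq_of_le_of_card_ge h1 h2
  rw [mem_normalizer_iff]
  intro x
  refine ⟨h x, fun hx => ?_⟩
  rw [← h3] at hx
  obtain ⟨y, hy, hy2⟩ := hx
  have : y = x := (MulAut.conj g).injective hy2
  rwa [← this]

section chart

variable (f : Four F X₁ X₂ U V R W Y D h₁ h₂) {w₁ w₂ : F} {ρ₁ ρ₂ : G → SL(2, F)}
  (c₁ : Ch X₁ Y U h₁ w₁ ρ₁) (c₂ : Ch X₂ W U h₂ w₂ ρ₂)

include f c₁ in
/-- an element over `jj` moves `R` -/
theorem j_R {j : G} (hj : j ∈ X₁) (hj1 : ρ₁ j = jj) : ∃ r ∈ R, j * r * j⁻¹ ∉ R := by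
  by_contra hcon
  push Not at hcon
  have h1 : X₁ ≤ normalizer (R : Set G) := by
    refine c₁.le_of_mem ?_ hj hj1 (mem_norm hcon)
    intro u hu
    refine mem_norm fun r hr => ?_
    rw [f.conj_R (f.UX₂ hu) hr]
    exact hr
  obtain ⟨x, hx, r, hr, hxr⟩ := f.Rn
  exact hxr ((mem_normalizer_iff.1 (h1 hx) r).1 hr)

include f c₁ in
/-- elements of `X₁` acting trivially on `V` do not contain `U` -/
theorem V_nontriv (h : ∀ u ∈ U, ∀ v ∈ V, u * v = v * u) : False := by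
  let K : Subgroup G := centralizer (V : Set G)
  have hK : ∀ x, x ∈ K ↔ ∀ v ∈ V, x * v = v * x := by
    intro x
    change x ∈ centralizer (V : Set G) ↔ _
    rw [mem_centralizer_iff]
    exact ⟨fun h v hv => (h v hv).symm, fun h v hv => (h v hv).symm⟩
  have h1 : X₁ ≤ X₁ ⊓ K := by
    refine c₁.le_of_normal (K := X₁ ⊓ K) (fun u hu => ⟨f.UX₁ hu, (hK u).2 (h u hu)⟩) ?_
    rintro x hx y ⟨hy, hyK⟩
    refine ⟨X₁.mul_mem (X₁.mul_mem hx hy) (X₁.inv_mem hx), (hK _).2 fun v hv => ?_⟩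
    have h2 := (hK y).1 hyK (x⁻¹ * v * x) (by
      have := f.nV x⁻¹ (X₁.inv_mem hx) v hv
      rwa [inv_inv] at this)
    calc x * y * x⁻¹ * v = x * (y * (x⁻¹ * v * x)) * x⁻¹ := by group
      _ = v * (x * y * x⁻¹) := by rw [h2]; group
  obtain ⟨x, hx, r, hr, hxr⟩ := f.Rn
  apply hxr
  rw [(hK x).1 (h1 hx).2 r (f.RV hr), mul_inv_cancel_right]
  exact hr

include f c₁ in
/-- an element over `jj` commuting with `g` and inverting `h₁` -/
theorem exists_n {g : G} (g3 : g * g * g = 1) (gh : g * h₁ = h₁ * g) (gX : ∀ x ∈ X₁, ρ₁ (g * x * g⁻¹) = ρ₁ x)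
    (gX' : ∀ x ∈ X₁, g * x * g⁻¹ ∈ X₁) :
    ∃ n ∈ X₁, ρ₁ n = jj ∧ g * n = n * g ∧ n * h₁ * n⁻¹ = h₁⁻¹ := by
  have gY : ∀ y ∈ Y, g * y * g⁻¹ ∈ Y := by
    intro y hy
    have hyX := f.UX₁ (f.YU hy)
    rw [← c₁.ker _ (gX' y hyX), gX y hyX, c₁.ker y hyX]
    exact hy
  obtain ⟨j, hj, hj1⟩ := c₁.surj jj
  obtain ⟨b, hb, hb1⟩ := lift g3 (f.not3 f.YU) gY (x := j) ((c₁.eq_iff hj (gX' j hj)).1 (gX j hj).symm)
  set n₀ := j * b with hn₀
  have hbX := f.UX₁ (f.YU hb)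
  have hn₀X : n₀ ∈ X₁ := X₁.mul_mem hj hbX
  have hn₀1 : ρ₁ n₀ = jj := by
    rw [hn₀, c₁.mul _ hj _ hbX, hj1, (c₁.ker b hbX).2 hb, mul_one]
  -- the fixed points of `g` in `Y`
  set N : Subgroup G := Y ⊓ centralizer ({g} : Set G) with hN
  have hNm : ∀ x, x ∈ N ↔ x ∈ Y ∧ g * x = x * g := by
    intro x
    rw [hN, mem_inf, mem_centralizer_singleton_iff]
    exact ⟨fun h => ⟨h.1, h.2.symm⟩, fun h => ⟨h.1, h.2.symm⟩⟩
  have h1 : n₀ * h₁ * n₀⁻¹ * (n₀ * h₁ * n₀⁻¹) * (n₀ * h₁ * n₀⁻¹) = 1 := by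
    calc n₀ * h₁ * n₀⁻¹ * (n₀ * h₁ * n₀⁻¹) * (n₀ * h₁ * n₀⁻¹) = n₀ * (h₁ * h₁ * h₁) * n₀⁻¹ := by group
      _ = 1 := by rw [f.h₁3]; group
  have h2 : h₁⁻¹ * h₁⁻¹ * h₁⁻¹ = 1 := by
    calc h₁⁻¹ * h₁⁻¹ * h₁⁻¹ = (h₁ * h₁ * h₁)⁻¹ := by group
      _ = 1 := by rw [f.h₁3, inv_one]
  have hNU : N ≤ U := inf_le_left.trans f.YU
  obtain ⟨y, hy, hy1⟩ := exists_fix (f.not3 hNU) h1 h2 (by
    intro y hy
    rw [hNm] at hy ⊢
    rw [inv_inv]
    have hyX := f.UX₁ (f.YU hy.1)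
    have hc := X₁.mul_mem (X₁.mul_mem hn₀X f.h₁X) (X₁.inv_mem hn₀X)
    refine ⟨?_, ?_⟩
    · rw [← c₁.ker _ (X₁.mul_mem (X₁.mul_mem hc hyX) f.h₁X), c₁.mul _ (X₁.mul_mem hc hyX) _ f.h₁X,
        c₁.mul _ hc _ hyX, c₁.conj hn₀X f.h₁X, hn₀1, (c₁.ker y hyX).2 hy.1, jj_IsD c₁.dg]
      group
    · have hgn : g * n₀⁻¹ = n₀⁻¹ * g := by
        calc g * n₀⁻¹ = n₀⁻¹ * (n₀ * g) * n₀⁻¹ := by group
          _ = _ := by rw [← hb1]; group
      calc g * (n₀ * h₁ * n₀⁻¹ * y * h₁) = (g * n₀) * h₁ * n₀⁻¹ * y * h₁ := by group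
        _ = n₀ * (g * h₁) * n₀⁻¹ * y * h₁ := by rw [hb1]; group
        _ = n₀ * h₁ * (g * n₀⁻¹) * y * h₁ := by rw [gh]; group
        _ = n₀ * h₁ * n₀⁻¹ * (g * y) * h₁ := by rw [hgn]; group
        _ = n₀ * h₁ * n₀⁻¹ * y * (g * h₁) := by rw [hy.2]; group
        _ = _ := by rw [gh]; group)
  rw [hNm] at hy
  have hyX := f.UX₁ (f.YU hy.1)
  refine ⟨y⁻¹ * n₀, X₁.mul_mem (X₁.inv_mem hyX) hn₀X, ?_, ?_, ?_⟩
  · rw [c₁.mul _ (X₁.inv_mem hyX) _ hn₀X, c₁.inv hyX, (c₁.ker y hyX).2 hy.1, hn₀1]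
    group
  · have hgy : g * y⁻¹ = y⁻¹ * g := by
      calc g * y⁻¹ = y⁻¹ * (y * g) * y⁻¹ := by group
        _ = _ := by rw [← hy.2]; group
    calc g * (y⁻¹ * n₀) = (g * y⁻¹) * n₀ := by group
      _ = y⁻¹ * (g * n₀) := by rw [hgy]; group
      _ = _ := by rw [hb1]; group
  · calc y⁻¹ * n₀ * h₁ * (y⁻¹ * n₀)⁻¹ = y⁻¹ * (n₀ * h₁ * n₀⁻¹ * y) := by group
      _ = _ := by rw [hy1]; group

end chart

end Four

end Cfsg.Agent.Omega.GTwoFour.Id

end

section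


/-!
# The torus of the pair of type `G₂(4)`, I: fixed points of `h₁` and of the element centralising `X₂/W`
-/

set_option autoImplicit false
set_option linter.unusedSectionVars false

namespace Cfsg.Agent.Omega.GTwoFour.Id

open Subgroup
open scoped MatrixGroups

namespace Four

variable {F : Type*} [Field F] {G : Type*} [Group G] [Finite G] {X₁ X₂ U V R W Y D : Subgroup G} {h₁ h₂ : G}

section chart

variable (f : Four F X₁ X₂ U V R W Y D h₁ h₂) {w₁ w₂ : F} {ρ₁ ρ₂ : G → SL(2, F)}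
  (c₁ : Ch X₁ Y U h₁ w₁ ρ₁) (c₂ : Ch X₂ W U h₂ w₂ ρ₂)

theorem bot_card : Nat.card (⊥ : Subgroup G) = 1 := by simp

theorem up_inv {F : Type*} [Field F] (hF : Nat.card F = 4) (t : F) : (up t)⁻¹ = up t := by
  rw [inv_eq_iff_mul_eq_one, ← up_add, addself hF, up_zero]

include f c₁ in
theorem h₁V : ¬ ∀ v ∈ V, h₁ * v = v * h₁ := by
  intro hV
  refine f.V_nontriv c₁ fun u hu v hv => ?_
  have huX := f.UX₁ hu
  obtain ⟨t, ht⟩ := (c₁.up u huX).1 hu
  obtain ⟨u₀, hu₀, hu₀1⟩ := c₁.exists_up (w₁ * t)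
  have hu₀X := f.UX₁ hu₀
  set z := h₁ * u₀ * h₁⁻¹ * u₀⁻¹ with hz
  have hzX : z ∈ X₁ := X₁.mul_mem (X₁.mul_mem (X₁.mul_mem f.h₁X hu₀X) (X₁.inv_mem f.h₁X)) (X₁.inv_mem hu₀X)
  have hz1 : ρ₁ z = up t := by
    rw [hz, c₁.mul _ (X₁.mul_mem (X₁.mul_mem f.h₁X hu₀X) (X₁.inv_mem f.h₁X)) _ (X₁.inv_mem hu₀X),
      c₁.conj_h hu₀X hu₀1, c₁.inv hu₀X, hu₀1, up_inv f.cF, ← up_add]
    congr 1
    linear_combination t * c₁.w2 - t * two f.cF
  have h1 : z⁻¹ * u ∈ Y := (c₁.eq_iff hzX huX).1 (hz1.trans ht.symm)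
  have h2 : z * v = v * z := by
    have h3 : u₀⁻¹ * v * u₀ ∈ V := by
      have := f.nV _ (X₁.inv_mem hu₀X) v hv
      rwa [inv_inv] at this
    have h4 := hV _ h3
    have h4' : h₁⁻¹ * (u₀⁻¹ * v * u₀) = (u₀⁻¹ * v * u₀) * h₁⁻¹ := by
      calc h₁⁻¹ * (u₀⁻¹ * v * u₀) = h₁⁻¹ * ((u₀⁻¹ * v * u₀) * h₁) * h₁⁻¹ := by group
        _ = _ := by rw [← h4]; group
    have h5 : u₀ * (u₀⁻¹ * v * u₀ * h₁⁻¹) * u₀⁻¹ = v * (u₀ * h₁⁻¹ * u₀⁻¹) := by group
    calc z * v = h₁ * (u₀ * (h₁⁻¹ * (u₀⁻¹ * v * u₀)) * u₀⁻¹) := by rw [hz]; group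
      _ = h₁ * v * (u₀ * h₁⁻¹ * u₀⁻¹) := by rw [h4', h5]; exact (mul_assoc _ _ _).symm
      _ = v * h₁ * (u₀ * h₁⁻¹ * u₀⁻¹) := by rw [hV v hv]
      _ = v * z := by rw [hz]; group
  have h6 := f.YV _ h1 v hv
  calc u * v = z * (z⁻¹ * u * v) := by group
    _ = z * v * (z⁻¹ * u) := by rw [h6, ← mul_assoc]
    _ = v * u := by rw [h2]; group

include f c₁ in
/-- an element over `jj` inverting `h₁` -/
theorem exists_n₁ : ∃ n ∈ X₁, ρ₁ n = jj ∧ n * h₁ * n⁻¹ = h₁⁻¹ := by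
  obtain ⟨n, hn, hn1, -, hn2⟩ := f.exists_n c₁ (g := 1) (by group) (by group)
    (fun x _ => by rw [one_mul, inv_one, mul_one]) (fun x hx => by rwa [one_mul, inv_one, mul_one])
  exact ⟨n, hn, hn1, hn2⟩

include f c₁ in
theorem fp_h₁R : Fp h₁ R ⊥ := by
  rcases tr_or_fp f.h₁3 (A := R) (B := ⊥) bot_le (by rw [f.kR, bot_card]) (f.not3 f.RU) f.h₁R
    (by rintro x hx; rw [mem_bot] at hx ⊢; rw [hx]; group)
    (by rintro x _ y hy; rw [mem_bot] at hy ⊢; rw [hy]; group) with hT | hF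
  swap
  · exact hF
  exfalso
  have hR : ∀ r ∈ R, h₁ * r = r * h₁ := by
    intro r hr
    have h1 := hT r hr
    rw [mem_bot] at h1
    calc h₁ * r = r * (r⁻¹ * (h₁ * r * h₁⁻¹)) * h₁ := by group
      _ = _ := by rw [h1]; group
  obtain ⟨n, hn, hn1, hn2⟩ := f.exists_n₁ c₁
  obtain ⟨r₀, hr₀, hr₀1⟩ := f.j_R c₁ hn hn1
  have hv : n * r₀ * n⁻¹ ∈ V := f.nV n hn _ (f.RV hr₀)
  have hv1 : h₁ * (n * r₀ * n⁻¹) = (n * r₀ * n⁻¹) * h₁ := by
    have e1 : h₁ * n = n * h₁⁻¹ := by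
      have h5 : n * h₁ = h₁⁻¹ * n := by
        calc n * h₁ = n * h₁ * n⁻¹ * n := by group
          _ = _ := by rw [hn2]
      calc h₁ * n = h₁ * (n * h₁) * h₁⁻¹ := by group
        _ = _ := by rw [h5]; group
    have e2 : n⁻¹ * h₁ = h₁⁻¹ * n⁻¹ := by
      calc n⁻¹ * h₁ = n⁻¹ * (h₁ * n) * n⁻¹ := by group
        _ = _ := by rw [e1]; group
    have e3 : h₁⁻¹ * r₀ = r₀ * h₁⁻¹ := by
      calc h₁⁻¹ * r₀ = h₁⁻¹ * (r₀ * h₁) * h₁⁻¹ := by group
        _ = _ := by rw [← hR r₀ hr₀]; group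
    calc h₁ * (n * r₀ * n⁻¹) = (h₁ * n) * r₀ * n⁻¹ := by group
      _ = n * (h₁⁻¹ * r₀) * n⁻¹ := by rw [e1]; group
      _ = n * r₀ * (h₁⁻¹ * n⁻¹) := by rw [e3]; group
      _ = _ := by rw [← e2]; group
  rcases tr_or_fp f.h₁3 (A := V) (B := R) f.RV (by rw [f.kR, f.kV]) (f.not3 f.VU) (f.nV h₁ f.h₁X) f.h₁R
    (fun x hx y hy => by
      rw [f.V_comm (V.inv_mem hx) (f.RV hy)]; rwa [inv_mul_cancel_right]) with hT' | hF'
  · refine f.h₁V c₁ fun v hv => ?_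
    obtain ⟨r, hr, hr1⟩ := lift f.h₁3 (f.not3 f.RU) f.h₁R (hT' v hv)
    have h5 := hR r hr
    calc h₁ * v = h₁ * (v * r) * r⁻¹ := by group
      _ = v * (r * h₁) * r⁻¹ := by rw [hr1]; group
      _ = v * h₁ := by rw [← h5]; group
  · exact hr₀1 (hF' _ hv (Tr.of_commute hv1))

include f c₁ in
/-- `R ∩ R^n = 1` -/
theorem R_inter {n : G} (hn : n ∈ X₁) (hn1 : ρ₁ n = jj) (hn2 : n * h₁ * n⁻¹ = h₁⁻¹) {r : G} (hr : r ∈ R)
    (hr' : n * r * n⁻¹ ∈ R) : r = 1 := by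
  let S : Subgroup G :=
    { carrier := {r | r ∈ R ∧ n * r * n⁻¹ ∈ R}
      one_mem' := ⟨R.one_mem, by rw [mul_one, mul_inv_cancel]; exact R.one_mem⟩
      mul_mem' := by
        rintro x y ⟨hx, hx'⟩ ⟨hy, hy'⟩
        refine ⟨R.mul_mem hx hy, ?_⟩
        have e : n * (x * y) * n⁻¹ = (n * x * n⁻¹) * (n * y * n⁻¹) := by group
        rw [e]; exact R.mul_mem hx' hy'
      inv_mem' := by
        rintro x ⟨hx, hx'⟩
        refine ⟨R.inv_mem hx, ?_⟩
        have e : n * x⁻¹ * n⁻¹ = (n * x * n⁻¹)⁻¹ := by group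
        rw [e]; exact R.inv_mem hx' }
  have hSR : S ≤ R := fun x hx => hx.1
  have hSh : ∀ x ∈ S, h₁ * x * h₁⁻¹ ∈ S := by
    rintro x ⟨hx, hx'⟩
    refine ⟨f.h₁R x hx, ?_⟩
    have e1 : n * h₁ = h₁⁻¹ * n := by
      calc n * h₁ = n * h₁ * n⁻¹ * n := by group
        _ = _ := by rw [hn2]
    have e2 : n * (h₁ * x * h₁⁻¹) * n⁻¹ = h₁⁻¹ * (n * x * n⁻¹) * h₁ := by
      calc n * (h₁ * x * h₁⁻¹) * n⁻¹ = (n * h₁) * x * (n * h₁)⁻¹ := by group
        _ = _ := by rw [e1]; group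
    rw [e2]
    exact inv_conj f.h₁3 f.h₁R hx'
  by_contra hne
  have h1 := le_of_fp (h := h₁) (A := R) (B := ⊥) (S := S) bot_le hSR (by rw [f.kR, bot_card]) hSh f.h₁3
    (by rintro x hx; rw [mem_bot] at hx ⊢; rw [hx]; group) (f.fp_h₁R c₁)
    (fun hle => hne (mem_bot.1 (hle ⟨hr, hr'⟩)))
  obtain ⟨r₀, hr₀, hr₀1⟩ := f.j_R c₁ hn hn1
  exact hr₀1 (h1 hr₀).2

include f in
theorem exists_R : ∃ r ∈ R, r ≠ 1 := by
  by_contra hcon
  push Not at hcon
  have h1 : R = ⊥ := (eq_bot_iff_forall R).2 hcon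
  have h2 := f.kR
  rw [h1, bot_card] at h2
  omega

include f c₁ in
theorem fp_h₁VR : Fp h₁ V R := by
  rcases tr_or_fp f.h₁3 (A := V) (B := R) f.RV (by rw [f.kR, f.kV]) (f.not3 f.VU) (f.nV h₁ f.h₁X) f.h₁R
    (fun x hx y hy => by
      rw [f.V_comm (V.inv_mem hx) (f.RV hy)]; rwa [inv_mul_cancel_right]) with hT | hF
  swap
  · exact hF
  exfalso
  obtain ⟨n, hn, hn1, hn2⟩ := f.exists_n₁ c₁
  obtain ⟨r, hr, hr1⟩ := f.exists_R
  have h1 := hT _ (f.nV n hn r (f.RV hr))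
  have e0 : n⁻¹ * h₁ * n = h₁⁻¹ := by
    have h5 : n * h₁⁻¹ * n⁻¹ = h₁ := by
      calc n * h₁⁻¹ * n⁻¹ = (n * h₁ * n⁻¹)⁻¹ := by group
        _ = _ := by rw [hn2, inv_inv]
    calc n⁻¹ * h₁ * n = n⁻¹ * (n * h₁⁻¹ * n⁻¹) * n := by rw [h5]
      _ = _ := by group
  have e1 : (n * r * n⁻¹)⁻¹ * (h₁ * (n * r * n⁻¹) * h₁⁻¹) = n * (r⁻¹ * (h₁⁻¹ * r * h₁)) * n⁻¹ := by
    calc (n * r * n⁻¹)⁻¹ * (h₁ * (n * r * n⁻¹) * h₁⁻¹) =
        n * (r⁻¹ * ((n⁻¹ * h₁ * n) * r * (n⁻¹ * h₁ * n)⁻¹)) * n⁻¹ := by group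
      _ = _ := by rw [e0, inv_inv]
  rw [e1] at h1
  have h2 : r⁻¹ * (h₁⁻¹ * r * h₁) ∈ R := R.mul_mem (R.inv_mem hr) (inv_conj f.h₁3 f.h₁R hr)
  have h3 := f.R_inter c₁ hn hn1 hn2 h2 h1
  have h4 : h₁ * r = r * h₁ := by
    calc h₁ * r = h₁ * r * (r⁻¹ * (h₁⁻¹ * r * h₁)) := by rw [h3, mul_one]
      _ = _ := by group
  exact hr1 (mem_bot.1 (f.fp_h₁R c₁ r hr (Tr.of_commute h4)))

include f c₁ in
theorem fp_h₁V {v : G} (hv : v ∈ V) (h : h₁ * v = v * h₁) : v = 1 :=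
  mem_bot.1 (f.fp_h₁R c₁ v (f.fp_h₁VR c₁ v hv (Tr.of_commute h)) (Tr.of_commute h))

/-! ### the element centralising `X₂/W` -/

include f in
theorem UV {u v : G} (hu : u ∈ U) (hv : v ∈ V) : u * v * u⁻¹ * v⁻¹ ∈ R := by
  obtain ⟨a, ha, b, hb, rfl⟩ := f.UWY u hu
  have e : a * b * v * (a * b)⁻¹ * v⁻¹ = a * (b * v * b⁻¹) * a⁻¹ * v⁻¹ := by group
  rw [e, f.conj_YV hb hv]
  exact f.WW a ha v (f.VW hv)

include f c₂ in
/-- conjugation by `t` and `x` commute modulo `R` -/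
theorem key {t : G} (tX : ∀ x ∈ X₂, t * x * t⁻¹ ∈ X₂) (tW : ∀ x ∈ W, t * x * t⁻¹ ∈ W)
    (tρ : ∀ x ∈ X₂, ρ₂ (t * x * t⁻¹) = ρ₂ x) {x z : G} (hx : x ∈ X₂) (hz : z ∈ W) :
    ∃ r ∈ R, t * (x * z * x⁻¹) * t⁻¹ = r * (x * (t * z * t⁻¹) * x⁻¹) := by
  have ha : x⁻¹ * (t * x * t⁻¹) ∈ W := (c₂.eq_iff hx (tX x hx)).1 (tρ x hx).symm
  set a := x⁻¹ * (t * x * t⁻¹) with hae
  set y := t * z * t⁻¹ with hy
  have hyW : y ∈ W := tW z hz
  have hr : a * y * a⁻¹ * y⁻¹ ∈ R := f.WW a ha y hyW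
  refine ⟨_, hr, ?_⟩
  have h1 := f.conj_R hx hr
  calc t * (x * z * x⁻¹) * t⁻¹ = x * (a * y * a⁻¹ * y⁻¹) * x⁻¹ * (x * y * x⁻¹) := by rw [hae, hy]; group
    _ = _ := by rw [h1]

include f c₁ c₂ in
theorem fp_tVR {t : G} (t3 : t * t * t = 1) (tX : ∀ x ∈ X₂, t * x * t⁻¹ ∈ X₂)
    (tW : ∀ x ∈ W, t * x * t⁻¹ ∈ W) (tV : ∀ x ∈ V, t * x * t⁻¹ ∈ V)
    (tR : ∀ x ∈ R, t * x * t⁻¹ ∈ R) (tρ : ∀ x ∈ X₂, ρ₂ (t * x * t⁻¹) = ρ₂ x) (tf : Fp t R ⊥) : Fp t V R := by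
  rcases tr_or_fp t3 (A := V) (B := R) f.RV (by rw [f.kR, f.kV]) (f.not3 f.VU) tV tR
    (fun x hx y hy => by
      rw [f.V_comm (V.inv_mem hx) (f.RV hy)]; rwa [inv_mul_cancel_right]) with hT | hF
  swap
  · exact hF
  exfalso
  have hWR : ∀ x ∈ W, ∀ y ∈ R, x⁻¹ * y * x ∈ R := by
    intro x hx y hy
    have h1 := f.conj_R (X₂.inv_mem (f.UX₂ (f.WU hx))) hy
    rw [inv_inv] at h1
    rwa [h1]
  have hTW : W ≤ fixMod t W R hWR := by
    refine f.gen _ fun x hx v hv => ?_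
    have hvW := f.VW hv
    refine ⟨c₂.nN hx hvW, ?_⟩
    obtain ⟨r, hr, hr1⟩ := f.key c₂ tX tW tρ hx hvW
    have h1 := hT v hv
    have h2 := f.conj_R hx h1
    have h3 := f.conj_R (X₂.mul_mem (X₂.mul_mem hx (f.UX₂ (f.VU (V.inv_mem hv)))) (X₂.inv_mem hx)) hr
    have e : (x * v * x⁻¹)⁻¹ * (t * (x * v * x⁻¹) * t⁻¹) = r * (v⁻¹ * (t * v * t⁻¹)) := by
      rw [hr1]
      calc (x * v * x⁻¹)⁻¹ * (r * (x * (t * v * t⁻¹) * x⁻¹)) =
          (x * v⁻¹ * x⁻¹) * r * (x * v⁻¹ * x⁻¹)⁻¹ * (x * (v⁻¹ * (t * v * t⁻¹)) * x⁻¹) := by group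
        _ = _ := by rw [h3, h2]
    rw [e]
    exact R.mul_mem hr h1
  refine f.V_nontriv c₁ fun u hu v hv => ?_
  -- fixed elements
  obtain ⟨a, ha, ha1⟩ := lift t3 (f.not3 f.WU) tW (x := u)
    ((c₂.eq_iff (f.UX₂ hu) (tX u (f.UX₂ hu))).1 (tρ u (f.UX₂ hu)).symm)
  obtain ⟨r, hr, hr1⟩ := lift t3 (f.not3 f.RU) tR (hTW ha).2
  obtain ⟨s, hs, hs1⟩ := lift t3 (f.not3 f.RU) tR (hT v hv)
  set d := u * a * (a * r)⁻¹ with hd
  have hdU : d ∈ U := U.mul_mem (U.mul_mem hu (f.WU ha)) (U.inv_mem (U.mul_mem (f.WU ha) (f.RU hr)))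
  have hdt : t * d = d * t := by
    have e1 : t * (a * r)⁻¹ = (a * r)⁻¹ * t := by
      calc t * (a * r)⁻¹ = (a * r)⁻¹ * (a * r * t) * (a * r)⁻¹ := by group
        _ = _ := by rw [← hr1]; group
    calc t * d = t * (u * a) * (a * r)⁻¹ := by rw [hd]; group
      _ = u * a * (t * (a * r)⁻¹) := by rw [ha1]; group
      _ = _ := by rw [e1, hd]; group
  have hvs : v * s ∈ V := V.mul_mem hv (f.RV hs)
  have hcR := f.UV hdU hvs
  have hct : t * (d * (v * s) * d⁻¹ * (v * s)⁻¹) = (d * (v * s) * d⁻¹ * (v * s)⁻¹) * t := by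
    have e1 : t * d⁻¹ = d⁻¹ * t := by
      calc t * d⁻¹ = d⁻¹ * (d * t) * d⁻¹ := by group
        _ = _ := by rw [← hdt]; group
    have e2 : t * (v * s)⁻¹ = (v * s)⁻¹ * t := by
      calc t * (v * s)⁻¹ = (v * s)⁻¹ * (v * s * t) * (v * s)⁻¹ := by group
        _ = _ := by rw [← hs1]; group
    calc t * (d * (v * s) * d⁻¹ * (v * s)⁻¹) = (t * d) * (v * s) * d⁻¹ * (v * s)⁻¹ := by group
      _ = d * (t * (v * s)) * d⁻¹ * (v * s)⁻¹ := by rw [hdt]; group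
      _ = d * (v * s) * (t * d⁻¹) * (v * s)⁻¹ := by rw [hs1]; group
      _ = d * (v * s) * d⁻¹ * (t * (v * s)⁻¹) := by rw [e1]; group
      _ = _ := by rw [e2]; group
  have h1 := mem_bot.1 (tf _ hcR (Tr.of_commute hct))
  have h2 : d * (v * s) = (v * s) * d := by
    calc d * (v * s) = d * (v * s) * d⁻¹ * (v * s)⁻¹ * ((v * s) * d) := by group
      _ = _ := by rw [h1, one_mul]
  -- `u = d r`, `r`, `s` central
  have hud : u = d * r := by
    have h3 : a * r = r * a := (f.cR a (f.UX₂ (f.WU ha)) r hr)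
    rw [hd, h3]; group
  have h3 := f.cR u (f.UX₂ hu) s hs
  have h4 := f.cR v (f.UX₂ (f.VU hv)) r hr
  have h5 := f.cR s (f.UX₂ (f.RU hs)) r hr
  calc u * v = u * (v * s) * s⁻¹ := by group
    _ = d * (r * (v * s)) * s⁻¹ := by rw [hud]; group
    _ = d * (v * s) * r * s⁻¹ := by
        rw [show r * (v * s) = v * s * r by rw [mul_assoc, h5, ← mul_assoc, ← h4, mul_assoc]]; group
    _ = v * s * (d * r) * s⁻¹ := by rw [h2]; group
    _ = v * (s * u) * s⁻¹ := by rw [← hud]; group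
    _ = v * u := by rw [← h3]; group

include f c₁ c₂ in
/-- **`C_W(t) = 1`** -/
theorem fp_tW {t : G} (t3 : t * t * t = 1) (tX : ∀ x ∈ X₂, t * x * t⁻¹ ∈ X₂)
    (tW : ∀ x ∈ W, t * x * t⁻¹ ∈ W) (tV : ∀ x ∈ V, t * x * t⁻¹ ∈ V)
    (tR : ∀ x ∈ R, t * x * t⁻¹ ∈ R) (tρ : ∀ x ∈ X₂, ρ₂ (t * x * t⁻¹) = ρ₂ x) (tf : Fp t R ⊥) {z : G}
    (hz : z ∈ W) (htz : t * z = z * t) : z = 1 := by
  have hF := f.fp_tVR c₁ c₂ t3 tX tW tV tR tρ tf
  have hn : (R.subgroupOf W).Normal := by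
    refine ⟨fun r hr x => ?_⟩
    rw [mem_subgroupOf] at hr ⊢
    have := f.conj_R (f.UX₂ (f.WU x.2)) hr
    change (x : G) * r * (x : G)⁻¹ ∈ R
    rwa [this]
  let inst : CommGroup (W ⧸ R.subgroupOf W) :=
    { (inferInstance : Group (W ⧸ R.subgroupOf W)) with
      mul_comm := by
        intro a b
        induction a using QuotientGroup.induction_on with
        | H a =>
          induction b using QuotientGroup.induction_on with
          | H b =>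
            rw [← QuotientGroup.mk_mul, ← QuotientGroup.mk_mul, QuotientGroup.eq, mem_subgroupOf]
            have := f.WW (b : G)⁻¹ (W.inv_mem b.2) (a : G)⁻¹ (W.inv_mem a.2)
            have e : ((a * b)⁻¹ * (b * a) : W) = (b : G)⁻¹ * (a : G)⁻¹ * (b : G)⁻¹⁻¹ * (a : G)⁻¹⁻¹ := by
              push_cast; group
            rw [e]; exact this }
  let φ : W →* W ⧸ R.subgroupOf W := QuotientGroup.mk' _
  have hφ : ∀ a b : W, φ a = φ b ↔ (a : G)⁻¹ * b ∈ R := fun a b => by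
    change (QuotientGroup.mk a : W ⧸ R.subgroupOf W) = QuotientGroup.mk b ↔ _
    rw [QuotientGroup.eq, mem_subgroupOf]
    rfl
  let τ : W →* W :=
    { toFun := fun x => ⟨t * x * t⁻¹, tW x x.2⟩
      map_one' := Subtype.ext (by change t * 1 * t⁻¹ = 1; group)
      map_mul' := fun x y => Subtype.ext (by
        change t * (x * y) * t⁻¹ = t * x * t⁻¹ * (t * y * t⁻¹); group) }
  let N : W →* W ⧸ R.subgroupOf W := φ * φ.comp τ * φ.comp (τ.comp τ)
  have hN : ∀ x, N x = φ (x * τ x * τ (τ x)) := fun x => by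
    rw [map_mul, map_mul]; rfl
  let K : Subgroup G := N.ker.map W.subtype
  have hW : W ≤ K := by
    refine f.gen _ fun x hx v hv => ?_
    have hvW := f.VW hv
    have hxW := c₂.nN hx hvW
    refine ⟨⟨x * v * x⁻¹, hxW⟩, ?_, rfl⟩
    have hkey : ∀ z (hz : z ∈ W), φ (τ ⟨x * z * x⁻¹, c₂.nN hx hz⟩) =
        φ ⟨x * (t * z * t⁻¹) * x⁻¹, c₂.nN hx (tW z hz)⟩ := by
      intro z hz
      obtain ⟨r, hr, hr1⟩ := f.key c₂ tX tW tρ hx hz
      rw [hφ]
      change (t * (x * z * x⁻¹) * t⁻¹)⁻¹ * (x * (t * z * t⁻¹) * x⁻¹) ∈ R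
      rw [hr1]
      have hyW : x * (t * z * t⁻¹) * x⁻¹ ∈ W := c₂.nN hx (tW z hz)
      set y := x * (t * z * t⁻¹) * x⁻¹
      have h1 := f.conj_R (X₂.inv_mem (f.UX₂ (f.WU hyW))) (R.inv_mem hr)
      have e : (r * y)⁻¹ * y = y⁻¹ * r⁻¹ * y⁻¹⁻¹ := by group
      rw [e, h1]
      exact R.inv_mem hr
    have hτφ : ∀ a b : W, φ a = φ b → φ (τ a) = φ (τ b) := by
      intro a b hab
      rw [hφ] at hab ⊢
      change (t * a * t⁻¹)⁻¹ * (t * b * t⁻¹) ∈ R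
      have e : (t * a * t⁻¹)⁻¹ * (t * b * t⁻¹) = t * ((a : G)⁻¹ * b) * t⁻¹ := by group
      rw [e]
      exact tR _ hab
    rw [SetLike.mem_coe, MonoidHom.mem_ker, hN, map_mul, map_mul]
    have e1 := hkey v hvW
    have e2 := hτφ _ _ e1
    rw [hkey _ (tW v hvW)] at e2
    rw [e2, e1, ← map_mul, ← map_mul]
    rw [show (1 : W ⧸ R.subgroupOf W) = φ 1 from (map_one φ).symm]
    rw [eq_comm, hφ]
    change (1 : G)⁻¹ * (x * v * x⁻¹ * (x * (t * v * t⁻¹) * x⁻¹) * (x * (t * (t * v * t⁻¹) * t⁻¹) * x⁻¹)) ∈ R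
    set y := v * (t * v * t⁻¹) * (t * (t * v * t⁻¹) * t⁻¹) with hy
    have htv := tV v hv
    have httv := tV _ htv
    have hyV : y ∈ V := V.mul_mem (V.mul_mem hv htv) httv
    have hyR : y ∈ R := by
      refine hF y hyV ?_
      have h5 : t * y * t⁻¹ = y := by
        have h6 : t * (t * (t * v * t⁻¹) * t⁻¹) * t⁻¹ = v := by
          calc t * (t * (t * v * t⁻¹) * t⁻¹) * t⁻¹ = (t * t * t) * v * (t * t * t)⁻¹ := by group
            _ = v := by rw [t3]; group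
        calc t * y * t⁻¹ = (t * v * t⁻¹) * (t * (t * v * t⁻¹) * t⁻¹) * (t * (t * (t * v * t⁻¹) * t⁻¹) * t⁻¹) := by
              rw [hy]; group
          _ = (t * v * t⁻¹) * (t * (t * v * t⁻¹) * t⁻¹) * v := by rw [h6]
          _ = v * ((t * v * t⁻¹) * (t * (t * v * t⁻¹) * t⁻¹)) := f.V_comm (V.mul_mem htv httv) hv
          _ = y := by rw [hy]; group
      rw [h5, inv_mul_cancel]
      exact R.one_mem
    have e5 : (1 : G)⁻¹ * (x * v * x⁻¹ * (x * (t * v * t⁻¹) * x⁻¹) * (x * (t * (t * v * t⁻¹) * t⁻¹) * x⁻¹)) =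
        x * y * x⁻¹ := by rw [hy]; group
    rw [e5, f.conj_R hx hyR]
    exact hyR
  obtain ⟨z', hz', hz'1⟩ := hW hz
  have hzz : z' = ⟨z, hz⟩ := Subtype.ext hz'1
  rw [hzz, SetLike.mem_coe, MonoidHom.mem_ker, hN, show (1 : W ⧸ R.subgroupOf W) = φ 1 from (map_one φ).symm,
    eq_comm, hφ] at hz'
  have h7 : t * z * t⁻¹ = z := by rw [htz, mul_inv_cancel_right]
  have h8 : (1 : G)⁻¹ * (z * (t * z * t⁻¹) * (t * (t * z * t⁻¹) * t⁻¹)) ∈ R := hz'
  rw [h7, h7, inv_one, one_mul] at h8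
  have h9 : z * z * z = 1 := by
    have hc : Commute t z := htz
    exact mem_bot.1 (tf _ h8 (Tr.of_commute ((hc.mul_right hc).mul_right hc).eq))
  by_contra hne
  exact f.not_mem_U hne h9 (f.WU hz)

end chart

end Four

end Cfsg.Agent.Omega.GTwoFour.Id

end

section


/-!
# The torus of the pair of type `G₂(4)`, II: the four subgroups of order three
-/

set_option autoImplicit false
set_option linter.unusedSectionVars false

namespace Cfsg.Agent.Omega.GTwoFour.Id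

open Subgroup
open scoped MatrixGroups

theorem nm_mul {G : Type*} [Group G] {a b : G} {A : Subgroup G} (ha : ∀ x ∈ A, a * x * a⁻¹ ∈ A)
    (hb : ∀ x ∈ A, b * x * b⁻¹ ∈ A) : ∀ x ∈ A, a * b * x * (a * b)⁻¹ ∈ A := by
  intro x hx
  have e : a * b * x * (a * b)⁻¹ = a * (b * x * b⁻¹) * a⁻¹ := by group
  rw [e]
  exact ha _ (hb _ hx)

theorem nm_inv {G : Type*} [Group G] {h : G} (h3 : h * h * h = 1) {A : Subgroup G}
    (hA : ∀ x ∈ A, h * x * h⁻¹ ∈ A) : ∀ x ∈ A, h⁻¹ * x * h⁻¹⁻¹ ∈ A := by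
  intro x hx
  rw [inv_inv]
  exact inv_conj h3 hA hx

theorem nm_self {G : Type*} [Group G] {h : G} {A : Subgroup G} (hA : h ∈ A) : ∀ x ∈ A, h * x * h⁻¹ ∈ A :=
  fun _ hx => A.mul_mem (A.mul_mem hA hx) (A.inv_mem hA)

theorem inv_three {G : Type*} [Group G] {h : G} (h3 : h * h * h = 1) : h⁻¹ * h⁻¹ * h⁻¹ = 1 := by
  calc h⁻¹ * h⁻¹ * h⁻¹ = (h * h * h)⁻¹ := by group
    _ = 1 := by rw [h3, inv_one]

theorem mul_three {G : Type*} [Group G] {g h : G} (g3 : g * g * g = 1) (h3 : h * h * h = 1)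
    (hgh : g * h = h * g) : g * h * (g * h) * (g * h) = 1 := by
  have hc : Commute g h := hgh
  calc g * h * (g * h) * (g * h) = g * (h * g) * (h * g) * h := by group
    _ = g * (g * h) * (g * h) * h := by rw [hgh]
    _ = g * g * (h * g) * h * h := by group
    _ = g * g * (g * h) * h * h := by rw [hgh]
    _ = (g * g * g) * (h * h * h) := by group
    _ = 1 := by rw [g3, h3, one_mul]

theorem comm_inv_right {G : Type*} [Group G] {g h : G} (hgh : g * h = h * g) : g * h⁻¹ = h⁻¹ * g :=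
  (Commute.inv_right hgh).eq

namespace Four

variable {F : Type*} [Field F] {G : Type*} [Group G] [Finite G] {X₁ X₂ U V R W Y D : Subgroup G} {h₁ h₂ : G}

/-- the data for `h₁⁻¹` -/
theorem inv₁ (f : Four F X₁ X₂ U V R W Y D h₁ h₂) : Four F X₁ X₂ U V R W Y D h₁⁻¹ h₂ :=
  { f with
    h₁X := X₁.inv_mem f.h₁X
    h₁ne := inv_ne_one.2 f.h₁ne
    h₁3 := inv_three f.h₁3
    hh := (comm_inv_right f.hh.symm).symm
    h₁X₂ := nm_inv f.h₁3 f.h₁X₂
    h₁U := nm_inv f.h₁3 f.h₁U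
    h₁W := nm_inv f.h₁3 f.h₁W
    h₁R := nm_inv f.h₁3 f.h₁R }

section chart

variable (f : Four F X₁ X₂ U V R W Y D h₁ h₂) {w₁ w₂ : F} {ρ₁ ρ₂ : G → SL(2, F)}
  (c₁ : Ch X₁ Y U h₁ w₁ ρ₁) (c₂ : Ch X₂ W U h₂ w₂ ρ₂)

include f in
theorem h₂R : ∀ x ∈ R, h₂ * x * h₂⁻¹ ∈ R := fun x hx => by rw [f.conj_R f.h₂X hx]; exact hx

include f c₂ in
theorem h₂W : ∀ x ∈ W, h₂ * x * h₂⁻¹ ∈ W := fun _ hx => c₂.nN f.h₂X hx

include f c₁ in
theorem h₁Y : ∀ x ∈ Y, h₁ * x * h₁⁻¹ ∈ Y := fun _ hx => c₁.nN f.h₁X hx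

include f c₁ in
/-- `h₁` centralises `D/V` -/
theorem tr_h₁D : Tr h₁ D V := by
  let K : Subgroup G :=
    { carrier := {x | x ∈ X₁ ∧ ∀ d ∈ D, d⁻¹ * (x * d * x⁻¹) ∈ V}
      one_mem' := ⟨X₁.one_mem, fun d _ => by
        have e : d⁻¹ * (1 * d * (1 : G)⁻¹) = 1 := by group
        rw [e]; exact V.one_mem⟩
      mul_mem' := by
        rintro x y ⟨hx, hx'⟩ ⟨hy, hy'⟩
        refine ⟨X₁.mul_mem hx hy, fun d hd => ?_⟩
        have e : d⁻¹ * (x * y * d * (x * y)⁻¹) =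
            (d⁻¹ * (y * d * y⁻¹)) * ((y * d * y⁻¹)⁻¹ * (x * (y * d * y⁻¹) * x⁻¹)) := by group
        rw [e]
        exact V.mul_mem (hy' d hd) (hx' _ (f.nD y hy d hd))
      inv_mem' := by
        rintro x ⟨hx, hx'⟩
        refine ⟨X₁.inv_mem hx, fun d hd => ?_⟩
        have e : d⁻¹ * (x⁻¹ * d * x⁻¹⁻¹) =
            ((x⁻¹ * d * x⁻¹⁻¹)⁻¹ * (x * (x⁻¹ * d * x⁻¹⁻¹) * x⁻¹))⁻¹ := by group
        rw [e]
        exact V.inv_mem (hx' _ (f.nD _ (X₁.inv_mem hx) d hd)) }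
  have hK : ∀ x, x ∈ K ↔ x ∈ X₁ ∧ ∀ d ∈ D, d⁻¹ * (x * d * x⁻¹) ∈ V := fun x => Iff.rfl
  have hKX : K ≤ X₁ := fun x hx => hx.1
  have hWK : W ≤ K := by
    intro x hx
    refine (hK x).2 ⟨f.UX₁ (f.WU hx), fun d hd => f.RV ?_⟩
    have := f.WW d⁻¹ (W.inv_mem (f.DW hd)) x hx
    have e : d⁻¹ * (x * d * x⁻¹) = d⁻¹ * x * d⁻¹⁻¹ * x⁻¹ := by group
    rwa [e]
  have hKn : ∀ x ∈ X₁, ∀ k ∈ K, x * k * x⁻¹ ∈ K := by
    rintro x hx k ⟨hk, hk'⟩
    refine (hK _).2 ⟨X₁.mul_mem (X₁.mul_mem hx hk) (X₁.inv_mem hx), fun d hd => ?_⟩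
    have h1 := hk' _ (f.nD _ (X₁.inv_mem hx) d hd)
    have h2 := f.nV x hx _ h1
    have e : d⁻¹ * (x * k * x⁻¹ * d * (x * k * x⁻¹)⁻¹) =
        x * ((x⁻¹ * d * x⁻¹⁻¹)⁻¹ * (k * (x⁻¹ * d * x⁻¹⁻¹) * k⁻¹)) * x⁻¹ := by group
    rw [e]; exact h2
  let L : Subgroup G :=
    { carrier := {x | x ∈ X₁ ∧ ∃ k ∈ K, k⁻¹ * x ∈ Y}
      one_mem' := ⟨X₁.one_mem, 1, K.one_mem, by rw [inv_one, one_mul]; exact Y.one_mem⟩
      mul_mem' := by
        rintro x y ⟨hx, k, hk, hk'⟩ ⟨hy, l, hl, hl'⟩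
        refine ⟨X₁.mul_mem hx hy, k * l, K.mul_mem hk hl, ?_⟩
        have e : (k * l)⁻¹ * (x * y) = (l⁻¹ * (k⁻¹ * x) * l⁻¹⁻¹) * (l⁻¹ * y) := by group
        rw [e]
        exact Y.mul_mem (c₁.nN (X₁.inv_mem (hKX hl)) hk') hl'
      inv_mem' := by
        rintro x ⟨hx, k, hk, hk'⟩
        refine ⟨X₁.inv_mem hx, k⁻¹, K.inv_mem hk, ?_⟩
        have e : k⁻¹⁻¹ * x⁻¹ = (k * (k⁻¹ * x) * k⁻¹)⁻¹ := by group
        rw [e]
        exact Y.inv_mem (c₁.nN (hKX hk) hk') }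
  have hL : X₁ ≤ L := by
    refine c₁.le_of_normal ?_ ?_
    · intro u hu
      obtain ⟨a, ha, b, hb, hab⟩ := f.UWY u hu
      exact ⟨f.UX₁ hu, a, hWK ha, by rw [hab, inv_mul_cancel_left]; exact hb⟩
    · rintro x hx y ⟨hy, k, hk, hk'⟩
      refine ⟨X₁.mul_mem (X₁.mul_mem hx hy) (X₁.inv_mem hx), x * k * x⁻¹, hKn x hx k hk, ?_⟩
      have e : (x * k * x⁻¹)⁻¹ * (x * y * x⁻¹) = x * (k⁻¹ * y) * x⁻¹ := by group
      rw [e]
      exact c₁.nN hx hk'
  obtain ⟨-, k, hk, hy⟩ := hL f.h₁X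
  set y := k⁻¹ * h₁ with hyd
  have hyX : y ∈ X₁ := c₁.NX hy
  have hky : h₁ = k * y := by rw [hyd]; group
  have hy3 : y * y * y ∈ K := by
    have h1 : k * (y * k * y⁻¹) * (y * (y * k * y⁻¹) * y⁻¹) * (y * y * y) = 1 := by
      rw [← f.h₁3, hky]; group
    have h2 := eq_inv_of_mul_eq_one_right h1
    rw [h2]
    exact K.inv_mem (K.mul_mem (K.mul_mem hk (hKn y hyX k hk)) (hKn y hyX _ (hKn y hyX k hk)))
  have hyK : y ∈ K := by
    have h1 : y ^ 1024 = 1 := by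
      have := pow_card_eq_one' (x := (⟨y, hy⟩ : Y))
      rw [f.kY] at this
      exact congrArg Subtype.val this
    have h2 : y = (y * y * y) ^ 683 := by
      have e : y * y * y = y ^ 3 := by rw [pow_succ, pow_two]
      rw [e, ← pow_mul, show 3 * 683 = 1024 * 2 + 1 by norm_num, pow_succ, pow_mul, h1, one_pow, one_mul]
    rw [h2]
    exact K.pow_mem hy3 _
  have h1 : h₁ ∈ K := by rw [hky]; exact K.mul_mem hk hyK
  exact h1.2

include f in
theorem exists_D : ∃ d ∈ D, d ∉ V := by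
  by_contra hcon
  push Not at hcon
  have h1 : Nat.card D ≤ Nat.card V := Nat.card_le_card_of_injective _ (inclusion_injective hcon)
  rw [f.kD, f.kV] at h1
  omega

include f in
theorem exists_WY : ∃ d ∈ W ⊓ Y, d ∉ D := by
  by_contra hcon
  push Not at hcon
  have h1 : Nat.card (W ⊓ Y : Subgroup G) ≤ Nat.card D :=
    Nat.card_le_card_of_injective _ (inclusion_injective hcon)
  rw [f.kD, f.kWY] at h1
  omega

include f c₁ in
theorem tf_of {z : G} (hz : z ∈ X₂) : Fp (h₁ * z) R ⊥ := by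
  intro r hr h
  refine f.fp_h₁R c₁ r hr ?_
  have e : h₁ * z * r * (h₁ * z)⁻¹ = h₁ * (z * r * z⁻¹) * h₁⁻¹ := by group
  rwa [e, f.conj_R hz hr] at h

include f c₁ c₂ in
/-- up to inverting `h₁`, `h₁ h₂⁻¹` centralises `X₂/W` -/
theorem exists_sign : ∃ h, (h = h₁ ∨ h = h₁⁻¹) ∧ Four F X₁ X₂ U V R W Y D h h₂ ∧
    ∀ x ∈ X₂, ρ₂ (h * h₂⁻¹ * x * (h * h₂⁻¹)⁻¹) = ρ₂ x := by
  obtain ⟨g, hg, hg1⟩ := c₂.exists_triv (g := h₁) f.h₁X₂ f.h₁W (fun x hx => (conj_mem_iff f.h₁3 f.h₁W).1 hx)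
    f.h₁U f.hh
  rcases hg with rfl | rfl | rfl
  · exfalso
    obtain ⟨d, hd, hdV⟩ := f.exists_D
    obtain ⟨v, hv, hv1⟩ := lift f.h₁3 (f.not3 f.VU) (f.nV _ f.h₁X) (f.tr_h₁D c₁ d hd)
    have h1 := f.fp_tW c₁ c₂ f.h₁3 f.h₁X₂ f.h₁W (f.nV _ f.h₁X) f.h₁R hg1 (f.fp_h₁R c₁)
      (W.mul_mem (f.DW hd) (f.VW hv)) hv1
    apply hdV
    rw [eq_inv_of_mul_eq_one_left h1]
    exact V.inv_mem hv
  · refine ⟨h₁⁻¹, Or.inr rfl, f.inv₁, fun x hx => ?_⟩
    have hn : ∀ x ∈ X₂, h₁ * h₂ * x * (h₁ * h₂)⁻¹ ∈ X₂ := nm_mul f.h₁X₂ (nm_self f.h₂X)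
    have h3 : h₁ * h₂ * (h₁ * h₂) * (h₁ * h₂) = 1 := mul_three f.h₁3 f.h₂3 f.hh
    have h4 := hg1 _ (inv_conj h3 hn hx)
    have e1 : h₁ * h₂ * ((h₁ * h₂)⁻¹ * x * (h₁ * h₂)) * (h₁ * h₂)⁻¹ = x := by group
    have e2 : h₁⁻¹ * h₂⁻¹ = (h₁ * h₂)⁻¹ := by rw [f.hh]; group
    rw [e1] at h4
    rw [e2, inv_inv]
    exact h4.symm
  · exact ⟨h₁, Or.inl rfl, f, hg1⟩

end chart

end Four

end Cfsg.Agent.Omega.GTwoFour.Id

end

section


/-!
# The torus of the pair of type `G₂(4)`, III: `h₂` centralises `X₁/Y` and `V`; the two Levi subgroups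
-/

set_option autoImplicit false
set_option linter.unusedSectionVars false

namespace Cfsg.Agent.Omega.GTwoFour.Id

open Subgroup
open scoped MatrixGroups

/-- `Four` with charts, and `t = h₁ h₂⁻¹` centralising `X₂/W` -/
structure FT (F : Type*) [Field F] {G : Type*} [Group G] (X₁ X₂ U V R W Y D : Subgroup G) (h₁ h₂ : G)
    (w₁ w₂ : F) (ρ₁ ρ₂ : G → SL(2, F)) (t : G) : Prop where
  f : Four F X₁ X₂ U V R W Y D h₁ h₂
  c₁ : Ch X₁ Y U h₁ w₁ ρ₁
  c₂ : Ch X₂ W U h₂ w₂ ρ₂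
  ht : t = h₁ * h₂⁻¹
  tρ : ∀ x ∈ X₂, ρ₂ (t * x * t⁻¹) = ρ₂ x

namespace FT

variable {F : Type*} [Field F] {G : Type*} [Group G] [Finite G] {X₁ X₂ U V R W Y D : Subgroup G} {h₁ h₂ : G}
  {w₁ w₂ : F} {ρ₁ ρ₂ : G → SL(2, F)} {t : G} (T : FT F X₁ X₂ U V R W Y D h₁ h₂ w₁ w₂ ρ₁ ρ₂ t)
include T

theorem t3 : t * t * t = 1 := by
  rw [T.ht]
  exact mul_three T.f.h₁3 (inv_three T.f.h₂3) (comm_inv_right T.f.hh)

theorem th₁ : t * h₁ = h₁ * t := by
  rw [T.ht, mul_assoc, ← comm_inv_right T.f.hh]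

theorem th₂ : t * h₂ = h₂ * t := by
  rw [T.ht, inv_mul_cancel_right, ← mul_assoc, ← T.f.hh, mul_inv_cancel_right]

theorem h₁_eq : h₁ = t * h₂ := by rw [T.ht, inv_mul_cancel_right]

theorem nm {A : Subgroup G} (h1 : ∀ x ∈ A, h₁ * x * h₁⁻¹ ∈ A) (h2 : ∀ x ∈ A, h₂ * x * h₂⁻¹ ∈ A) :
    ∀ x ∈ A, t * x * t⁻¹ ∈ A := by
  rw [T.ht]
  exact nm_mul h1 (nm_inv T.f.h₂3 h2)

theorem nX₁ : ∀ x ∈ X₁, t * x * t⁻¹ ∈ X₁ := T.nm (nm_self T.f.h₁X) T.f.h₂X₁
theorem nX₂ : ∀ x ∈ X₂, t * x * t⁻¹ ∈ X₂ := T.nm T.f.h₁X₂ (nm_self T.f.h₂X)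
theorem nU : ∀ x ∈ U, t * x * t⁻¹ ∈ U := T.nm T.f.h₁U T.f.h₂U
theorem nW : ∀ x ∈ W, t * x * t⁻¹ ∈ W := T.nm T.f.h₁W (T.f.h₂W T.c₂)
theorem nY : ∀ x ∈ Y, t * x * t⁻¹ ∈ Y := T.nm (T.f.h₁Y T.c₁) T.f.h₂Y
theorem nV : ∀ x ∈ V, t * x * t⁻¹ ∈ V := T.nm (T.f.nV _ T.f.h₁X) T.f.h₂V
theorem nR : ∀ x ∈ R, t * x * t⁻¹ ∈ R := T.nm T.f.h₁R T.f.h₂R
theorem nD : ∀ x ∈ D, t * x * t⁻¹ ∈ D := T.nm (T.f.nD _ T.f.h₁X) T.f.h₂D

/-- `C_W(t) = 1` -/
theorem fpW {z : G} (hz : z ∈ W) (htz : t * z = z * t) : z = 1 := by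
  refine T.f.fp_tW T.c₁ T.c₂ T.t3 T.nX₂ T.nW T.nV T.nR T.tρ ?_ hz htz
  rw [T.ht]
  exact T.f.tf_of T.c₁ (X₂.inv_mem T.f.h₂X)

theorem conj_one {a b : G} (h : a⁻¹ * (b * a * b⁻¹) ∈ (⊥ : Subgroup G)) : b * a = a * b := by
  have _ := T
  rw [mem_bot] at h
  calc b * a = a * (a⁻¹ * (b * a * b⁻¹)) * b := by group
    _ = _ := by rw [h, mul_one]

/-- `h₂` has no fixed points on `D/V` -/
theorem fp_h₂D : Fp h₂ D V := by
  have f := T.f
  rcases tr_or_fp f.h₂3 (A := D) (B := V) f.VD (by rw [f.kV, f.kD]) (f.not3 f.DU) f.h₂D f.h₂V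
    (fun x hx y hy => by
      have := f.nV _ (X₁.inv_mem (f.UX₁ (f.DU hx))) y hy
      rwa [inv_inv] at this) with hT | hF
  swap
  · exact hF
  exfalso
  obtain ⟨d, hd, hdV⟩ := f.exists_D
  have h1 : d⁻¹ * (t * d * t⁻¹) ∈ V := by
    have hd' := inv_conj f.h₂3 f.h₂D hd
    have h2 := hT _ hd'
    have h3 := f.tr_h₁D T.c₁ _ hd'
    have e : d⁻¹ * (t * d * t⁻¹) = ((h₂⁻¹ * d * h₂)⁻¹ * (h₂ * (h₂⁻¹ * d * h₂) * h₂⁻¹))⁻¹ *
        ((h₂⁻¹ * d * h₂)⁻¹ * (h₁ * (h₂⁻¹ * d * h₂) * h₁⁻¹)) := by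
      rw [T.ht]; group
    rw [e]
    exact V.mul_mem (V.inv_mem h2) h3
  obtain ⟨v, hv, hv1⟩ := lift T.t3 (f.not3 f.VU) T.nV h1
  have h2 := T.fpW (W.mul_mem (f.DW hd) (f.VW hv)) hv1
  apply hdV
  rw [eq_inv_of_mul_eq_one_left h2]
  exact V.inv_mem hv

/-- `h₂` centralises `X₁/Y` -/
theorem h₂ρ : ∀ x ∈ X₁, ρ₁ (h₂ * x * h₂⁻¹) = ρ₁ x := by
  have f := T.f
  obtain ⟨g, hg, hg1⟩ := T.c₁.exists_triv (g := h₂) f.h₂X₁ f.h₂Y (fun x hx => (conj_mem_iff f.h₂3 f.h₂Y).1 hx)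
    f.h₂U f.hh.symm
  rcases hg with rfl | rfl | rfl
  · exact hg1
  · -- `h₂ h₁`
    exfalso
    have s3 : h₂ * h₁ * (h₂ * h₁) * (h₂ * h₁) = 1 := mul_three f.h₂3 f.h₁3 f.hh.symm
    obtain ⟨n, hn, hn1, hns, hn2⟩ := f.exists_n T.c₁ s3
      (by rw [mul_assoc, ← mul_assoc h₁, f.hh, mul_assoc]) hg1 (nm_mul f.h₂X₁ (nm_self f.h₁X))
    obtain ⟨r, hr, hr1⟩ := f.exists_R
    have hrW : n * r * n⁻¹ ∈ W := f.VW (f.nV n hn r (f.RV hr))
    have h4 : n * h₂ * n⁻¹ = t⁻¹ := by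
      have e1 : n * h₂ * n⁻¹ = (n * (h₂ * h₁) * n⁻¹) * (n * h₁ * n⁻¹)⁻¹ := by group
      have e2 : n * (h₂ * h₁) * n⁻¹ = h₂ * h₁ := by rw [← hns]; group
      rw [e1, e2, hn2, inv_inv, T.ht, mul_inv_rev, inv_inv]
      have e3 : h₁⁻¹ = h₁ * h₁ := by rw [inv_eq_iff_mul_eq_one, ← mul_assoc, f.h₁3]
      rw [e3]; group
    have h5 : t * (n * r * n⁻¹) = (n * r * n⁻¹) * t := by
      have e1 : t⁻¹ * (n * r * n⁻¹) = (n * r * n⁻¹) * t⁻¹ := by
        rw [← h4]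
        calc n * h₂ * n⁻¹ * (n * r * n⁻¹) = n * (h₂ * r) * n⁻¹ := by group
          _ = _ := by rw [f.cR h₂ f.h₂X r hr]; group
      calc t * (n * r * n⁻¹) = t * ((n * r * n⁻¹) * t⁻¹) * t := by group
        _ = _ := by rw [← e1]; group
    have h6 := T.fpW hrW h5
    apply hr1
    calc r = n⁻¹ * (n * r * n⁻¹) * n := by group
      _ = 1 := by rw [h6]; group
  · -- `h₂ h₁⁻¹ = t⁻¹`
    exfalso
    have hti : h₂ * h₁⁻¹ = t⁻¹ := by rw [T.ht, mul_inv_rev, inv_inv]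
    rw [hti] at hg1
    have ht1 : ∀ x ∈ X₁, ρ₁ (t * x * t⁻¹) = ρ₁ x := by
      intro x hx
      have h4 := hg1 _ (T.nX₁ x hx)
      have e : t⁻¹ * (t * x * t⁻¹) * t⁻¹⁻¹ = x := by group
      rw [e] at h4
      exact h4.symm
    obtain ⟨n, hn, hn1, hnt, -⟩ := f.exists_n T.c₁ T.t3 T.th₁ ht1 T.nX₁
    obtain ⟨x, hx, hxD⟩ := f.exists_WY
    have hxt : x⁻¹ * (t * x * t⁻¹) ∈ D := by
      refine f.D_of n hn (f.j_R T.c₁ hn hn1) _ (W.mul_mem (W.inv_mem hx.1) (T.nW x hx.1)) ?_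
      have hx' : n⁻¹ * x * n ∈ Y := by
        have := T.c₁.nN (X₁.inv_mem hn) hx.2
        rwa [inv_inv] at this
      have e1 : n⁻¹ * t = t * n⁻¹ := by
        calc n⁻¹ * t = n⁻¹ * (t * n) * n⁻¹ := by group
          _ = _ := by rw [hnt]; group
      have e : n⁻¹ * (x⁻¹ * (t * x * t⁻¹)) * n = (n⁻¹ * x * n)⁻¹ * (t * (n⁻¹ * x * n) * t⁻¹) := by
        calc n⁻¹ * (x⁻¹ * (t * x * t⁻¹)) * n = n⁻¹ * x⁻¹ * n * ((n⁻¹ * t) * x * (n⁻¹ * t)⁻¹) := by group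
          _ = _ := by rw [e1]; group
      rw [e]
      have hxX := f.UX₂ (f.YU hx')
      exact (T.c₂.eq_iff hxX (T.nX₂ _ hxX)).1 (T.tρ _ hxX).symm
    obtain ⟨d, hd, hd1⟩ := lift T.t3 (f.not3 f.DU) T.nD hxt
    have h2 := T.fpW (W.mul_mem hx.1 (f.DW hd)) hd1
    apply hxD
    rw [eq_inv_of_mul_eq_one_left h2]
    exact D.inv_mem hd

theorem exists_nb : ∃ n ∈ X₁, ρ₁ n = jj ∧ h₂ * n = n * h₂ ∧ n * h₁ * n⁻¹ = h₁⁻¹ :=
  T.f.exists_n T.c₁ T.f.h₂3 T.f.hh.symm T.h₂ρ T.f.h₂X₁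

/-- `h₂` centralises `V` -/
theorem h₂V {v : G} (hv : v ∈ V) : h₂ * v = v * h₂ := by
  have f := T.f
  obtain ⟨n, hn, hn1, hnh, -⟩ := T.exists_nb
  obtain ⟨r, hr, hr1⟩ := f.j_R T.c₁ hn hn1
  have h1 : h₂ * (n * r * n⁻¹) = (n * r * n⁻¹) * h₂ := by
    have e1 : h₂ * n⁻¹ = n⁻¹ * h₂ := comm_inv_right hnh
    calc h₂ * (n * r * n⁻¹) = (h₂ * n) * r * n⁻¹ := by group
      _ = n * (h₂ * r) * n⁻¹ := by rw [hnh]; group
      _ = n * r * (h₂ * n⁻¹) := by rw [f.cR h₂ f.h₂X r hr]; group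
      _ = _ := by rw [e1]; group
  rcases tr_or_fp f.h₂3 (A := V) (B := R) f.RV (by rw [f.kR, f.kV]) (f.not3 f.VU) f.h₂V f.h₂R
    (fun x hx y hy => by
      rw [f.V_comm (V.inv_mem hx) (f.RV hy)]; rwa [inv_mul_cancel_right]) with hT | hF
  · obtain ⟨s, hs, hs1⟩ := lift f.h₂3 (f.not3 f.RU) f.h₂R (hT v hv)
    have h5 := f.cR h₂ f.h₂X s hs
    calc h₂ * v = h₂ * (v * s) * s⁻¹ := by group
      _ = v * (s * h₂) * s⁻¹ := by rw [hs1]; group
      _ = v * h₂ := by rw [← h5]; group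
  · exact absurd (hF _ (f.nV n hn r (f.RV hr)) (Tr.of_commute h1)) hr1

/-- elements of `U` commuting with `h₂`, `h₁` or `h₁ h₂` are in `W` -/
theorem fixW {u : G} (hu : u ∈ U) {z : G} (hz : z = h₂ ∨ z = h₁ ∨ z = h₁ * h₂) (h : z * u = u * z) : u ∈ W := by
  have f := T.f
  have hX := f.UX₂ hu
  obtain ⟨s, hs⟩ := (T.c₂.up u hX).1 hu
  have h0 : z * u * z⁻¹ = u := by rw [h, mul_inv_cancel_right]
  have key : ∃ c : F, c ≠ 1 ∧ ρ₂ (z * u * z⁻¹) = up (c * s) := by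
    have hX' := nm_self f.h₂X u hX
    rcases hz with hz | hz | hz <;> rw [hz]
    · refine ⟨w₂, ?_, T.c₂.conj_h hX hs⟩
      intro hc
      have := T.c₂.w2
      rw [hc] at this
      have h3 : (1 : F) = 0 := by linear_combination this - two f.cF
      exact one_ne_zero h3
    · refine ⟨w₂, ?_, ?_⟩
      · intro hc
        have := T.c₂.w2
        rw [hc] at this
        have h3 : (1 : F) = 0 := by linear_combination this - two f.cF
        exact one_ne_zero h3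
      · have e : h₁ * u * h₁⁻¹ = t * (h₂ * u * h₂⁻¹) * t⁻¹ := by rw [T.h₁_eq]; group
        rw [e, T.tρ _ hX', T.c₂.conj_h hX hs]
    · refine ⟨w₂ * w₂, ?_, ?_⟩
      · intro hc
        have h4 := w3 T.c₂.w2
        rw [hc, one_mul] at h4
        have := T.c₂.w2
        rw [h4] at this
        have h3 : (1 : F) = 0 := by linear_combination this - two f.cF
        exact one_ne_zero h3
      · have e : h₁ * h₂ * u * (h₁ * h₂)⁻¹ = t * (h₂ * (h₂ * u * h₂⁻¹) * h₂⁻¹) * t⁻¹ := by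
          rw [T.h₁_eq]; group
        rw [e, T.tρ _ (nm_self f.h₂X _ hX'), T.c₂.conj_h hX' (T.c₂.conj_h hX hs), mul_assoc]
  obtain ⟨c, hc, hc1⟩ := key
  rw [h0, hs] at hc1
  have h1 : s = c * s := up_inj hc1
  have h2 : s = 0 := by
    have h3 : (c - 1) * s = 0 := by linear_combination -h1
    exact (mul_eq_zero.1 h3).resolve_left (sub_ne_zero.2 hc)
  rw [h2, up_zero] at hs
  exact (T.c₂.ker u hX).1 hs

/-- elements of `U` commuting with `h₁` are in `Y` -/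
theorem fixY {u : G} (hu : u ∈ U) (h : h₁ * u = u * h₁) : u ∈ Y := by
  have f := T.f
  have hX := f.UX₁ hu
  obtain ⟨s, hs⟩ := (T.c₁.up u hX).1 hu
  have h0 : h₁ * u * h₁⁻¹ = u := by rw [h, mul_inv_cancel_right]
  have h1 := T.c₁.conj_h hX hs
  rw [h0, hs] at h1
  have h2 : s = w₁ * s := up_inj h1
  have h3 : s = 0 := by
    linear_combination s * T.c₁.w2 + (2 + w₁) * h2 - s * two f.cF
  rw [h3, up_zero] at hs
  exact (T.c₁.ker u hX).1 hs

/-- `C_Y(h₂) = V` -/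
theorem CY {y : G} (hy : y ∈ Y) (h : h₂ * y = y * h₂) : y ∈ V := by
  have f := T.f
  obtain ⟨n, hn, hn1, hnh, -⟩ := T.exists_nb
  have h1 : y ∈ W := T.fixW (f.YU hy) (Or.inl rfl) h
  have hy' : n⁻¹ * y * n ∈ Y := by
    have := T.c₁.nN (X₁.inv_mem hn) hy
    rwa [inv_inv] at this
  have h2 : n⁻¹ * y * n ∈ W := by
    refine T.fixW (f.YU hy') (Or.inl rfl) ?_
    have e1 : h₂ * n⁻¹ = n⁻¹ * h₂ := comm_inv_right hnh
    calc h₂ * (n⁻¹ * y * n) = (h₂ * n⁻¹) * y * n := by group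
      _ = n⁻¹ * (h₂ * y) * n := by rw [e1]; group
      _ = n⁻¹ * y * (h₂ * n) := by rw [h]; group
      _ = _ := by rw [hnh]; group
  have h3 : y ∈ D := f.D_of n hn (f.j_R T.c₁ hn hn1) y h1 h2
  exact T.fp_h₂D y h3 (Tr.of_commute h)

/-- the involution `nb` -/
theorem exists_nb' : ∃ n ∈ X₁, ρ₁ n = jj ∧ n * n = 1 ∧ n * h₂ * n = h₂ ∧ n * h₁ * n = h₁⁻¹ := by
  have f := T.f
  obtain ⟨n, hn, hn1, hnh, hn2⟩ := T.exists_nb
  have hnn : n * n = 1 := by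
    have hY : n * n ∈ Y := by
      rw [← T.c₁.ker _ (X₁.mul_mem hn hn), T.c₁.mul _ hn _ hn, hn1, jj_sq f.cF]
    have hc : Commute h₂ n := hnh
    have hV : n * n ∈ V := T.CY hY (hc.mul_right hc).eq
    refine f.fp_h₁V T.c₁ hV ?_
    have e1 : n * h₁⁻¹ * n⁻¹ = h₁ := by
      calc n * h₁⁻¹ * n⁻¹ = (n * h₁ * n⁻¹)⁻¹ := by group
        _ = _ := by rw [hn2, inv_inv]
    calc h₁ * (n * n) = n * h₁⁻¹ * n⁻¹ * (n * n) := by rw [e1]
      _ = n * (n * h₁ * n⁻¹) * n := by rw [hn2]; group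
      _ = _ := by group
  have hni : n⁻¹ = n := inv_eq_of_mul_eq_one_right hnn
  refine ⟨n, hn, hn1, hnn, ?_, ?_⟩
  · rw [← hnh, mul_assoc, hnn, mul_one]
  · rw [hni] at hn2
    exact hn2

/-- the Levi subgroup `C_{X₂}(t)` -/
theorem exists_xx : ∃ xx : SL(2, F) → G, (∀ M, xx M ∈ X₂) ∧ (∀ M, t * xx M = xx M * t) ∧ (∀ M, ρ₂ (xx M) = M) ∧
    (∀ M N, xx (M * N) = xx M * xx N) ∧ (∀ x ∈ X₂, t * x = x * t → x = xx (ρ₂ x)) := by
  have f := T.f
  have h1 : ∀ M : SL(2, F), ∃ x, x ∈ X₂ ∧ t * x = x * t ∧ ρ₂ x = M := by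
    intro M
    obtain ⟨x, hx, hxM⟩ := T.c₂.surj M
    obtain ⟨a, ha, ha1⟩ := lift T.t3 (f.not3 f.WU) T.nW (x := x)
      ((T.c₂.eq_iff hx (T.nX₂ x hx)).1 (T.tρ x hx).symm)
    have haX := T.c₂.NX ha
    exact ⟨x * a, X₂.mul_mem hx haX, ha1, by rw [T.c₂.mul _ hx _ haX, (T.c₂.ker a haX).2 ha, mul_one, hxM]⟩
  have huniq : ∀ x ∈ X₂, ∀ y ∈ X₂, t * x = x * t → t * y = y * t → ρ₂ x = ρ₂ y → x = y := by
    intro x hx y hy htx hty hxy
    have h2 := (T.c₂.eq_iff hx hy).1 hxy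
    have hcx : Commute t x := htx
    have hcy : Commute t y := hty
    have h3 := T.fpW h2 ((hcx.inv_right).mul_right hcy).eq
    exact (inv_mul_eq_one.1 h3)
  choose xx hxX hxt hxM using h1
  refine ⟨xx, hxX, hxt, hxM, fun M N => ?_, fun x hx htx => ?_⟩
  · have hcM : Commute t (xx M) := hxt M
    have hcN : Commute t (xx N) := hxt N
    refine huniq _ (hxX _) _ (X₂.mul_mem (hxX M) (hxX N)) (hxt _) (hcM.mul_right hcN).eq ?_
    rw [T.c₂.mul _ (hxX M) _ (hxX N), hxM, hxM, hxM]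
  · exact huniq _ hx _ (hxX _) htx (hxt _) (hxM _).symm

end FT

end Cfsg.Agent.Omega.GTwoFour.Id

end

section


/-!
# The pair of type `G₂(4)`: root groups with a torus give the relations

`RD`: six root maps `F → G` (`|F| = 4`), the action of the torus and of the two fundamental involutions,
the commuting pairs, the form of the commutators and two relations of `SL₂(4)`.  All structure constants
are then `1` and the relations are those of `G₂(4)`.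
-/

set_option autoImplicit false

namespace Cfsg.Agent.Omega.GTwoFour.Id

open Cfsg.Agent.HexRec Cfsg.Agent.HexRec.OfHexRel Cfsg.Agent.Hex.Defs

variable {F G : Type*} [Field F] [Group G]

/-- root data of type `G₂(4)` -/
structure RD (x1 x2 x3 x4 x5 x6 : F → G) (h : F → F → G) (na nb : G) : Prop where
  card : Nat.card F = 4
  add1 : ∀ s t, x1 (s + t) = x1 s * x1 t
  add2 : ∀ s t, x2 (s + t) = x2 s * x2 t
  add3 : ∀ s t, x3 (s + t) = x3 s * x3 t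
  add4 : ∀ s t, x4 (s + t) = x4 s * x4 t
  add5 : ∀ s t, x5 (s + t) = x5 s * x5 t
  add6 : ∀ s t, x6 (s + t) = x6 s * x6 t
  t1 : ∀ s t, s ≠ 0 → t ≠ 0 → ∀ a, h s t * x1 a = x1 (s * a) * h s t
  t2 : ∀ s t, s ≠ 0 → t ≠ 0 → ∀ a, h s t * x2 a = x2 (t * a) * h s t
  t3 : ∀ s t, s ≠ 0 → t ≠ 0 → ∀ a, h s t * x3 a = x3 (s⁻¹ * t * a) * h s t
  t4 : ∀ s t, s ≠ 0 → t ≠ 0 → ∀ a, h s t * x4 a = x4 (t⁻¹ * a) * h s t
  t5 : ∀ s t, s ≠ 0 → t ≠ 0 → ∀ a, h s t * x5 a = x5 (s * t * a) * h s t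
  t6 : ∀ s t, s ≠ 0 → t ≠ 0 → ∀ a, h s t * x6 a = x6 (t * a) * h s t
  na2 : na * na = 1
  nb2 : nb * nb = 1
  a2 : ∀ a, na * x2 a * na = x6 a
  a3 : ∀ a, na * x3 a * na = x5 a
  a4 : ∀ a, na * x4 a * na = x4 a
  b1 : ∀ a, nb * x1 a * nb = x5 a
  b2 : ∀ a, nb * x2 a * nb = x4 a
  b3 : ∀ a, nb * x3 a * nb = x3 a
  ra : na * x1 1 * na = x1 1 * na * x1 1
  rb : nb * x6 1 * nb = x6 1 * nb * x6 1
  r21 : ∀ t a, x2 t * x1 a = x1 a * x2 t
  r41 : ∀ t a, x4 t * x1 a = x1 a * x4 t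
  r32 : ∀ b t, x3 b * x2 t = x2 t * x3 b
  r42 : ∀ b t, x4 b * x2 t = x2 t * x4 b
  r52 : ∀ b t, x5 b * x2 t = x2 t * x5 b
  r43 : ∀ b t, x4 b * x3 t = x3 t * x4 b
  r63 : ∀ b t, x6 b * x3 t = x3 t * x6 b
  r54 : ∀ b t, x5 b * x4 t = x4 t * x5 b
  r64 : ∀ b t, x6 b * x4 t = x4 t * x6 b
  r65 : ∀ b t, x6 b * x5 t = x5 t * x6 b
  e31 : ∃ u, x3 1 * x1 1 = x1 1 * (x2 u * x3 1)
  e51 : ∃ u v w, x5 1 * x1 1 = x1 1 * (x2 u * (x3 v * (x4 w * x5 1)))
  e61 : ∃ u v w y, x6 1 * x1 1 = x1 1 * (x2 u * (x3 v * (x4 w * (x5 y * x6 1))))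
  e62 : ∀ a, ∃ w, x6 1 * x2 a = x2 a * (x4 w * x6 1)
  e53 : ∃ w, x5 1 * x3 1 = x3 1 * (x4 w * x5 1)
  inj : Function.Injective (PosRel.pm x1 x2 x3 x4 x5 x6)

namespace RD

variable {x1 x2 x3 x4 x5 x6 : F → G} {h : F → F → G} {na nb : G}

section

variable (D : RD x1 x2 x3 x4 x5 x6 h na nb)
include D

theorem z1 : x1 0 = 1 := left_eq_mul.1 (by rw [← D.add1, add_zero] : x1 0 = x1 0 * x1 0)
theorem z2 : x2 0 = 1 := left_eq_mul.1 (by rw [← D.add2, add_zero] : x2 0 = x2 0 * x2 0)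
theorem z3 : x3 0 = 1 := left_eq_mul.1 (by rw [← D.add3, add_zero] : x3 0 = x3 0 * x3 0)
theorem z4 : x4 0 = 1 := left_eq_mul.1 (by rw [← D.add4, add_zero] : x4 0 = x4 0 * x4 0)
theorem z5 : x5 0 = 1 := left_eq_mul.1 (by rw [← D.add5, add_zero] : x5 0 = x5 0 * x5 0)
theorem z6 : x6 0 = 1 := left_eq_mul.1 (by rw [← D.add6, add_zero] : x6 0 = x6 0 * x6 0)

theorem inj6 {a1 a2 a3 a4 a5 a6 b1 b2 b3 b4 b5 b6 : F}
    (e : x1 a1 * (x2 a2 * (x3 a3 * (x4 a4 * (x5 a5 * x6 a6)))) =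
      x1 b1 * (x2 b2 * (x3 b3 * (x4 b4 * (x5 b5 * x6 b6))))) :
    a1 = b1 ∧ a2 = b2 ∧ a3 = b3 ∧ a4 = b4 ∧ a5 = b5 ∧ a6 = b6 := by
  have h1 := @D.inj ⟨a1, a2, a3, a4, a5, a6⟩ ⟨b1, b2, b3, b4, b5, b6⟩ e
  simpa only [Tup.mk.injEq] using h1

theorem sq1 (a : F) : x1 a * x1 a = 1 := by rw [← D.add1, addself D.card, D.z1]
theorem sq4 (a : F) : x4 a * x4 a = 1 := by rw [← D.add4, addself D.card, D.z4]
theorem sq6 (a : F) : x6 a * x6 a = 1 := by rw [← D.add6, addself D.card, D.z6]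

/-! ### the structure constants are monomials -/

theorem f31 {k : F} (hk : x3 1 * x1 1 = x1 1 * (x2 k * x3 1)) (b a : F) :
    x3 b * x1 a = x1 a * (x2 (k * (a * b)) * x3 b) := by
  by_cases ha : a = 0
  · subst ha; simp [D.z1, D.z2]
  by_cases hb : b = 0
  · subst hb; simp [D.z3, D.z2]
  have hs : a * b ≠ 0 := mul_ne_zero ha hb
  have e := congrArg (fun z => h a (a * b) * z * (h a (a * b))⁻¹) hk
  have e1 : h a (a * b) * (x3 1 * x1 1) * (h a (a * b))⁻¹ = x3 b * x1 a := by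
    rw [← mul_assoc, D.t3 _ _ ha hs, mul_assoc (x3 _), D.t1 _ _ ha hs, mul_one, mul_one, ← mul_assoc,
      mul_inv_cancel_right]
    congr 2
    field_simp
  have e2 : h a (a * b) * (x1 1 * (x2 k * x3 1)) * (h a (a * b))⁻¹ =
      x1 a * (x2 (k * (a * b)) * x3 b) := by
    rw [← mul_assoc, D.t1 _ _ ha hs, mul_assoc (x1 _), ← mul_assoc (h _ _), D.t2 _ _ ha hs,
      mul_assoc (x2 _), D.t3 _ _ ha hs, mul_one, mul_one, ← mul_assoc, ← mul_assoc, mul_inv_cancel_right,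
      mul_assoc]
    congr 3
    · ring
    · field_simp
  exact e1.symm.trans (e.trans e2)

theorem f53 {g : F} (hg : x5 1 * x3 1 = x3 1 * (x4 g * x5 1)) (b a : F) :
    x5 b * x3 a = x3 a * (x4 (g * (a * b)) * x5 b) := by
  by_cases ha : a = 0
  · subst ha; simp [D.z3, D.z4]
  by_cases hb : b = 0
  · subst hb; simp [D.z5, D.z4]
  have h3a := cube D.card ha
  have h3b := cube D.card hb
  have hs : a * b ^ 2 ≠ 0 := mul_ne_zero ha (pow_ne_zero 2 hb)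
  have ht : (a * b) ^ 2 ≠ 0 := pow_ne_zero 2 (mul_ne_zero ha hb)
  have q5 : a * b ^ 2 * (a * b) ^ 2 * 1 = b := by linear_combination b * h3a * b ^ 3 + b * h3b
  have q3 : (a * b ^ 2)⁻¹ * (a * b) ^ 2 * 1 = a := by field_simp
  have q4 : ((a * b) ^ 2)⁻¹ * g = g * (a * b) := by
    rw [inv_mul_eq_iff_eq_mul₀ ht]
    linear_combination -g * (h3a * b ^ 3 + h3b)
  have e := congrArg (fun z => h (a * b ^ 2) ((a * b) ^ 2) * z * (h (a * b ^ 2) ((a * b) ^ 2))⁻¹) hg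
  have e1 : h (a * b ^ 2) ((a * b) ^ 2) * (x5 1 * x3 1) * (h (a * b ^ 2) ((a * b) ^ 2))⁻¹ = x5 b * x3 a := by
    rw [← mul_assoc, D.t5 _ _ hs ht, mul_assoc (x5 _), D.t3 _ _ hs ht, ← mul_assoc,
      mul_inv_cancel_right, q5, q3]
  have e2 : h (a * b ^ 2) ((a * b) ^ 2) * (x3 1 * (x4 g * x5 1)) * (h (a * b ^ 2) ((a * b) ^ 2))⁻¹ =
      x3 a * (x4 (g * (a * b)) * x5 b) := by
    rw [← mul_assoc, D.t3 _ _ hs ht, mul_assoc (x3 _), ← mul_assoc (h _ _), D.t4 _ _ hs ht,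
      mul_assoc (x4 _), D.t5 _ _ hs ht, ← mul_assoc, ← mul_assoc, mul_inv_cancel_right,
      mul_assoc, q3, q4, q5]
  exact e1.symm.trans (e.trans e2)

theorem f51 {d2 d3 d4 : F} (hd : x5 1 * x1 1 = x1 1 * (x2 d2 * (x3 d3 * (x4 d4 * x5 1)))) (b a : F) :
    x5 b * x1 a = x1 a * (x2 (d2 * (a ^ 2 * b)) * (x3 (d3 * (a * b)) * (x4 (d4 * (a * b ^ 2)) * x5 b))) := by
  by_cases ha : a = 0
  · subst ha; simp [D.z1, D.z2, D.z3, D.z4]
  by_cases hb : b = 0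
  · subst hb; simp [D.z5, D.z2, D.z3, D.z4]
  have h3a := cube D.card ha
  have h3b := cube D.card hb
  have ht : a ^ 2 * b ≠ 0 := mul_ne_zero (pow_ne_zero 2 ha) hb
  have q5 : a * (a ^ 2 * b) * 1 = b := by linear_combination b * h3a
  have q1 : a * 1 = a := mul_one a
  have q2 : a ^ 2 * b * d2 = d2 * (a ^ 2 * b) := mul_comm _ _
  have q3 : a⁻¹ * (a ^ 2 * b) * d3 = d3 * (a * b) := by field_simp
  have q4 : (a ^ 2 * b)⁻¹ * d4 = d4 * (a * b ^ 2) := by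
    rw [inv_mul_eq_iff_eq_mul₀ ht]
    linear_combination -d4 * (h3a * b ^ 3 + h3b)
  have e := congrArg (fun z => h a (a ^ 2 * b) * z * (h a (a ^ 2 * b))⁻¹) hd
  have e1 : h a (a ^ 2 * b) * (x5 1 * x1 1) * (h a (a ^ 2 * b))⁻¹ = x5 b * x1 a := by
    rw [← mul_assoc, D.t5 _ _ ha ht, mul_assoc (x5 _), D.t1 _ _ ha ht, ← mul_assoc,
      mul_inv_cancel_right, q5, q1]
  have e2 : h a (a ^ 2 * b) * (x1 1 * (x2 d2 * (x3 d3 * (x4 d4 * x5 1)))) * (h a (a ^ 2 * b))⁻¹ =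
      x1 a * (x2 (d2 * (a ^ 2 * b)) * (x3 (d3 * (a * b)) * (x4 (d4 * (a * b ^ 2)) * x5 b))) := by
    rw [← mul_assoc, D.t1 _ _ ha ht, mul_assoc (x1 _), ← mul_assoc (h _ _), D.t2 _ _ ha ht,
      mul_assoc (x2 _), ← mul_assoc (h _ _), D.t3 _ _ ha ht, mul_assoc (x3 _), ← mul_assoc (h _ _),
      D.t4 _ _ ha ht, mul_assoc (x4 _), D.t5 _ _ ha ht, q1, q2, q3, q4, q5]
    group
  exact e1.symm.trans (e.trans e2)

theorem f61 {c2 c3 c4 c5 : F}
    (hc : x6 1 * x1 1 = x1 1 * (x2 c2 * (x3 c3 * (x4 c4 * (x5 c5 * x6 1))))) (b a : F) :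
    x6 b * x1 a = x1 a * (x2 (c2 * (b * a ^ 3)) * (x3 (c3 * (b * a ^ 2)) * (x4 (c4 * (b ^ 2 * a ^ 3)) *
      (x5 (c5 * (b * a)) * x6 b)))) := by
  by_cases ha : a = 0
  · subst ha; simp [D.z1, D.z2, D.z3, D.z4, D.z5]
  by_cases hb : b = 0
  · subst hb; simp [D.z6, D.z5, D.z2, D.z3, D.z4]
  have h3a := cube D.card ha
  have h3b := cube D.card hb
  have q1 : a * 1 = a := mul_one a
  have q2 : b * c2 = c2 * (b * a ^ 3) := by linear_combination -c2 * b * h3a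
  have q3 : a⁻¹ * b * c3 = c3 * (b * a ^ 2) := by
    field_simp
    linear_combination -c3 * h3a
  have q4 : b⁻¹ * c4 = c4 * (b ^ 2 * a ^ 3) := by
    rw [inv_mul_eq_iff_eq_mul₀ hb]
    linear_combination -c4 * (h3a * b ^ 3 + h3b)
  have q5 : a * b * c5 = c5 * (b * a) := by ring
  have q6 : b * 1 = b := mul_one b
  have e := congrArg (fun z => h a b * z * (h a b)⁻¹) hc
  have e1 : h a b * (x6 1 * x1 1) * (h a b)⁻¹ = x6 b * x1 a := by
    rw [← mul_assoc, D.t6 _ _ ha hb, mul_assoc (x6 _), D.t1 _ _ ha hb, ← mul_assoc,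
      mul_inv_cancel_right, q6, q1]
  have e2 : h a b * (x1 1 * (x2 c2 * (x3 c3 * (x4 c4 * (x5 c5 * x6 1))))) * (h a b)⁻¹ =
      x1 a * (x2 (c2 * (b * a ^ 3)) * (x3 (c3 * (b * a ^ 2)) * (x4 (c4 * (b ^ 2 * a ^ 3)) *
      (x5 (c5 * (b * a)) * x6 b)))) := by
    rw [← mul_assoc, D.t1 _ _ ha hb, mul_assoc (x1 _), ← mul_assoc (h _ _), D.t2 _ _ ha hb,
      mul_assoc (x2 _), ← mul_assoc (h _ _), D.t3 _ _ ha hb, mul_assoc (x3 _), ← mul_assoc (h _ _),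
      D.t4 _ _ ha hb, mul_assoc (x4 _), ← mul_assoc (h _ _), D.t5 _ _ ha hb, mul_assoc (x5 _),
      D.t6 _ _ ha hb, q1, q2, q3, q4, q5, q6]
    group
  exact e1.symm.trans (e.trans e2)

theorem f62 (b a : F) : x6 b * x2 a = x2 a * (x4 (b * a) * x6 b) := by
  -- first for `b = 1`
  have key : ∀ u, x6 1 * x2 u = x2 u * (x4 u * x6 1) := by
    intro u
    obtain ⟨w, hw⟩ := D.e62 u
    have e : (nb * x6 1 * nb) * x4 u * (nb * x6 1 * nb) = (x6 1 * nb * x6 1) * x4 u * (x6 1 * nb * x6 1) := by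
      rw [D.rb]
    have hb2 : ∀ a, nb * x4 a * nb = x2 a := fun a => by
      rw [← D.b2 a]
      calc nb * (nb * x2 a * nb) * nb = (nb * nb) * x2 a * (nb * nb) := by group
        _ = _ := by rw [D.nb2, one_mul, mul_one]
    have e1 : (nb * x6 1 * nb) * x4 u * (nb * x6 1 * nb) = x4 u * x2 w := by
      calc (nb * x6 1 * nb) * x4 u * (nb * x6 1 * nb) = nb * (x6 1 * (nb * x4 u * nb) * x6 1) * nb := by group
        _ = nb * (x2 u * x4 w * (x6 1 * x6 1)) * nb := by rw [hb2, hw]; group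
        _ = (nb * x2 u * nb) * (nb⁻¹ * x4 w * nb) := by rw [D.sq6]; group
        _ = (nb * x2 u * nb) * (nb * x4 w * nb) := by rw [inv_eq_of_mul_eq_one_right D.nb2]
        _ = x4 u * x2 w := by rw [hb2, D.b2]
    have e2 : (x6 1 * nb * x6 1) * x4 u * (x6 1 * nb * x6 1) = x2 u * x4 w := by
      calc (x6 1 * nb * x6 1) * x4 u * (x6 1 * nb * x6 1)
          = x6 1 * nb * (x6 1 * x4 u) * x6 1 * nb * x6 1 := by group
        _ = x6 1 * nb * x4 u * (x6 1 * x6 1) * nb * x6 1 := by rw [D.r64]; group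
        _ = x6 1 * (nb * x4 u * nb) * x6 1 := by rw [D.sq6]; group
        _ = x2 u * x4 w * (x6 1 * x6 1) := by rw [hb2, hw]; group
        _ = _ := by rw [D.sq6, mul_one]
    rw [e1, e2] at e
    have e3 : x1 0 * (x2 w * (x3 0 * (x4 u * (x5 0 * x6 0)))) =
        x1 0 * (x2 u * (x3 0 * (x4 w * (x5 0 * x6 0)))) := by
      rw [D.z1, D.z3, D.z5, D.z6]
      simp only [one_mul, mul_one]
      rw [← D.r42, e]
    obtain ⟨-, h2, -⟩ := D.inj6 e3
    rw [h2] at hw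
    exact hw
  by_cases hb : b = 0
  · subst hb; simp [D.z6, D.z4]
  have h3b := cube D.card hb
  have q4 : b⁻¹ * (b⁻¹ * a) = b * a := by
    field_simp
    linear_combination -a * h3b
  have q2 : b * (b⁻¹ * a) = a := by field_simp
  have q6 : b * 1 = b := mul_one b
  have e := congrArg (fun z => h 1 b * z * (h 1 b)⁻¹) (key (b⁻¹ * a))
  have e1 : h 1 b * (x6 1 * x2 (b⁻¹ * a)) * (h 1 b)⁻¹ = x6 b * x2 a := by
    rw [← mul_assoc, D.t6 _ _ one_ne_zero hb, mul_assoc (x6 _), D.t2 _ _ one_ne_zero hb, ← mul_assoc,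
      mul_inv_cancel_right, q6, q2]
  have e2 : h 1 b * (x2 (b⁻¹ * a) * (x4 (b⁻¹ * a) * x6 1)) * (h 1 b)⁻¹ =
      x2 a * (x4 (b * a) * x6 b) := by
    rw [← mul_assoc, D.t2 _ _ one_ne_zero hb, mul_assoc (x2 _), ← mul_assoc (h _ _),
      D.t4 _ _ one_ne_zero hb, mul_assoc (x4 _), D.t6 _ _ one_ne_zero hb, q2, q4, q6]
    group
  exact e1.symm.trans (e.trans e2)

/-- all structure constants are `1` -/
theorem consts {k g d2 d3 d4 c2 c3 c4 c5 : F} (hk : x3 1 * x1 1 = x1 1 * (x2 k * x3 1))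
    (hg : x5 1 * x3 1 = x3 1 * (x4 g * x5 1))
    (hd : x5 1 * x1 1 = x1 1 * (x2 d2 * (x3 d3 * (x4 d4 * x5 1))))
    (hc : x6 1 * x1 1 = x1 1 * (x2 c2 * (x3 c3 * (x4 c4 * (x5 c5 * x6 1))))) :
    k = 1 ∧ g = 1 ∧ d2 = 1 ∧ d3 = 0 ∧ d4 = 1 ∧ c2 = 1 ∧ c3 = 1 ∧ c4 = 1 ∧ c5 = 1 := by
  have s1 : ∀ s t w, x1 s * (x1 t * w) = x1 (s + t) * w := fun s t w => by rw [D.add1, mul_assoc]
  have s2 : ∀ s t w, x2 s * (x2 t * w) = x2 (s + t) * w := fun s t w => by rw [D.add2, mul_assoc]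
  have s3 : ∀ s t w, x3 s * (x3 t * w) = x3 (s + t) * w := fun s t w => by rw [D.add3, mul_assoc]
  have s4 : ∀ s t w, x4 s * (x4 t * w) = x4 (s + t) * w := fun s t w => by rw [D.add4, mul_assoc]
  have s5 : ∀ s t w, x5 s * (x5 t * w) = x5 (s + t) * w := fun s t w => by rw [D.add5, mul_assoc]
  have s6 : ∀ s t w, x6 s * (x6 t * w) = x6 (s + t) * w := fun s t w => by rw [D.add6, mul_assoc]
  have r21 : ∀ t a w, x2 t * (x1 a * w) = x1 a * (x2 t * w) := fun t a w => by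
    rw [← mul_assoc, D.r21, mul_assoc]
  have r31 : ∀ b a w, x3 b * (x1 a * w) = x1 a * (x2 (k * (a * b)) * (x3 b * w)) := fun b a w => by
    rw [← mul_assoc, D.f31 hk]; simp only [mul_assoc]
  have r41 : ∀ t a w, x4 t * (x1 a * w) = x1 a * (x4 t * w) := fun t a w => by
    rw [← mul_assoc, D.r41, mul_assoc]
  have r51 : ∀ b a w, x5 b * (x1 a * w) = x1 a * (x2 (d2 * (a ^ 2 * b)) * (x3 (d3 * (a * b)) *
      (x4 (d4 * (a * b ^ 2)) * (x5 b * w)))) := fun b a w => by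
    rw [← mul_assoc, D.f51 hd]; simp only [mul_assoc]
  have r61 : ∀ b a w, x6 b * (x1 a * w) = x1 a * (x2 (c2 * (b * a ^ 3)) * (x3 (c3 * (b * a ^ 2)) *
      (x4 (c4 * (b ^ 2 * a ^ 3)) * (x5 (c5 * (b * a)) * (x6 b * w))))) := fun b a w => by
    rw [← mul_assoc, D.f61 hc]; simp only [mul_assoc]
  have r32 : ∀ b t w, x3 b * (x2 t * w) = x2 t * (x3 b * w) := fun b t w => by
    rw [← mul_assoc, D.r32, mul_assoc]
  have r42 : ∀ b t w, x4 b * (x2 t * w) = x2 t * (x4 b * w) := fun b t w => by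
    rw [← mul_assoc, D.r42, mul_assoc]
  have r52 : ∀ b t w, x5 b * (x2 t * w) = x2 t * (x5 b * w) := fun b t w => by
    rw [← mul_assoc, D.r52, mul_assoc]
  have r62 : ∀ b t w, x6 b * (x2 t * w) = x2 t * (x4 (b * t) * (x6 b * w)) := fun b t w => by
    rw [← mul_assoc, D.f62]; simp only [mul_assoc]
  have r43 : ∀ b t w, x4 b * (x3 t * w) = x3 t * (x4 b * w) := fun b t w => by
    rw [← mul_assoc, D.r43, mul_assoc]
  have r53 : ∀ b t w, x5 b * (x3 t * w) = x3 t * (x4 (g * (t * b)) * (x5 b * w)) := fun b t w => by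
    rw [← mul_assoc, D.f53 hg]; simp only [mul_assoc]
  have r63 : ∀ b t w, x6 b * (x3 t * w) = x3 t * (x6 b * w) := fun b t w => by
    rw [← mul_assoc, D.r63, mul_assoc]
  have r54 : ∀ b t w, x5 b * (x4 t * w) = x4 t * (x5 b * w) := fun b t w => by
    rw [← mul_assoc, D.r54, mul_assoc]
  have r64 : ∀ b t w, x6 b * (x4 t * w) = x4 t * (x6 b * w) := fun b t w => by
    rw [← mul_assoc, D.r64, mul_assoc]
  have r65 : ∀ b t w, x6 b * (x5 t * w) = x5 t * (x6 b * w) := fun b t w => by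
    rw [← mul_assoc, D.r65, mul_assoc]
  have hna : na⁻¹ = na := inv_eq_of_mul_eq_one_right D.na2
  have hnb : nb⁻¹ = nb := inv_eq_of_mul_eq_one_right D.nb2
  have b5 : ∀ a, nb * x5 a * nb = x1 a := fun a => by
    rw [← D.b1 a]
    calc nb * (nb * x1 a * nb) * nb = (nb * nb) * x1 a * (nb * nb) := by group
      _ = _ := by rw [D.nb2, one_mul, mul_one]
  have a6 : ∀ a, na * x6 a * na = x2 a := fun a => by
    rw [← D.a2 a]
    calc na * (na * x2 a * na) * na = (na * na) * x2 a * (na * na) := by group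
      _ = _ := by rw [D.na2, one_mul, mul_one]
  have a5 : ∀ a, na * x5 a * na = x3 a := fun a => by
    rw [← D.a3 a]
    calc na * (na * x3 a * na) * na = (na * na) * x3 a * (na * na) := by group
      _ = _ := by rw [D.na2, one_mul, mul_one]
  have b4 : ∀ a, nb * x4 a * nb = x2 a := fun a => by
    rw [← D.b2 a]
    calc nb * (nb * x2 a * nb) * nb = (nb * nb) * x2 a * (nb * nb) := by group
      _ = _ := by rw [D.nb2, one_mul, mul_one]
  have cb : ∀ y z : G, nb * (y * z) * nb = (nb * y * nb) * (nb * z * nb) := fun y z => by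
    calc nb * (y * z) * nb = nb * y * nb⁻¹⁻¹ * (nb⁻¹ * z * nb) := by group
      _ = _ := by rw [inv_inv, hnb]
  have ca : ∀ y z : G, na * (y * z) * na = (na * y * na) * (na * z * na) := fun y z => by
    calc na * (y * z) * na = na * y * na⁻¹⁻¹ * (na⁻¹ * z * na) := by group
      _ = _ := by rw [inv_inv, hna]
  -- the conjugates of `x6 1` and `x1 1`
  have q1 : x6 1 * x1 1 * x6 1 = x1 1 * (x2 c2 * (x3 c3 * (x4 c4 * x5 c5))) := by
    rw [hc]
    calc x1 1 * (x2 c2 * (x3 c3 * (x4 c4 * (x5 c5 * x6 1)))) * x6 1 =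
        x1 1 * (x2 c2 * (x3 c3 * (x4 c4 * (x5 c5 * (x6 1 * x6 1))))) := by group
      _ = _ := by rw [D.sq6, mul_one]
  have q2 : x1 1 * x6 1 * x1 1 = x2 c2 * (x3 c3 * (x4 c4 * (x5 c5 * x6 1))) := by
    rw [mul_assoc, hc, ← mul_assoc, D.sq1, one_mul]
  -- (rb) on `x5 1`
  have eA : x5 1 * (x4 c2 * (x3 c3 * (x2 c4 * (x1 c5 * x6 0)))) =
      x1 1 * (x2 c2 * (x3 c3 * (x4 c4 * (x5 c5 * x6 0)))) := by
    have e : (nb * x6 1 * nb) * x5 1 * (nb * x6 1 * nb) = (x6 1 * nb * x6 1) * x5 1 * (x6 1 * nb * x6 1) := by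
      rw [D.rb]
    have e1 : (nb * x6 1 * nb) * x5 1 * (nb * x6 1 * nb) =
        x5 1 * (x4 c2 * (x3 c3 * (x2 c4 * x1 c5))) := by
      calc (nb * x6 1 * nb) * x5 1 * (nb * x6 1 * nb) = nb * (x6 1 * (nb * x5 1 * nb) * x6 1) * nb := by
            group
        _ = _ := by rw [b5, q1, cb, cb, cb, cb, D.b1, D.b2, D.b3, b4, b5]
    have e2 : (x6 1 * nb * x6 1) * x5 1 * (x6 1 * nb * x6 1) = x1 1 * (x2 c2 * (x3 c3 * (x4 c4 * x5 c5))) := by
      calc (x6 1 * nb * x6 1) * x5 1 * (x6 1 * nb * x6 1)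
          = x6 1 * nb * (x6 1 * x5 1) * x6 1 * nb * x6 1 := by group
        _ = x6 1 * nb * x5 1 * (x6 1 * x6 1) * nb * x6 1 := by rw [D.r65]; group
        _ = x6 1 * (nb * x5 1 * nb) * x6 1 := by rw [D.sq6]; group
        _ = _ := by rw [b5, q1]
    rw [D.z6, mul_one, mul_one, ← e1, ← e2, e]
  -- (ra) on `x2 1`
  have eB : x6 c2 * (x5 c3 * (x4 c4 * (x3 c5 * (x2 1 * x6 0)))) =
      x2 c2 * (x3 c3 * (x4 c4 * (x5 c5 * x6 1))) := by
    have e : (na * x1 1 * na) * x2 1 * (na * x1 1 * na) = (x1 1 * na * x1 1) * x2 1 * (x1 1 * na * x1 1) := by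
      rw [D.ra]
    have e1 : (na * x1 1 * na) * x2 1 * (na * x1 1 * na) =
        x6 c2 * (x5 c3 * (x4 c4 * (x3 c5 * x2 1))) := by
      calc (na * x1 1 * na) * x2 1 * (na * x1 1 * na) = na * (x1 1 * (na * x2 1 * na) * x1 1) * na := by
            group
        _ = _ := by rw [D.a2, q2, ca, ca, ca, ca, D.a2, D.a3, D.a4, a5, a6]
    have e2 : (x1 1 * na * x1 1) * x2 1 * (x1 1 * na * x1 1) = x2 c2 * (x3 c3 * (x4 c4 * (x5 c5 * x6 1))) := by
      calc (x1 1 * na * x1 1) * x2 1 * (x1 1 * na * x1 1)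
          = x1 1 * na * x1 1 * (x2 1 * x1 1) * na * x1 1 := by group
        _ = x1 1 * na * (x1 1 * x1 1) * x2 1 * na * x1 1 := by rw [D.r21]; group
        _ = x1 1 * (na * x2 1 * na) * x1 1 := by rw [D.sq1]; group
        _ = _ := by rw [D.a2, q2]
    rw [D.z6, mul_one, ← e1, ← e2, e]
  -- `k = g`
  have eC : x3 1 * x5 1 = x5 1 * (x4 k * x3 1) := by
    have e := congrArg (fun z => nb * z * nb) hk
    have e' : nb * (x3 1 * x1 1) * nb = nb * (x1 1 * (x2 k * x3 1)) * nb := e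
    rwa [cb, cb, cb, D.b3, D.b1, D.b2] at e'
  have hkg : k = g := by
    have e : x1 0 * (x2 0 * (x3 1 * (x4 0 * (x5 1 * x6 0)))) =
        x1 0 * (x2 0 * (x3 1 * (x4 (k + g) * (x5 1 * x6 0)))) := by
      rw [D.z1, D.z2, D.z4, D.z6, mul_one, one_mul, one_mul, one_mul, one_mul, one_mul, eC]
      rw [← mul_assoc, D.r54, mul_assoc, hg, ← mul_assoc, D.r43, mul_assoc, ← mul_assoc (x4 k), ← D.add4]
    obtain ⟨-, -, -, h4, -⟩ := D.inj6 e
    exact eqadd D.card h4.symm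
  -- `x1 1` is an involution
  have eE : x2 c2 * (x3 c3 * (x4 c4 * (x5 c5 * (x6 1 * (x1 1 * x6 0))))) = x1 1 * x6 1 := by
    rw [D.z6, mul_one]
    calc x2 c2 * (x3 c3 * (x4 c4 * (x5 c5 * (x6 1 * x1 1)))) =
        x2 c2 * (x3 c3 * (x4 c4 * (x5 c5 * x6 1))) * x1 1 := by group
      _ = x1 1 * x6 1 * (x1 1 * x1 1) := by rw [← q2]; group
      _ = _ := by rw [D.sq1, mul_one]
  simp only [r54, r43, r42, r32, r21, r31, r41, r51, r61, r52, r62, r53, r63, r64, r65, s2, s3, s4, s5,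
    mul_assoc] at eA eB eE
  have two := two D.card
  obtain ⟨h1, h2, h3, h4, h5, -⟩ := D.inj6 eA
  have eB' := congrArg (fun z => x1 0 * z) eB
  have eE' : x1 1 * x6 1 = x1 1 * (x2 0 * (x3 0 * (x4 0 * (x5 0 * x6 1)))) := by
    rw [D.z2, D.z3, D.z4, D.z5, one_mul, one_mul, one_mul, one_mul]
  rw [eE'] at eE
  simp only [← D.add6] at eB' eE
  obtain ⟨-, g2, g3, g4, g5, g6⟩ := D.inj6 eB'
  obtain ⟨-, i2, i3, i4, i5, i6⟩ := D.inj6 eE
  clear eA eB eE eB' eE' s1 s2 s3 s4 s5 s6 r21 r31 r41 r51 r61 r32 r42 r52 r62 r43 r53 r63 r54 r64 r65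
  clear a5 a6 b4 b5 ca cb q1 q2 hna hnb hk hg hd hc eC
  subst h1
  subst g3
  subst hkg
  have hc2 : c2 = 1 := by linear_combination -g2
  subst hc2
  have hk1 : k = 1 := by linear_combination g4 - two
  subst hk1
  have hd3 : d3 = 0 := by linear_combination h3
  have hd2 : d2 = 1 := by linear_combination i2 - two * (1 + 1 - 0)
  subst hd2
  have hc4 : c4 = 1 := by linear_combination h2 - two
  subst hc4
  have hd4 : d4 = 1 := by linear_combination h4 - two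
  exact ⟨rfl, rfl, rfl, hd3, hd4, rfl, rfl, rfl, rfl⟩

/-- **the relations of the unipotent group of `G₂(4)`** -/
theorem posRel : PosRel (OfPair.cubic (OfPair.pair_one (two D.card) : CubicPair (AlgEquiv.refl : F ≃ₐ[F] F)))
    x1 x2 x3 x4 x5 x6 := by
  obtain ⟨k, hk⟩ := D.e31
  obtain ⟨d2, d3, d4, hd⟩ := D.e51
  obtain ⟨c2, c3, c4, c5, hc⟩ := D.e61
  obtain ⟨g, hg⟩ := D.e53
  obtain ⟨rfl, rfl, rfl, rfl, rfl, rfl, rfl, rfl, rfl⟩ := D.consts hk hg hd hc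
  have tw := two D.card
  set C := OfPair.cubic (OfPair.pair_one (two D.card) : CubicPair (AlgEquiv.refl : F ≃ₐ[F] F)) with hC
  have hT : ∀ a b, C.T a b = a * b := by
    intro a b
    rw [hC, OfPair.cubic_T]
    have := algebraMap_tr (OfPair.pair_one (two D.card) : CubicPair (AlgEquiv.refl : F ≃ₐ[F] F)) (a * b)
    rw [Algebra.algebraMap_self, RingHom.id_apply] at this
    rw [this]
    change a * b + a * b + a * b = a * b
    linear_combination a * b * tw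
  have hs : ∀ a, C.sh a = a ^ 2 := by
    intro a
    rw [hC, OfPair.cubic_sh]
    change a * a = a ^ 2
    ring
  have hN : ∀ a, C.N a = a ^ 3 := by
    intro a
    have := C.N_map a
    rw [Algebra.algebraMap_self, RingHom.id_apply, hs] at this
    rw [this]; ring
  have hcr : ∀ a b, C.cr a b = 0 := by
    intro a b
    unfold Cubic.cr
    rw [hs, hs, hs]
    linear_combination (a ^ 2 + b ^ 2 + a * b) * tw
  refine ⟨D.add1, D.add2, D.add3, D.add4, D.add5, D.add6, D.r21, fun b a => ?_, D.r41, fun b a => ?_,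
    fun t a => ?_, D.r32, D.r42, D.r52, D.f62, D.r43, fun b t => ?_, D.r63, D.r54, D.r64, D.r65⟩
  · rw [D.f31 hk, hT, one_mul]
  · rw [D.f51 hd, hT, hs, hcr, hT, hs, one_mul, one_mul, zero_mul]
  · rw [D.f61 hc, hN, hs, smul_eq_mul, smul_eq_mul, one_mul, one_mul, one_mul, one_mul]
  · rw [D.f53 hg, hT, one_mul]

end

end RD

end Cfsg.Agent.Omega.GTwoFour.Id

end
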