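import Cfsg.Agent.Mrg.Omega.GTwoFour.Cor
import Cfsg.Agent.HexRec.OfPair
import Mathlib.FieldTheory.Finite.GaloisField

section


/-!
# Coordinates of the pair of type `G₂(4)` compatible with the torus

`Pos24 P₁ P₂ H U R V D W Y X ja jb` is the output of the identification ID24 (files `Id*.lean`):
`X : Tup F F → G`, `|F| = 4`, parametrises `U` with the product law `mu` of the Sylow 2-subgroup of
`G₂(4)`, the torus `H` acts diagonally, `ja ∈ P₂` and `jb ∈ P₁` are the fundamental involutions.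
-/

set_option autoImplicit false

namespace Cfsg.Agent.Omega.GTwoFour

open Cfsg.Agent.HexRec

variable {F : Type*} [Field F]

/-- the diagonal action with parameters `l`, `m` on the coordinates -/
def dg (l m : F) (a : Tup F F) : Tup F F :=
  ⟨l * a.a1, m * a.a2, l ^ 2 * m * a.a3, m ^ 2 * a.a4, l * m * a.a5, m * a.a6⟩

/-- the output of ID24 -/
structure Pos24 {G : Type*} [Group G] (P₁ P₂ H U R V D W Y : Subgroup G) (X : Tup F F → G) (ja jb : G) :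
    Prop where
  card : Nat.card F = 4
  inj : Function.Injective X
  mul : ∀ a b, X a * X b = X (mu a b)
  mem_U : ∀ g, g ∈ U ↔ ∃ a, X a = g
  diag : ∀ h ∈ H, ∃ l m : F, l ≠ 0 ∧ m ≠ 0 ∧ ∀ a, h * X a * h⁻¹ = X (dg l m a)
  diag' : ∀ l m : F, l ≠ 0 → m ≠ 0 → ∃ h ∈ H, ∀ a, h * X a * h⁻¹ = X (dg l m a)
  ja_mem : ja ∈ P₂
  jb_mem : jb ∈ P₁
  ja_sq : ja * ja = 1
  jb_sq : jb * jb = 1
  ja_H : ja ∈ Subgroup.normalizer (H : Set G)
  jb_H : jb ∈ Subgroup.normalizer (H : Set G)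
  nA : ∀ a2 a3 a4 a5 a6 : F, ja * X ⟨0, a2, a3, a4, a5, a6⟩ =
    X ⟨0, a6, a5, a4 + a2 * a6 + a3 * a5, a3, a2⟩ * ja
  nB : ∀ a1 a2 a3 a4 a5 : F, jb * X ⟨a1, a2, a3, a4, a5, 0⟩ =
    X ⟨a5, a4 + a3 * a5 + a1 * a5 ^ 2, a3, a2 + a1 * a3 + a1 ^ 2 * a5, a1, 0⟩ * jb
  mem_R : ∀ a, X a ∈ R ↔ a.a1 = 0 ∧ a.a2 = 0 ∧ a.a3 = 0 ∧ a.a5 = 0 ∧ a.a6 = 0
  mem_V : ∀ a, X a ∈ V ↔ a.a1 = 0 ∧ a.a3 = 0 ∧ a.a5 = 0 ∧ a.a6 = 0
  mem_D : ∀ a, X a ∈ D ↔ a.a1 = 0 ∧ a.a5 = 0 ∧ a.a6 = 0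
  mem_W : ∀ a, X a ∈ W ↔ a.a1 = 0
  mem_Y : ∀ a, X a ∈ Y ↔ a.a6 = 0

end Cfsg.Agent.Omega.GTwoFour

end

section


/-!
# Root groups of the pair of type `G₂(4)`

`Four` gives `Rts` (files `IdA`, `IdB`, ...), and `Four` with `Rts` gives `RD` and `Pos24`.
-/

set_option autoImplicit false

namespace Cfsg.Agent.Omega.GTwoFour.Id

open Subgroup

/-- six root groups, with the action of the torus `⟨h₁, h₂⟩` and of the involutions `na ∈ X₂`, `nb ∈ X₁` -/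
structure Rts {F : Type*} [Field F] {G : Type*} [Group G] (X₁ X₂ V R W Y D : Subgroup G)
    (h₁ h₂ na nb : G) (w : F) (x1 x2 x3 x4 x5 x6 : F → G) : Prop where
  w2 : w ^ 2 + w + 1 = 0
  add1 : ∀ s t, x1 (s + t) = x1 s * x1 t
  add2 : ∀ s t, x2 (s + t) = x2 s * x2 t
  add3 : ∀ s t, x3 (s + t) = x3 s * x3 t
  add4 : ∀ s t, x4 (s + t) = x4 s * x4 t
  add5 : ∀ s t, x5 (s + t) = x5 s * x5 t
  add6 : ∀ s t, x6 (s + t) = x6 s * x6 t
  /- `h₂` -/
  p1 : ∀ a, h₂ * x1 a * h₂⁻¹ = x1 (w * a)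
  p2 : ∀ a, h₂ * x2 a * h₂⁻¹ = x2 a
  p3 : ∀ a, h₂ * x3 a * h₂⁻¹ = x3 (w ^ 2 * a)
  p4 : ∀ a, h₂ * x4 a * h₂⁻¹ = x4 a
  p5 : ∀ a, h₂ * x5 a * h₂⁻¹ = x5 (w * a)
  p6 : ∀ a, h₂ * x6 a * h₂⁻¹ = x6 a
  /- `h₁` -/
  q1 : ∀ a, h₁ * x1 a * h₁⁻¹ = x1 (w * a)
  q2 : ∀ a, h₁ * x2 a * h₁⁻¹ = x2 (w * a)
  q3 : ∀ a, h₁ * x3 a * h₁⁻¹ = x3 a
  q4 : ∀ a, h₁ * x4 a * h₁⁻¹ = x4 (w ^ 2 * a)
  q5 : ∀ a, h₁ * x5 a * h₁⁻¹ = x5 (w ^ 2 * a)
  q6 : ∀ a, h₁ * x6 a * h₁⁻¹ = x6 (w * a)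
  /- the involutions -/
  naX : na ∈ X₂
  nbX : nb ∈ X₁
  na2 : na * na = 1
  nb2 : nb * nb = 1
  nah₁ : na * h₁ * na = h₁ * h₂
  nah₂ : na * h₂ * na = h₂⁻¹
  nbh₁ : nb * h₁ * nb = h₁⁻¹
  nbh₂ : nb * h₂ * nb = h₂
  nbR : ∃ r ∈ R, nb * r * nb⁻¹ ∉ R
  a2 : ∀ a, na * x2 a * na = x6 a
  a3 : ∀ a, na * x3 a * na = x5 a
  a4 : ∀ a, na * x4 a * na = x4 a
  b1 : ∀ a, nb * x1 a * nb = x5 a
  b2 : ∀ a, nb * x2 a * nb = x4 a
  b3 : ∀ a, nb * x3 a * nb = x3 a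
  ra : na * x1 1 * na = x1 1 * na * x1 1
  rb : nb * x6 1 * nb = x6 1 * nb * x6 1
  /- membership -/
  m1 : ∀ a, x1 a ∈ Y
  m2 : ∀ a, x2 a ∈ V
  m3 : ∀ a, x3 a ∈ D
  m4 : ∀ a, x4 a ∈ R
  m5 : ∀ a, x5 a ∈ W
  m5' : ∀ a, x5 a ∈ Y
  m6 : ∀ a, x6 a ∈ W
  z1 : ∀ a, x1 a ∈ W → a = 0
  z2 : ∀ a, x2 a ∈ R → a = 0
  z3 : ∀ a, x3 a ∈ V → a = 0
  z4 : ∀ a, x4 a = 1 → a = 0
  z5 : ∀ a, x5 a ∈ D → a = 0
  z6 : ∀ a, x6 a ∈ Y → a = 0

end Cfsg.Agent.Omega.GTwoFour.Id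

end

section


/-!
# The root groups of the pair of type `G₂(4)`
-/

set_option autoImplicit false
set_option linter.unusedSectionVars false

namespace Cfsg.Agent.Omega.GTwoFour.Id

open Subgroup
open scoped MatrixGroups

namespace FT

variable {F : Type*} [Field F] {G : Type*} [Group G] [Finite G] {X₁ X₂ U V R W Y D : Subgroup G} {h₁ h₂ : G}
  {w₁ w₂ : F} {ρ₁ ρ₂ : G → SL(2, F)} {t : G} (T : FT F X₁ X₂ U V R W Y D h₁ h₂ w₁ w₂ ρ₁ ρ₂ t)
include T

theorem fp_tVR : Fp t V R := by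
  refine T.f.fp_tVR T.c₁ T.c₂ T.t3 T.nX₂ T.nW T.nV T.nR T.tρ ?_
  rw [T.ht]
  exact T.f.tf_of T.c₁ (X₂.inv_mem T.f.h₂X)

/-- `V ∩ V^{na} = R` -/
theorem V_inter {na : G} (hna : na ∈ X₂) (hna1 : ρ₂ na = jj) (hnat : t * na = na * t) {v : G} (hv : v ∈ V)
    (hv' : na * v * na⁻¹ ∈ V) : v ∈ R := by
  have f := T.f
  let S : Subgroup G :=
    { carrier := {r | r ∈ V ∧ na * r * na⁻¹ ∈ V}
      one_mem' := ⟨V.one_mem, by rw [mul_one, mul_inv_cancel]; exact V.one_mem⟩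
      mul_mem' := by
        rintro x y ⟨hx, hx'⟩ ⟨hy, hy'⟩
        refine ⟨V.mul_mem hx hy, ?_⟩
        have e : na * (x * y) * na⁻¹ = (na * x * na⁻¹) * (na * y * na⁻¹) := by group
        rw [e]; exact V.mul_mem hx' hy'
      inv_mem' := by
        rintro x ⟨hx, hx'⟩
        refine ⟨V.inv_mem hx, ?_⟩
        have e : na * x⁻¹ * na⁻¹ = (na * x * na⁻¹)⁻¹ := by group
        rw [e]; exact V.inv_mem hx' }
  have hSV : S ≤ V := fun x hx => hx.1
  have hRS : R ≤ S := fun x hx => ⟨f.RV hx, by rw [f.conj_R hna hx]; exact f.RV hx⟩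
  have hSh : ∀ x ∈ S, t * x * t⁻¹ ∈ S := by
    rintro x ⟨hx, hx'⟩
    refine ⟨T.nV x hx, ?_⟩
    have e : na * (t * x * t⁻¹) * na⁻¹ = t * (na * x * na⁻¹) * t⁻¹ := by
      calc na * (t * x * t⁻¹) * na⁻¹ = (na * t) * x * (na * t)⁻¹ := by group
        _ = (t * na) * x * (t * na)⁻¹ := by rw [hnat]
        _ = _ := by group
    rw [e]
    exact T.nV _ hx'
  by_contra hne
  have h1 := le_of_fp (h := t) (A := V) (B := R) (S := S) hRS hSV (by rw [f.kR, f.kV]) hSh T.t3 T.nR T.fp_tVR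
    (fun hle => hne (hle ⟨hv, hv'⟩))
  have h2 : X₂ ≤ normalizer (V : Set G) := by
    refine T.c₂.le_of_mem ?_ hna hna1 (Four.mem_norm fun x hx => (h1 hx).2)
    intro u hu
    exact Four.mem_norm (f.nV u (f.UX₁ hu))
  have h3 : W ≤ V := f.gen V fun x hx v hv => (mem_normalizer_iff.1 (h2 hx) v).1 hv
  have h4 := Nat.card_le_card_of_injective _ (inclusion_injective h3)
  rw [f.kW, f.kV] at h4
  omega

end FT

theorem sq_conj {G : Type*} [Group G] {n : G} (hn : n * n = 1) (x y : G) :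
    n * (x * y) * n = (n * x * n) * (n * y * n) := by
  have hni : n⁻¹ = n := inv_eq_of_mul_eq_one_right hn
  calc n * (x * y) * n = n * x * n * (n⁻¹ * y * n) := by group
    _ = _ := by rw [hni]

theorem sq_conj_conj {G : Type*} [Group G] {n : G} (hn : n * n = 1) (x : G) : n * (n * x * n) * n = x := by
  calc n * (n * x * n) * n = (n * n) * x * (n * n) := by group
    _ = x := by rw [hn, one_mul, mul_one]

/-- `h (n x n) h⁻¹ = n (h' x h'⁻¹) n` if `n h n = h'` -/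
theorem sq_conj_h {G : Type*} [Group G] {n h h' : G} (hn : n * n = 1) (hh : n * h * n = h') (x : G) :
    h * (n * x * n) * h⁻¹ = n * (h' * x * h'⁻¹) * n := by
  have hni : n⁻¹ = n := inv_eq_of_mul_eq_one_right hn
  rw [← hh]
  calc h * (n * x * n) * h⁻¹ = (n * n) * h * (n * x * n) * h⁻¹ * (n * n) := by rw [hn, one_mul, mul_one]
    _ = n * (n * h * n * x * (n⁻¹⁻¹ * h⁻¹ * n)) * n := by rw [inv_inv]; group
    _ = n * (n * h * n * x * (n * h * n)⁻¹) * n := by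
        rw [show (n * h * n)⁻¹ = n⁻¹ * h⁻¹ * n⁻¹ by group, inv_inv, hni]

theorem braid_of_cube {G : Type*} [Group G] {n x : G} (hn : n * n = 1) (hx : x * x = 1)
    (h : n * x * (n * x) * (n * x) = 1) : n * x * n = x * n * x := by
  have hni : n⁻¹ = n := inv_eq_of_mul_eq_one_right hn
  have hxi : x⁻¹ = x := inv_eq_of_mul_eq_one_right hx
  calc n * x * n = (n * x * (n * x) * (n * x)) * (x⁻¹ * n⁻¹ * x⁻¹) := by group
    _ = x * n * x := by rw [h, one_mul, hni, hxi]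

namespace FT

variable {F : Type*} [Field F] {G : Type*} [Group G] [Finite G] {X₁ X₂ U V R W Y D : Subgroup G} {h₁ h₂ : G}
  {w : F} {ρ₁ ρ₂ : G → SL(2, F)} {t : G} (T : FT F X₁ X₂ U V R W Y D h₁ h₂ w w ρ₁ ρ₂ t)
include T

theorem exists_rts : ∃ (na nb : G) (x1 x2 x3 x4 x5 x6 : F → G),
    Rts X₁ X₂ V R W Y D h₁ h₂ na nb w x1 x2 x3 x4 x5 x6 := by
  have f := T.f
  have hw := T.c₁.w2
  have hw3 := w3 hw
  have tw := two f.cF
  obtain ⟨xx, xX, xt, xρ, xm, xu⟩ := T.exists_xx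
  obtain ⟨nb, nbX, nb1, nb2, nbh₂, nbh₁⟩ := T.exists_nb'
  have nbi : nb⁻¹ = nb := inv_eq_of_mul_eq_one_right nb2
  have xx1 : xx 1 = 1 := by
    have := xm 1 1
    rw [mul_one] at this
    exact left_eq_mul.1 this
  have xxi : ∀ M, xx M⁻¹ = (xx M)⁻¹ := fun M => by
    rw [eq_inv_iff_mul_eq_one, ← xm, inv_mul_cancel, xx1]
  -- `na`, `x1`
  set na := xx jj with hna
  have naX : na ∈ X₂ := xX _
  have nat' : t * na = na * t := xt _
  have na1 : ρ₂ na = jj := xρ _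
  have na2 : na * na = 1 := by rw [hna, ← xm, jj_sq f.cF, xx1]
  have nai : na⁻¹ = na := inv_eq_of_mul_eq_one_right na2
  set x1 : F → G := fun a => xx (up a) with hx1
  have x1X : ∀ a, x1 a ∈ X₂ := fun a => xX _
  have x1t : ∀ a, t * x1 a = x1 a * t := fun a => xt _
  have x1ρ : ∀ a, ρ₂ (x1 a) = up a := fun a => xρ _
  have x1U : ∀ a, x1 a ∈ U := fun a => (T.c₂.up _ (x1X a)).2 ⟨a, x1ρ a⟩
  have add1 : ∀ a b, x1 (a + b) = x1 a * x1 b := fun a b => by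
    simp only [hx1]; rw [up_add, xm]
  have x1z : ∀ a, x1 a ∈ W → a = 0 := fun a ha => by
    rw [← T.c₂.ker _ (x1X a), x1ρ, ← up_zero] at ha
    exact up_inj ha
  have hh2 : h₂ = xx (ρ₂ h₂) := xu h₂ f.h₂X T.th₂
  have p1 : ∀ a, h₂ * x1 a * h₂⁻¹ = x1 (w * a) := fun a => by
    simp only [hx1]
    rw [hh2, ← xxi, ← xm, ← xm, T.c₂.dg.up T.c₂.w2]
  have q1 : ∀ a, h₁ * x1 a * h₁⁻¹ = x1 (w * a) := fun a => by
    have e : h₁ * x1 a * h₁⁻¹ = t * (h₂ * x1 a * h₂⁻¹) * t⁻¹ := by rw [T.h₁_eq]; group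
    rw [e, p1, x1t, mul_inv_cancel_right]
  have x1Y : ∀ a, x1 a ∈ Y := by
    intro a
    obtain ⟨a', ha', b, hb, hab⟩ := f.UWY _ (x1U a)
    have ha'X := T.c₂.NX ha'
    have hbX := f.UX₂ (f.YU hb)
    have hb1 : ρ₂ b = up a := by
      rw [← x1ρ a, hab, T.c₂.mul _ ha'X _ hbX, (T.c₂.ker a' ha'X).2 ha', one_mul]
    have h1 : b⁻¹ * (t * b * t⁻¹) ∈ W ⊓ Y :=
      ⟨(T.c₂.eq_iff hbX (T.nX₂ b hbX)).1 (T.tρ b hbX).symm, Y.mul_mem (Y.inv_mem hb) (T.nY b hb)⟩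
    obtain ⟨z, hz, hz1⟩ := lift T.t3 (f.not3 (inf_le_left.trans f.WU))
      (fun x hx => ⟨T.nW x hx.1, T.nY x hx.2⟩) h1
    have hzX := T.c₂.NX hz.1
    have h2 := xu (b * z) (X₂.mul_mem hbX hzX) hz1
    rw [T.c₂.mul _ hbX _ hzX, hb1, (T.c₂.ker z hzX).2 hz.1, mul_one] at h2
    have h3 : x1 a = b * z := h2.symm
    rw [h3]
    exact Y.mul_mem hb hz.2
  have ra : na * x1 1 * na = x1 1 * na * x1 1 := by
    refine braid_of_cube na2 (by rw [← add1, addself f.cF]; simp only [hx1]; rw [up_zero, xx1]) ?_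
    simp only [hx1, hna]
    rw [← xm, ← xm, ← xm, jj_up, xx1]
  have nah₂ : na * h₂ * na = h₂⁻¹ := by
    have h1 : na * h₂ * na⁻¹ = h₂⁻¹ := by
      rw [hna, hh2, ← xxi, ← xm, ← xm, jj_IsD T.c₂.dg, xxi]
    rwa [nai] at h1
  have nah₁ : na * h₁ * na = h₁ * h₂ := by
    have e1 : h₂⁻¹ = h₂ * h₂ := by rw [inv_eq_iff_mul_eq_one, ← mul_assoc, f.h₂3]
    calc na * h₁ * na = (na * t) * h₂ * na := by rw [T.h₁_eq]; group
      _ = t * (na * h₂ * na) := by rw [← nat']; group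
      _ = t * h₂⁻¹ := by rw [nah₂]
      _ = t * (h₂ * h₂) := by rw [e1]
      _ = h₁ * h₂ := by rw [← mul_assoc, ← T.h₁_eq]
  -- `R^{nb}`
  have hbn : nb * h₁ * nb⁻¹ = h₁⁻¹ := by rw [nbi]; exact nbh₁
  have hnbV : ∀ v ∈ V, nb * v * nb ∈ V := fun v hv => by
    have := f.nV nb nbX v hv
    rwa [nbi] at this
  have hnbY : ∀ v ∈ Y, nb * v * nb ∈ Y := fun v hv => by
    have := T.c₁.nN nbX hv
    rwa [nbi] at this
  have hnbD : ∀ v ∈ D, nb * v * nb ∈ D := fun v hv => by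
    have := f.nD nb nbX v hv
    rwa [nbi] at this
  have hnaW : ∀ v ∈ W, na * v * na ∈ W := fun v hv => by
    have := T.c₂.nN naX hv
    rwa [nai] at this
  have hRi : ∀ r ∈ R, nb * r * nb ∈ R → r = 1 := fun r hr hr' =>
    f.R_inter T.c₁ nbX nb1 hbn hr (by rwa [nbi])
  -- the elements `y r`
  set y : G → G := fun r => na * (nb * r * nb) * na with hy
  have yW : ∀ r ∈ R, y r ∈ W := fun r hr => hnaW _ (f.VW (hnbV r (f.RV hr)))
  have yX₁ : ∀ r ∈ R, y r ∈ X₁ := fun r hr => f.UX₁ (f.WU (yW r hr))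
  have yh₂ : ∀ r ∈ R, h₂ * y r = y r * h₂ := by
    intro r hr
    have h1 : h₂ * (na * (nb * r * nb) * na) * h₂⁻¹ = na * (nb * r * nb) * na := by
      rw [sq_conj_h na2 nah₂, comm_inv_right (T.h₂V (hnbV r (f.RV hr))).symm |>.symm, inv_inv]
      have h2 := T.h₂V (hnbV r (f.RV hr))
      rw [mul_assoc (nb * r * nb), inv_mul_cancel, mul_one]
    change h₂ * (na * (nb * r * nb) * na) = na * (nb * r * nb) * na * h₂
    calc h₂ * (na * (nb * r * nb) * na) = h₂ * (na * (nb * r * nb) * na) * h₂⁻¹ * h₂ := by group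
      _ = _ := by rw [h1]
  have yY : ∀ r ∈ R, y r ∈ Y → r = 1 := by
    intro r hr hrY
    have h1 := T.CY hrY (yh₂ r hr)
    have h2 := T.V_inter naX na1 nat' (hnbV r (f.RV hr)) (by rw [nai]; exact h1)
    exact hRi r hr h2
  have ym : ∀ r s, y (r * s) = y r * y s := fun r s => by
    simp only [hy]
    rw [sq_conj nb2, sq_conj na2]
  have yinv : ∀ r, y r⁻¹ = (y r)⁻¹ := fun r => by
    have y1 : y 1 = 1 := by simp only [hy]; rw [mul_one, nb2, mul_one, na2]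
    rw [eq_inv_iff_mul_eq_one, ← ym, inv_mul_cancel, y1]
  have yρ : ∀ r ∈ R, ∃ a, ρ₁ (y r) = up a := fun r hr => (T.c₁.up _ (yX₁ r hr)).1 (f.WU (yW r hr))
  have yu : ∀ r ∈ R, ∀ s ∈ R, ρ₁ (y r) = ρ₁ (y s) → r = s := by
    intro r hr s hs h
    rw [T.c₁.eq_iff (yX₁ r hr) (yX₁ s hs), ← yinv, ← ym] at h
    exact inv_mul_eq_one.1 (yY _ (R.mul_mem (R.inv_mem hr) hs) h)
  -- `x4`
  have hsurj : ∀ a : F, ∃ r, r ∈ R ∧ ρ₁ (y r) = up a := by
    choose θ hθ using fun r : R => yρ r r.2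
    have hinj : Function.Injective θ := fun r s hrs =>
      Subtype.ext (yu r r.2 s s.2 (by rw [hθ, hθ, hrs]))
    have finF := fin f.cF
    have hbij := (Nat.bijective_iff_injective_and_card θ).2 ⟨hinj, by rw [f.kR, f.cF]⟩
    intro a
    obtain ⟨r, hr⟩ := hbij.2 a
    exact ⟨r, r.2, by rw [hθ, hr]⟩
  choose x4 x4R x4ρ using hsurj
  have x4u : ∀ r ∈ R, ∀ a, ρ₁ (y r) = up a → r = x4 a := fun r hr a h =>
    yu r hr _ (x4R a) (h.trans (x4ρ a).symm)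
  have add4 : ∀ a b, x4 (a + b) = x4 a * x4 b := by
    intro a b
    refine (x4u _ (R.mul_mem (x4R a) (x4R b)) _ ?_).symm
    rw [ym, T.c₁.mul _ (yX₁ _ (x4R a)) _ (yX₁ _ (x4R b)), x4ρ, x4ρ, up_add]
  have z4 : ∀ a, x4 a = 1 → a = 0 := by
    intro a ha
    have h1 := x4ρ a
    have y1 : y 1 = 1 := by simp only [hy]; rw [mul_one, nb2, mul_one, na2]
    rw [ha, y1, T.c₁.one, ← up_zero] at h1
    exact (up_inj h1).symm
  have hy1 : ∀ r ∈ R, h₁ * y r * h₁⁻¹ = y (h₁⁻¹ * r * h₁) := by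
    intro r hr
    have hV := hnbV r (f.RV hr)
    have e1 : h₂ * (nb * r * nb) * h₂⁻¹ = nb * r * nb := by rw [T.h₂V hV, mul_inv_cancel_right]
    have e2 : h₁ * h₂ * (nb * r * nb) * (h₁ * h₂)⁻¹ = nb * (h₁⁻¹ * r * h₁⁻¹⁻¹) * nb := by
      calc h₁ * h₂ * (nb * r * nb) * (h₁ * h₂)⁻¹ = h₁ * (h₂ * (nb * r * nb) * h₂⁻¹) * h₁⁻¹ := by group
        _ = h₁ * (nb * r * nb) * h₁⁻¹ := by rw [e1]
        _ = _ := sq_conj_h nb2 nbh₁ r
    simp only [hy]
    rw [sq_conj_h na2 nah₁, e2, inv_inv]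
  have x4h : ∀ a, h₁⁻¹ * x4 a * h₁ = x4 (w * a) := by
    intro a
    refine x4u _ (inv_conj f.h₁3 f.h₁R (x4R a)) _ ?_
    rw [← hy1 _ (x4R a)]
    exact T.c₁.conj_h (yX₁ _ (x4R a)) (x4ρ a)
  have q4 : ∀ a, h₁ * x4 a * h₁⁻¹ = x4 (w ^ 2 * a) := by
    intro a
    have h1 := x4h (w ^ 2 * a)
    rw [show w * (w ^ 2 * a) = a by linear_combination a * hw3] at h1
    rw [← h1]; group
  have p4 : ∀ a, h₂ * x4 a * h₂⁻¹ = x4 a := fun a => f.conj_R f.h₂X (x4R a)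
  -- `x2`, `x6`
  set x2 : F → G := fun a => nb * x4 a * nb with hx2
  set x6 : F → G := fun a => na * x2 a * na with hx6
  have x6y : ∀ a, x6 a = y (x4 a) := fun a => rfl
  have x2V : ∀ a, x2 a ∈ V := fun a => hnbV _ (f.RV (x4R a))
  have add2 : ∀ a b, x2 (a + b) = x2 a * x2 b := fun a b => by
    simp only [hx2]; rw [add4, sq_conj nb2]
  have add6 : ∀ a b, x6 (a + b) = x6 a * x6 b := fun a b => by
    simp only [hx6]; rw [add2, sq_conj na2]
  have p2 : ∀ a, h₂ * x2 a * h₂⁻¹ = x2 a := fun a => by rw [T.h₂V (x2V a), mul_inv_cancel_right]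
  have q2 : ∀ a, h₁ * x2 a * h₁⁻¹ = x2 (w * a) := fun a => by
    simp only [hx2]
    rw [sq_conj_h nb2 nbh₁, inv_inv, x4h]
  have p6 : ∀ a, h₂ * x6 a * h₂⁻¹ = x6 a := fun a => by
    rw [x6y, yh₂ _ (x4R a), mul_inv_cancel_right]
  have q6 : ∀ a, h₁ * x6 a * h₁⁻¹ = x6 (w * a) := fun a => by
    rw [x6y, hy1 _ (x4R a), x4h]
  have z6 : ∀ a, x6 a ∈ Y → a = 0 := fun a ha => z4 a (yY _ (x4R a) ha)
  have z2 : ∀ a, x2 a ∈ R → a = 0 := fun a ha => z4 a (hRi _ (x4R a) ha)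
  have a4 : ∀ a, na * x4 a * na = x4 a := fun a => by
    rw [f.cR na naX _ (x4R a), mul_assoc, na2, mul_one]
  have x60 : x6 0 = 1 := left_eq_mul.1 (by rw [← add6, add_zero] : x6 0 = x6 0 * x6 0)
  have rb : nb * x6 1 * nb = x6 1 * nb * x6 1 := by
    refine braid_of_cube nb2 (by rw [← add6, addself f.cF, x60]) ?_
    set g := nb * x6 1 with hg
    have x6X := yX₁ _ (x4R 1)
    have hgX : g ∈ X₁ := X₁.mul_mem nbX x6X
    have hg1 : ρ₁ g = jj * up 1 := by rw [hg, T.c₁.mul _ nbX _ x6X, nb1, x4ρ]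
    have hgc : Commute h₂ g := by
      have c1 : Commute h₂ nb := by
        change h₂ * nb = nb * h₂
        calc h₂ * nb = (nb * h₂ * nb) * nb := by rw [nbh₂]
          _ = nb * h₂ * (nb * nb) := by group
          _ = _ := by rw [nb2, mul_one]
      exact c1.mul_right (yh₂ _ (x4R 1))
    have hY : g * g * g ∈ Y := by
      rw [← T.c₁.ker _ (X₁.mul_mem (X₁.mul_mem hgX hgX) hgX), T.c₁.mul _ (X₁.mul_mem hgX hgX) _ hgX,
        T.c₁.mul _ hgX _ hgX, hg1, jj_up]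
    have hV : g * g * g ∈ V := T.CY hY ((hgc.mul_right hgc).mul_right hgc).eq
    obtain ⟨P, hP⟩ := jj_up_conj f.cF hw T.c₁.dg
    obtain ⟨p, hp, hp1⟩ := T.c₁.surj P
    set v := g * g * g with hv
    have hcv : Commute g v := ((Commute.refl g).mul_right (Commute.refl g)).mul_right (Commute.refl g)
    have hpg : p * g * p⁻¹ ∈ X₁ := X₁.mul_mem (X₁.mul_mem hp hgX) (X₁.inv_mem hp)
    have hyy : h₁⁻¹ * (p * g * p⁻¹) ∈ Y := by
      rw [← T.c₁.eq_iff f.h₁X hpg, T.c₁.conj hp hgX, hp1, hg1, hP]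
    have hv' : p * v * p⁻¹ ∈ V := f.nV p hp v hV
    have h1 : h₁ * (p * v * p⁻¹) = (p * v * p⁻¹) * h₁ := by
      have e1 : p * g * p⁻¹ * (p * v * p⁻¹) = (p * v * p⁻¹) * (p * g * p⁻¹) := by
        calc p * g * p⁻¹ * (p * v * p⁻¹) = p * (g * v) * p⁻¹ := by group
          _ = _ := by rw [hcv.eq]; group
      have e2 := f.YV _ hyy _ hv'
      set q := h₁⁻¹ * (p * g * p⁻¹) with hq
      have e3 : h₁ = p * g * p⁻¹ * q⁻¹ := by rw [hq]; group
      have e4 : q⁻¹ * (p * v * p⁻¹) = (p * v * p⁻¹) * q⁻¹ := by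
        calc q⁻¹ * (p * v * p⁻¹) = q⁻¹ * ((p * v * p⁻¹) * q) * q⁻¹ := by group
          _ = _ := by rw [← e2]; group
      calc h₁ * (p * v * p⁻¹) = p * g * p⁻¹ * (q⁻¹ * (p * v * p⁻¹)) := by rw [e3]; group
        _ = (p * g * p⁻¹ * (p * v * p⁻¹)) * q⁻¹ := by rw [e4, ← mul_assoc]
        _ = (p * v * p⁻¹) * (p * g * p⁻¹ * q⁻¹) := by rw [e1]; group
        _ = _ := by rw [← e3]
    have h2 := f.fp_h₁V T.c₁ hv' h1
    calc v = p⁻¹ * (p * v * p⁻¹) * p := by group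
      _ = 1 := by rw [h2]; group
  -- `x5`, `x3`
  set x5 : F → G := fun a => nb * x1 a * nb with hx5
  set x3 : F → G := fun a => na * x5 a * na with hx3
  have add5 : ∀ a b, x5 (a + b) = x5 a * x5 b := fun a b => by
    simp only [hx5]; rw [add1, sq_conj nb2]
  have add3 : ∀ a b, x3 (a + b) = x3 a * x3 b := fun a b => by
    simp only [hx3]; rw [add5, sq_conj na2]
  have x5Y : ∀ a, x5 a ∈ Y := fun a => hnbY _ (x1Y a)
  have p5 : ∀ a, h₂ * x5 a * h₂⁻¹ = x5 (w * a) := fun a => by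
    simp only [hx5]; rw [sq_conj_h nb2 nbh₂, p1]
  have p1' : ∀ a, h₂⁻¹ * x1 a * h₂ = x1 (w ^ 2 * a) := fun a => by
    have h1 := p1 (w ^ 2 * a)
    rw [show w * (w ^ 2 * a) = a by linear_combination a * hw3] at h1
    rw [← h1]; group
  have q1' : ∀ a, h₁⁻¹ * x1 a * h₁ = x1 (w ^ 2 * a) := fun a => by
    have h1 := q1 (w ^ 2 * a)
    rw [show w * (w ^ 2 * a) = a by linear_combination a * hw3] at h1
    rw [← h1]; group
  have p5' : ∀ a, h₂⁻¹ * x5 a * h₂ = x5 (w ^ 2 * a) := fun a => by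
    have h1 := p5 (w ^ 2 * a)
    rw [show w * (w ^ 2 * a) = a by linear_combination a * hw3] at h1
    rw [← h1]; group
  have q5 : ∀ a, h₁ * x5 a * h₁⁻¹ = x5 (w ^ 2 * a) := fun a => by
    simp only [hx5]; rw [sq_conj_h nb2 nbh₁, inv_inv, q1']
  have p3 : ∀ a, h₂ * x3 a * h₂⁻¹ = x3 (w ^ 2 * a) := fun a => by
    simp only [hx3]; rw [sq_conj_h na2 nah₂, inv_inv, p5']
  have q3 : ∀ a, h₁ * x3 a * h₁⁻¹ = x3 a := fun a => by
    have e : h₁ * h₂ * x5 a * (h₁ * h₂)⁻¹ = x5 a := by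
      have e1 : h₁ * h₂ * x5 a * (h₁ * h₂)⁻¹ = h₁ * (h₂ * x5 a * h₂⁻¹) * h₁⁻¹ := by group
      rw [e1, p5, q5, show w ^ 2 * (w * a) = a by linear_combination a * hw3]
    simp only [hx3]; rw [sq_conj_h na2 nah₁, e]
  have q3' : ∀ a, h₁ * x3 a = x3 a * h₁ := fun a => by
    calc h₁ * x3 a = h₁ * x3 a * h₁⁻¹ * h₁ := by group
      _ = _ := by rw [q3]
  have x5W : ∀ a, x5 a ∈ W := fun a => by
    refine T.fixW (f.YU (x5Y a)) (Or.inr (Or.inr rfl)) ?_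
    have e : h₁ * h₂ * x5 a * (h₁ * h₂)⁻¹ = x5 a := by
      have e1 : h₁ * h₂ * x5 a * (h₁ * h₂)⁻¹ = h₁ * (h₂ * x5 a * h₂⁻¹) * h₁⁻¹ := by group
      rw [e1, p5, q5, show w ^ 2 * (w * a) = a by linear_combination a * hw3]
    calc h₁ * h₂ * x5 a = h₁ * h₂ * x5 a * (h₁ * h₂)⁻¹ * (h₁ * h₂) := by group
      _ = _ := by rw [e]
  have x3W : ∀ a, x3 a ∈ W := fun a => hnaW _ (x5W a)
  have x3Y : ∀ a, x3 a ∈ Y := fun a => T.fixY (f.WU (x3W a)) (q3' a)
  have nbq : ∀ a, h₁ * (nb * x3 a * nb) = (nb * x3 a * nb) * h₁ := fun a => by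
    have h1 : h₁ * (nb * x3 a * nb) * h₁⁻¹ = nb * x3 a * nb := by
      rw [sq_conj_h nb2 nbh₁, inv_inv]
      have h2 : h₁⁻¹ * x3 a * h₁ = x3 a := by
        rw [mul_assoc, ← q3', inv_mul_cancel_left]
      rw [h2]
    calc h₁ * (nb * x3 a * nb) = h₁ * (nb * x3 a * nb) * h₁⁻¹ * h₁ := by group
      _ = _ := by rw [h1]
  have hnbR := f.j_R T.c₁ nbX nb1
  have x3D : ∀ a, x3 a ∈ D := fun a => by
    refine f.D_of nb nbX hnbR _ (x3W a) ?_
    rw [nbi]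
    exact T.fixW (f.YU (hnbY _ (x3Y a))) (Or.inr (Or.inl rfl)) (nbq a)
  have x10 : x1 0 = 1 := left_eq_mul.1 (by rw [← add1, add_zero] : x1 0 = x1 0 * x1 0)
  have x30 : x3 0 = 1 := left_eq_mul.1 (by rw [← add3, add_zero] : x3 0 = x3 0 * x3 0)
  have z5 : ∀ a, x5 a ∈ D → a = 0 := fun a ha => by
    have h1 := hnbD _ ha
    simp only [hx5] at h1
    rw [sq_conj_conj nb2] at h1
    exact x1z a (f.DW h1)
  have z3' : ∀ a, x3 a = 1 → a = 0 := fun a ha => by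
    apply z5
    have h1 : na * x3 a * na = 1 := by rw [ha, mul_one, na2]
    simp only [hx3] at h1
    rw [sq_conj_conj na2] at h1
    rw [h1]; exact D.one_mem
  have z3 : ∀ a, x3 a ∈ V → a = 0 := fun a ha => z3' a (f.fp_h₁V T.c₁ ha (q3' a))
  -- `nb` centralises `x3`
  have x3s : ∀ d ∈ D, h₁ * d = d * h₁ → ∃ a, d = x3 a := by
    let m : F × V → D := fun p => ⟨x3 p.1 * p.2, D.mul_mem (x3D _) (f.VD p.2.2)⟩
    have hinj : Function.Injective m := by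
      rintro ⟨a, v⟩ ⟨b, v'⟩ h
      have h1 : x3 a * v = x3 b * v' := congrArg Subtype.val h
      have h2 : x3 (a + b) ∈ V := by
        have h3 : x3 b * x3 b = 1 := by rw [← add3, addself f.cF, x30]
        have h4 : (x3 b)⁻¹ = x3 b := inv_eq_of_mul_eq_one_right h3
        have h5 : x3 (b + a) = (v' : G) * (v : G)⁻¹ := by
          calc x3 (b + a) = (x3 b)⁻¹ * (x3 a * v) * (v : G)⁻¹ := by rw [add3, h4]; group
            _ = _ := by rw [h1]; group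
        rw [add_comm, h5]
        exact V.mul_mem v'.2 (V.inv_mem v.2)
      have h3 : a = b := eqadd f.cF (z3 _ h2)
      subst h3
      have h4 : (v : G) = v' := mul_left_cancel h1
      exact Prod.ext rfl (Subtype.ext h4)
    have finF := fin f.cF
    have hbij := (Nat.bijective_iff_injective_and_card m).2 ⟨hinj, by
      rw [Nat.card_prod, f.cF, f.kV, f.kD]⟩
    intro d hd hdh
    obtain ⟨⟨a, v⟩, hav⟩ := hbij.2 ⟨d, hd⟩
    have h1 : x3 a * v = d := congrArg Subtype.val hav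
    refine ⟨a, ?_⟩
    have h2 : (v : G) = 1 := by
      refine f.fp_h₁V T.c₁ v.2 ?_
      have h3 : (v : G) = (x3 a)⁻¹ * d := by rw [← h1]; group
      rw [h3]
      have c1 : Commute h₁ (x3 a) := q3' a
      have c2 : Commute h₁ d := hdh
      exact (c1.inv_right.mul_right c2).eq
    rw [← h1, h2, mul_one]
  obtain ⟨c, hc⟩ := x3s _ (hnbD _ (x3D 1)) (nbq 1)
  have hb3 : ∀ a, nb * x3 a * nb = x3 (c * a) → nb * x3 (w ^ 2 * a) * nb = x3 (c * (w ^ 2 * a)) := by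
    intro a ha
    have h1 := sq_conj_h nb2 nbh₂ (x3 a)
    rw [ha, p3, p3] at h1
    rw [← h1]; congr 1; ring
  have hb3' : ∀ a, nb * x3 a * nb = x3 (c * a) := by
    intro a
    have k1 : nb * x3 1 * nb = x3 (c * 1) := by rw [mul_one]; exact hc
    have k2 := hb3 _ k1
    have k3 := hb3 _ k2
    rcases Ch.cases4 f.cF hw a with ha | ha | ha | ha <;> rw [ha]
    · rw [mul_zero, x30, mul_one, nb2]
    · exact k1
    · rw [show w ^ 2 * (w ^ 2 * 1) = w by linear_combination w * hw3] at k3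
      exact k3
    · rw [mul_one] at k2; exact k2
  have hcc : c = 1 := by
    have h1 : x3 1 = x3 (c * c) := by
      rw [← hb3' c, ← hc]
      exact (sq_conj_conj nb2 _).symm
    have h2 : x3 (1 + c * c) = 1 := by
      rw [add3, ← h1, ← add3, addself f.cF, x30]
    have h3 := z3' _ h2
    have h4 : (1 + c) * (1 + c) = 0 := by linear_combination h3 + c * tw
    have h5 := mul_self_eq_zero.1 h4
    linear_combination h5 - tw
  refine ⟨na, nb, x1, x2, x3, x4, x5, x6, ?_⟩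
  exact
    { w2 := hw
      add1 := add1
      add2 := add2
      add3 := add3
      add4 := add4
      add5 := add5
      add6 := add6
      p1 := p1
      p2 := p2
      p3 := p3
      p4 := p4
      p5 := p5
      p6 := p6
      q1 := q1
      q2 := q2
      q3 := q3
      q4 := q4
      q5 := q5
      q6 := q6
      naX := naX
      nbX := nbX
      na2 := na2
      nb2 := nb2
      nah₁ := nah₁
      nah₂ := nah₂
      nbh₁ := nbh₁
      nbh₂ := nbh₂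
      nbR := hnbR
      a2 := fun a => rfl
      a3 := fun a => sq_conj_conj na2 _
      a4 := a4
      b1 := fun a => rfl
      b2 := fun a => sq_conj_conj nb2 _
      b3 := fun a => by rw [hb3', hcc, one_mul]
      ra := ra
      rb := rb
      m1 := x1Y
      m2 := x2V
      m3 := x3D
      m4 := x4R
      m5 := x5W
      m5' := x5Y
      m6 := fun a => yW _ (x4R a)
      z1 := x1z
      z2 := z2
      z3 := z3
      z4 := z4
      z5 := z5
      z6 := z6 }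

end FT

/-- **the root groups of the pair of type `G₂(4)`** -/
theorem Four.exists_rts {F : Type*} [Field F] {G : Type*} [Group G] [Finite G]
    {X₁ X₂ U V R W Y D : Subgroup G} {h₁ h₂ : G} (f : Four F X₁ X₂ U V R W Y D h₁ h₂) :
    ∃ (h : G) (w : F) (na nb : G) (x1 x2 x3 x4 x5 x6 : F → G), (h = h₁ ∨ h = h₁⁻¹) ∧
      Four F X₁ X₂ U V R W Y D h h₂ ∧ Rts X₁ X₂ V R W Y D h h₂ na nb w x1 x2 x3 x4 x5 x6 := by
  obtain ⟨w₁, ρ₁, c₁⟩ := f.exists_c₁
  obtain ⟨w₂, ρ₂, c₂⟩ := f.exists_c₂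
  obtain ⟨h, hh, f', hρ⟩ := f.exists_sign c₁ c₂
  obtain ⟨w₁', ρ₁', c₁'⟩ := f'.exists_c₁
  have key : ∃ ρ : G → SL(2, F), Ch X₁ Y U h w₂ ρ := by
    have h1 : (w₂ - w₁') * (w₂ - w₁' ^ 2) = 0 := by
      linear_combination c₂.w2 - w₂ * c₁'.w2 + (w₁' - 1) * c₁'.w2
    rcases mul_eq_zero.1 h1 with h2 | h2
    · rw [sub_eq_zero.1 h2]
      exact ⟨ρ₁', c₁'⟩
    · rw [sub_eq_zero.1 h2]
      exact c₁'.exists_twist
  obtain ⟨ρ, c⟩ := key
  have T : FT F X₁ X₂ U V R W Y D h h₂ w₂ w₂ ρ ρ₂ (h * h₂⁻¹) := ⟨f', c, c₂, rfl, hρ⟩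
  obtain ⟨na, nb, x1, x2, x3, x4, x5, x6, hr⟩ := T.exists_rts
  exact ⟨h, w₂, na, nb, x1, x2, x3, x4, x5, x6, hh, f', hr⟩

end Cfsg.Agent.Omega.GTwoFour.Id

end

section


/-!
# From the product law `mu` to `HexRec.Coord`
-/

set_option autoImplicit false

namespace Cfsg.Agent.Omega.GTwoFour.ToCoord

open Cfsg.Agent.HexRec Subgroup Cfsg.Agent.Hex.Defs

universe u v w

/-- the product law of `OfPair.cubic` for `K = F` is `mu` -/
theorem mul_eq {F : Type v} [Field F] (h2 : (2 : F) = 0) (a b : Tup F F) :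
    (OfPair.cubic (OfPair.pair_one h2 : CubicPair (AlgEquiv.refl : F ≃ₐ[F] F))).mul a b = mu a b := by
  set C := OfPair.cubic (OfPair.pair_one h2 : CubicPair (AlgEquiv.refl : F ≃ₐ[F] F)) with hC
  have hT : ∀ a b, C.T a b = a * b := by
    intro a b
    rw [hC, OfPair.cubic_T]
    have := algebraMap_tr (OfPair.pair_one h2 : CubicPair (AlgEquiv.refl : F ≃ₐ[F] F)) (a * b)
    rw [Algebra.algebraMap_self, RingHom.id_apply] at this
    rw [this]
    change a * b + a * b + a * b = a * b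
    linear_combination a * b * h2
  have hs : ∀ a, C.sh a = a ^ 2 := by
    intro a
    rw [hC, OfPair.cubic_sh]
    change a * a = a ^ 2
    ring
  have hN : ∀ a, C.N a = a ^ 3 := by
    intro a
    have := C.N_map a
    rw [Algebra.algebraMap_self, RingHom.id_apply, hs] at this
    rw [this]; ring
  have hcr : ∀ a b, C.cr a b = 0 := by
    intro a b
    unfold Cubic.cr
    rw [hs, hs, hs]
    linear_combination (a ^ 2 + b ^ 2 + a * b) * h2
  ext <;> simp only [Cubic.mul, mu, hT, hs, hN, hcr, smul_eq_mul, add_zero]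

/-- change of the field -/
def tr {F : Type v} {F₀ : Type w} [Field F] [Field F₀] (σ : F₀ →+* F) (a : Tup F₀ F₀) : Tup F F :=
  ⟨σ a.a1, σ a.a2, σ a.a3, σ a.a4, σ a.a5, σ a.a6⟩

theorem tr_mu {F : Type v} {F₀ : Type w} [Field F] [Field F₀] (σ : F₀ →+* F) (a b : Tup F₀ F₀) :
    tr σ (mu a b) = mu (tr σ a) (tr σ b) := by
  ext <;> simp only [tr, mu, map_add, map_mul, map_pow]

theorem tr_bij {F : Type v} {F₀ : Type w} [Field F] [Field F₀] (σ : F₀ ≃+* F) :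
    Function.Bijective (tr (σ : F₀ →+* F)) := by
  constructor
  · intro a b hab
    ext
    · exact σ.injective (congrArg Tup.a1 hab)
    · exact σ.injective (congrArg Tup.a2 hab)
    · exact σ.injective (congrArg Tup.a3 hab)
    · exact σ.injective (congrArg Tup.a4 hab)
    · exact σ.injective (congrArg Tup.a5 hab)
    · exact σ.injective (congrArg Tup.a6 hab)
  · intro a
    refine ⟨⟨σ.symm a.a1, σ.symm a.a2, σ.symm a.a3, σ.symm a.a4, σ.symm a.a5, σ.symm a.a6⟩, ?_⟩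
    ext <;> exact σ.apply_symm_apply _

/-- `mu` in coordinates gives `Coord` -/
theorem coord_of {F : Type v} [Field F] (h2 : (2 : F) = 0) {S : Type u} [Group S] {Z : Tup F F → S}
    (hZ : Function.Bijective Z) (hmul : ∀ a b, Z a * Z b = Z (mu a b)) :
    Nonempty (Coord (OfPair.cubic (OfPair.pair_one h2 : CubicPair (AlgEquiv.refl : F ≃ₐ[F] F))) S) := by
  obtain ⟨e, he⟩ : ∃ e : Tup F F ≃ S, ∀ a, e a = Z a := ⟨Equiv.ofBijective Z hZ, fun a => rfl⟩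
  have key : ∀ g h : S, e.symm (g * h) = mu (e.symm g) (e.symm h) := by
    intro g h
    rw [Equiv.symm_apply_eq, he, ← hmul, ← he, ← he, e.apply_symm_apply, e.apply_symm_apply]
  exact ⟨{ e := e.symm, map_mul := fun g h => (key g h).trans (mul_eq h2 _ _).symm }⟩

/-- coordinates in `Type` -/
theorem exists_coord {F : Type v} [Field F] (hF : Nat.card F = 4) {G : Type u} [Group G] {X : Tup F F → G}
    (hinj : Function.Injective X) (hmul : ∀ a b, X a * X b = X (mu a b)) {S : Subgroup G}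
    (hS : ∀ g, g ∈ S ↔ ∃ a, X a = g) {F₀ : Type} [Field F₀] [Fintype F₀] (h0 : Fintype.card F₀ = 4)
    (h2 : (2 : F₀) = 0) :
    Nonempty (Coord (OfPair.cubic (OfPair.pair_one h2 : CubicPair (AlgEquiv.refl : F₀ ≃ₐ[F₀] F₀))) S) := by
  have : Finite F := fin hF
  have := Fintype.ofFinite F
  obtain ⟨σ⟩ : Nonempty (F₀ ≃+* F) :=
    ⟨FiniteField.ringEquivOfCardEq (by rw [h0, ← Nat.card_eq_fintype_card, hF])⟩
  have hb := tr_bij σ
  have hmem : ∀ a : Tup F₀ F₀, X (tr (σ : F₀ →+* F) a) ∈ S := fun a => (hS _).mpr ⟨_, rfl⟩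
  have hZ : Function.Bijective (fun a : Tup F₀ F₀ => (⟨X (tr (σ : F₀ →+* F) a), hmem a⟩ : S)) := by
    constructor
    · intro a b hab
      exact hb.1 (hinj (congrArg Subtype.val hab))
    · rintro ⟨g, hg⟩
      obtain ⟨a, rfl⟩ := (hS g).mp hg
      obtain ⟨b, rfl⟩ := hb.2 a
      exact ⟨b, rfl⟩
  refine coord_of h2 hZ fun a b => Subtype.ext ?_
  change X (tr (σ : F₀ →+* F) a) * X (tr (σ : F₀ →+* F) b) = X (tr (σ : F₀ →+* F) (mu a b))
  rw [hmul, tr_mu]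

end Cfsg.Agent.Omega.GTwoFour.ToCoord

end

section


/-!
# From the root groups to `Pos24`

`Four` and `Rts` give `RD` (all structure constants are `1`), hence the coordinates `Pos24`.
-/

set_option autoImplicit false
set_option linter.unusedSectionVars false

namespace Cfsg.Agent.Omega.GTwoFour.Id

open Subgroup Cfsg.Agent.HexRec Cfsg.Agent.HexRec.OfHexRel Cfsg.Agent.Omega.GTwoFour
open scoped MatrixGroups

variable {F : Type*} [Field F] {G : Type*} [Group G]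

/-! ### powers of an element of order three indexed by `F*` -/

open Classical in
/-- `g ^ k` for `c = w ^ k` -/
noncomputable def pw (w : F) (g : G) (c : F) : G := if c = 1 then 1 else if c = w then g else g⁻¹

section pw

variable (hF : Nat.card F = 4) {w : F} (hw : w ^ 2 + w + 1 = 0) {g : G} {y : F → G}

theorem el3 (hF : Nat.card F = 4) {w : F} (hw : w ^ 2 + w + 1 = 0) {c : F} (hc : c ≠ 0) :
    c = 1 ∨ (c ≠ 1 ∧ c = w) ∨ (c ≠ 1 ∧ c ≠ w ∧ c = w ^ 2) := by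
  have h3 := cube hF hc
  have hw3 : w ^ 3 = 1 := by linear_combination (w - 1) * hw
  have h4 : (c - 1) * ((c - w) * (c - w ^ 2)) = 0 := by
    linear_combination h3 - (c ^ 2 - c) * hw + (c - 1) * hw3
  by_cases h1 : c = 1
  · exact Or.inl h1
  right
  by_cases h2 : c = w
  · exact Or.inl ⟨h1, h2⟩
  · right
    refine ⟨h1, h2, ?_⟩
    rcases mul_eq_zero.mp h4 with h5 | h5
    · exact absurd (sub_eq_zero.mp h5) h1
    · rcases mul_eq_zero.mp h5 with h6 | h6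
      · exact absurd (sub_eq_zero.mp h6) h2
      · exact sub_eq_zero.mp h6

theorem inv_act {g : G} {y : F → G} {k k' : F} (hk : k * k' = 1) (hy : ∀ a, g * y a * g⁻¹ = y (k * a)) (a : F) :
    g⁻¹ * y a * g = y (k' * a) := by
  have h1 := hy (k' * a)
  rw [← mul_assoc, hk, one_mul] at h1
  rw [← h1]; group

include hF hw

theorem pw_zero (hy : ∀ a, g * y a * g⁻¹ = y a) {c : F} (hc : c ≠ 0) (a : F) :
    pw w g c * y a = y a * pw w g c := by
  have hy' : ∀ a, g⁻¹ * y a * g = y a := fun a => by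
    have := inv_act (g := g) (y := y) (k := (1 : F)) (k' := 1) (one_mul 1)
      (fun a => by rw [one_mul]; exact hy a) a
    rwa [one_mul] at this
  rcases el3 hF hw hc with h | ⟨h1, h⟩ | ⟨h1, h2, h⟩
  · rw [pw, if_pos h]; group
  · rw [pw, if_neg h1, if_pos h]
    exact mul_inv_eq_iff_eq_mul.mp (hy a)
  · rw [pw, if_neg h1, if_neg h2]
    conv_rhs => rw [← hy' a]
    group

theorem pw_zero' (hy : ∀ a, g * y a * g⁻¹ = y a) {c : F} (hc : c ≠ 0) (a : F) :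
    pw w g c * y a = y (1 * a) * pw w g c := by
  rw [one_mul]
  exact pw_zero hF hw hy hc a

theorem pw_one (hy : ∀ a, g * y a * g⁻¹ = y (w * a)) {c : F} (hc : c ≠ 0) (a : F) :
    pw w g c * y a = y (c * a) * pw w g c := by
  have hw3 : w ^ 3 = 1 := by linear_combination (w - 1) * hw
  rcases el3 hF hw hc with h | ⟨h1, h⟩ | ⟨h1, h2, h⟩
  · rw [pw, if_pos h, h, one_mul]; group
  · rw [pw, if_neg h1, if_pos h, h]
    exact mul_inv_eq_iff_eq_mul.mp (hy a)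
  · rw [pw, if_neg h1, if_neg h2, h]
    rw [← inv_act (k' := w ^ 2) (by rw [← hw3]; ring) hy a]
    group

theorem pw_two (hy : ∀ a, g * y a * g⁻¹ = y (w ^ 2 * a)) {c : F} (hc : c ≠ 0) (a : F) :
    pw w g c * y a = y (c⁻¹ * a) * pw w g c := by
  have hw3 : w ^ 3 = 1 := by linear_combination (w - 1) * hw
  have hw0 : w ≠ 0 := by rintro rfl; simp at hw
  rcases el3 hF hw hc with h | ⟨h1, h⟩ | ⟨h1, h2, h⟩
  · rw [pw, if_pos h, h, inv_one, one_mul]; group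
  · rw [pw, if_neg h1, if_pos h, h]
    have : w⁻¹ = w ^ 2 := inv_eq_of_mul_eq_one_right (by rw [← hw3]; ring)
    rw [this]
    exact mul_inv_eq_iff_eq_mul.mp (hy a)
  · rw [pw, if_neg h1, if_neg h2, h]
    have : (w ^ 2)⁻¹ = w := inv_eq_of_mul_eq_one_right (by rw [← hw3]; ring)
    rw [this, ← inv_act (k' := w) (by rw [← hw3]; ring) hy a]
    group

omit hF hw in
theorem pw_mem {w : F} {g : G} {K : Subgroup G} (hg : g ∈ K) (c : F) : pw w g c ∈ K := by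
  unfold pw
  split_ifs
  · exact K.one_mem
  · exact hg
  · exact K.inv_mem hg

end pw

variable [Finite G] {X₁ X₂ U V R W Y D : Subgroup G} {h₁ h₂ na nb : G} {w : F} {x1 x2 x3 x4 x5 x6 : F → G}

namespace Rts

variable (r : Rts X₁ X₂ V R W Y D h₁ h₂ na nb w x1 x2 x3 x4 x5 x6)
  (f : Four F X₁ X₂ U V R W Y D h₁ h₂)

section basic
include r

theorem e1 : x1 0 = 1 := left_eq_mul.1 (by rw [← r.add1, add_zero] : x1 0 = x1 0 * x1 0)
theorem e2 : x2 0 = 1 := left_eq_mul.1 (by rw [← r.add2, add_zero] : x2 0 = x2 0 * x2 0)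
theorem e3 : x3 0 = 1 := left_eq_mul.1 (by rw [← r.add3, add_zero] : x3 0 = x3 0 * x3 0)
theorem e4 : x4 0 = 1 := left_eq_mul.1 (by rw [← r.add4, add_zero] : x4 0 = x4 0 * x4 0)
theorem e5 : x5 0 = 1 := left_eq_mul.1 (by rw [← r.add5, add_zero] : x5 0 = x5 0 * x5 0)
theorem e6 : x6 0 = 1 := left_eq_mul.1 (by rw [← r.add6, add_zero] : x6 0 = x6 0 * x6 0)

theorem na_inv : na⁻¹ = na := inv_eq_of_mul_eq_one_right r.na2
theorem nb_inv : nb⁻¹ = nb := inv_eq_of_mul_eq_one_right r.nb2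

theorem a6 (a : F) : na * x6 a * na = x2 a := by
  rw [← r.a2 a]
  calc na * (na * x2 a * na) * na = (na * na) * x2 a * (na * na) := by group
    _ = x2 a := by rw [r.na2]; group
theorem a5 (a : F) : na * x5 a * na = x3 a := by
  rw [← r.a3 a]
  calc na * (na * x3 a * na) * na = (na * na) * x3 a * (na * na) := by group
    _ = x3 a := by rw [r.na2]; group
theorem b5 (a : F) : nb * x5 a * nb = x1 a := by
  rw [← r.b1 a]
  calc nb * (nb * x1 a * nb) * nb = (nb * nb) * x1 a * (nb * nb) := by group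
    _ = x1 a := by rw [r.nb2]; group
theorem b4 (a : F) : nb * x4 a * nb = x2 a := by
  rw [← r.b2 a]
  calc nb * (nb * x2 a * nb) * nb = (nb * nb) * x2 a * (nb * nb) := by group
    _ = x2 a := by rw [r.nb2]; group

end basic

section both
include r f

theorem m3Y (a : F) : x3 a ∈ Y := f.DY (r.m3 a)
theorem m2Y (a : F) : x2 a ∈ Y := f.VY (r.m2 a)
theorem m4V (a : F) : x4 a ∈ V := f.RV (r.m4 a)
theorem m4Y (a : F) : x4 a ∈ Y := f.VY (r.m4V f a)
theorem m2D (a : F) : x2 a ∈ D := f.VD (r.m2 a)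
theorem m4D (a : F) : x4 a ∈ D := f.VD (r.m4V f a)
theorem m2W (a : F) : x2 a ∈ W := f.VW (r.m2 a)
theorem m3W (a : F) : x3 a ∈ W := f.DW (r.m3 a)
theorem m4W (a : F) : x4 a ∈ W := f.VW (r.m4V f a)

theorem r21 (t a : F) : x2 t * x1 a = x1 a * x2 t := (f.YV _ (r.m1 a) _ (r.m2 t)).symm
theorem r41 (t a : F) : x4 t * x1 a = x1 a * x4 t := (f.YV _ (r.m1 a) _ (r.m4V f t)).symm
theorem r32 (b t : F) : x3 b * x2 t = x2 t * x3 b := f.YV _ (r.m3Y f b) _ (r.m2 t)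
theorem r42 (b t : F) : x4 b * x2 t = x2 t * x4 b := f.YV _ (r.m4Y f b) _ (r.m2 t)
theorem r52 (b t : F) : x5 b * x2 t = x2 t * x5 b := f.YV _ (r.m5' b) _ (r.m2 t)
theorem r43 (b t : F) : x4 b * x3 t = x3 t * x4 b := (f.YV _ (r.m3Y f t) _ (r.m4V f b)).symm
theorem r54 (b t : F) : x5 b * x4 t = x4 t * x5 b := f.YV _ (r.m5' b) _ (r.m4V f t)
theorem r64 (b t : F) : x6 b * x4 t = x4 t * x6 b :=
  f.cR _ (f.UX₂ (f.WU (r.m6 b))) _ (r.m4 t)
theorem r63 (b t : F) : x6 b * x3 t = x3 t * x6 b := by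
  rw [← r.a2 b, ← r.a5 t]
  have h := r.r52 f t b
  calc na * x2 b * na * (na * x5 t * na) = na * x2 b * (na * na) * x5 t * na := by group
    _ = na * (x2 b * x5 t) * na := by rw [r.na2]; group
    _ = na * (x5 t * x2 b) * na := by rw [h]
    _ = na * x5 t * (na * na) * x2 b * na := by rw [r.na2]; group
    _ = _ := by group
theorem r65 (b t : F) : x6 b * x5 t = x5 t * x6 b := by
  rw [← r.a2 b, ← r.a3 t]
  have h := r.r32 f t b
  calc na * x2 b * na * (na * x3 t * na) = na * x2 b * (na * na) * x3 t * na := by group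
    _ = na * (x2 b * x3 t) * na := by rw [r.na2]; group
    _ = na * (x3 t * x2 b) * na := by rw [h]
    _ = na * x3 t * (na * na) * x2 b * na := by rw [r.na2]; group
    _ = _ := by group

/-! ### the layers -/

end both

end Rts

theorem add_inv (hF : Nat.card F = 4) {y : F → G} (hadd : ∀ s t, y (s + t) = y s * y t) (b : F) :
    (y b)⁻¹ = y b := by
  apply inv_eq_of_mul_eq_one_right
  rw [← hadd, addself hF]
  exact left_eq_mul.1 (by rw [← hadd, add_zero] : y 0 = y 0 * y 0)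

theorem eq_of_r (hF : Nat.card F = 4) {y : F → G} (hadd : ∀ s t, y (s + t) = y s * y t) {K : Subgroup G}
    (z : ∀ a, y a ∈ K → a = 0) {a b : F} (h : y a * (y b)⁻¹ ∈ K) : a = b := by
  rw [add_inv hF hadd, ← hadd] at h
  exact eqadd hF (z _ h)

theorem eq_of_l (hF : Nat.card F = 4) {y : F → G} (hadd : ∀ s t, y (s + t) = y s * y t) {K : Subgroup G}
    (z : ∀ a, y a ∈ K → a = 0) {a b : F} (h : (y b)⁻¹ * y a ∈ K) : a = b := by
  rw [add_inv hF hadd, ← hadd] at h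
  exact (eqadd hF (z _ h)).symm

theorem surj_of {α : Type*} {K : Subgroup G} [Finite K] {e : α → G} (he : ∀ a, e a ∈ K)
    (hi : Function.Injective e) (hc : Nat.card K ≤ Nat.card α) {g : G} (hg : g ∈ K) : ∃ a, e a = g := by
  have h1 : Function.Injective (fun a => (⟨e a, he a⟩ : K)) := fun a b hab => hi (congrArg Subtype.val hab)
  have h2 := (h1.bijective_of_nat_card_le hc).2 ⟨g, hg⟩
  obtain ⟨a, ha⟩ := h2
  exact ⟨a, congrArg Subtype.val ha⟩

namespace Rts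

variable (r : Rts X₁ X₂ V R W Y D h₁ h₂ na nb w x1 x2 x3 x4 x5 x6)
  (f : Four F X₁ X₂ U V R W Y D h₁ h₂)

section both
include r f

theorem pm_inj : Function.Injective (PosRel.pm x1 x2 x3 x4 x5 x6) := by
  intro a b hab
  unfold PosRel.pm at hab
  have k1 : ∀ a b : F, (x1 b)⁻¹ * x1 a ∈ W → a = b := fun a b => eq_of_l f.cF r.add1 r.z1
  have k2 : ∀ a b : F, (x2 b)⁻¹ * x2 a ∈ R → a = b := fun a b => eq_of_l f.cF r.add2 r.z2
  have k3 : ∀ a b : F, (x3 b)⁻¹ * x3 a ∈ V → a = b := fun a b => eq_of_l f.cF r.add3 r.z3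
  have k4 : ∀ a b : F, (x4 b)⁻¹ * x4 a ∈ (⊥ : Subgroup G) → a = b := fun a b =>
    eq_of_l f.cF r.add4 (fun a ha => r.z4 a (mem_bot.1 ha))
  have k5 : ∀ a b : F, x5 a * (x5 b)⁻¹ ∈ D → a = b := fun a b => eq_of_r f.cF r.add5 r.z5
  have k6 : ∀ a b : F, x6 a * (x6 b)⁻¹ ∈ Y → a = b := fun a b => eq_of_r f.cF r.add6 r.z6
  have e1 : a.a1 = b.a1 := by
    apply k1
    have h1 : ∀ c : Tup F F, x2 c.a2 * (x3 c.a3 * (x4 c.a4 * (x5 c.a5 * x6 c.a6))) ∈ W := fun c =>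
      W.mul_mem (r.m2W f _) (W.mul_mem (r.m3W f _) (W.mul_mem (r.m4W f _) (W.mul_mem (r.m5 _) (r.m6 _))))
    have h2 := W.mul_mem (h1 b) (W.inv_mem (h1 a))
    convert h2 using 1
    rw [inv_mul_eq_iff_eq_mul, ← mul_assoc, ← hab, mul_inv_cancel_right]
  rw [e1] at hab
  have hab := mul_left_cancel hab
  have e6 : a.a6 = b.a6 := by
    apply k6
    have h1 : ∀ c : Tup F F, x2 c.a2 * (x3 c.a3 * (x4 c.a4 * x5 c.a5)) ∈ Y := fun c =>
      Y.mul_mem (r.m2Y f _) (Y.mul_mem (r.m3Y f _) (Y.mul_mem (r.m4Y f _) (r.m5' _)))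
    have h2 := Y.mul_mem (Y.inv_mem (h1 a)) (h1 b)
    convert h2 using 1
    rw [mul_inv_eq_iff_eq_mul, mul_assoc, eq_inv_mul_iff_mul_eq]
    simp only [mul_assoc]
    exact hab
  rw [e6] at hab
  simp only [← mul_assoc] at hab
  have hab := mul_right_cancel hab
  have e5 : a.a5 = b.a5 := by
    apply k5
    have h1 : ∀ c : Tup F F, x2 c.a2 * x3 c.a3 * x4 c.a4 ∈ D := fun c =>
      D.mul_mem (D.mul_mem (r.m2D f _) (r.m3 _)) (r.m4D f _)
    have h2 := D.mul_mem (D.inv_mem (h1 a)) (h1 b)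
    convert h2 using 1
    rw [mul_inv_eq_iff_eq_mul, mul_assoc, eq_inv_mul_iff_mul_eq]
    exact hab
  rw [e5] at hab
  have hab := mul_right_cancel hab
  have e3 : a.a3 = b.a3 := by
    apply k3
    have h1 : ∀ c : Tup F F, x2 c.a2 * x4 c.a4 ∈ V := fun c => V.mul_mem (r.m2 _) (r.m4V f _)
    have h2 := V.mul_mem (h1 b) (V.inv_mem (h1 a))
    convert h2 using 1
    rw [inv_mul_eq_iff_eq_mul, ← mul_assoc, eq_mul_inv_iff_mul_eq, ← mul_assoc, ← mul_assoc, r.r32 f, r.r32 f]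
    exact hab
  rw [e3] at hab
  have e2 : a.a2 = b.a2 := by
    apply k2
    have h2 := R.mul_mem (r.m4 b.a4) (R.inv_mem (r.m4 a.a4))
    convert h2 using 1
    rw [inv_mul_eq_iff_eq_mul, ← mul_assoc, eq_mul_inv_iff_mul_eq]
    apply mul_left_cancel (a := x3 b.a3)
    rw [← mul_assoc, ← mul_assoc, r.r32 f, r.r32 f]
    exact hab
  rw [e2] at hab
  have hab := mul_left_cancel hab
  have e4 : a.a4 = b.a4 := by
    apply k4
    rw [hab, inv_mul_cancel]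
    exact mem_bot.2 rfl
  exact Tup.ext e1 e2 e3 e4 e5 e6

/-- `R = x4 F` -/
theorem R_eq {g : G} (hg : g ∈ R) : ∃ u, x4 u = g := by
  refine surj_of r.m4 (fun a b hab => ?_) (by rw [f.kR, f.cF]) hg
  have h1 : x4 a * (x4 b)⁻¹ ∈ (⊥ : Subgroup G) := by rw [hab, mul_inv_cancel]; exact mem_bot.2 rfl
  exact eq_of_r f.cF r.add4 (fun a ha => r.z4 a (mem_bot.1 ha)) h1

theorem D_eq {g : G} (hg : g ∈ D) : ∃ u v w, g = x2 u * (x3 v * x4 w) := by
  obtain ⟨a, ha⟩ := surj_of (α := F × F × F) (K := D) (e := fun p => x2 p.1 * (x3 p.2.1 * x4 p.2.2))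
    (fun p => D.mul_mem (r.m2D f _) (D.mul_mem (r.m3 _) (r.m4D f _))) (fun p q hpq => by
      have h1 : (⟨0, p.1, p.2.1, p.2.2, 0, 0⟩ : Tup F F) = ⟨0, q.1, q.2.1, q.2.2, 0, 0⟩ :=
        r.pm_inj f (by
          simp only [PosRel.pm, r.e1, r.e5, r.e6, one_mul, mul_one]
          exact hpq)
      simp only [Tup.mk.injEq, true_and, and_true] at h1
      exact Prod.ext h1.1 (Prod.ext h1.2.1 h1.2.2)) (by
      rw [f.kD]; simp only [Nat.card_prod, f.cF]; norm_num) hg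
  exact ⟨a.1, a.2.1, a.2.2, ha.symm⟩

theorem WY_eq {g : G} (hW : g ∈ W) (hY : g ∈ Y) : ∃ u v w y, g = x2 u * (x3 v * (x4 w * x5 y)) := by
  obtain ⟨a, ha⟩ := surj_of (α := F × F × F × F) (K := W ⊓ Y)
    (e := fun p => x2 p.1 * (x3 p.2.1 * (x4 p.2.2.1 * x5 p.2.2.2)))
    (fun p => ⟨W.mul_mem (r.m2W f _) (W.mul_mem (r.m3W f _) (W.mul_mem (r.m4W f _) (r.m5 _))),
      Y.mul_mem (r.m2Y f _) (Y.mul_mem (r.m3Y f _) (Y.mul_mem (r.m4Y f _) (r.m5' _)))⟩) (fun p q hpq => by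
      have h1 : (⟨0, p.1, p.2.1, p.2.2.1, p.2.2.2, 0⟩ : Tup F F) = ⟨0, q.1, q.2.1, q.2.2.1, q.2.2.2, 0⟩ :=
        r.pm_inj f (by
          simp only [PosRel.pm, r.e1, r.e6, one_mul, mul_one]
          exact hpq)
      simp only [Tup.mk.injEq, true_and, and_true] at h1
      exact Prod.ext h1.1 (Prod.ext h1.2.1 (Prod.ext h1.2.2.1 h1.2.2.2))) (by
      rw [f.kWY]; simp only [Nat.card_prod, f.cF]; norm_num) ⟨hW, hY⟩
  exact ⟨a.1, a.2.1, a.2.2.1, a.2.2.2, ha.symm⟩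

/-! ### normality -/

omit r in
theorem nY {x : G} (hx : x ∈ X₁) {y : G} (hy : y ∈ Y) : x * y * x⁻¹ ∈ Y := by
  obtain ⟨π, -, hk⟩ := f.sl₁
  have hyX := f.UX₁ (f.YU hy)
  have h1 := (hk ⟨y, hyX⟩).2 hy
  refine (hk ⟨x * y * x⁻¹, X₁.mul_mem (X₁.mul_mem hx hyX) (X₁.inv_mem hx)⟩).1 ?_
  have h2 : (⟨x * y * x⁻¹, X₁.mul_mem (X₁.mul_mem hx hyX) (X₁.inv_mem hx)⟩ : X₁) =
    ⟨x, hx⟩ * ⟨y, hyX⟩ * ⟨x, hx⟩⁻¹ := rfl
  rw [h2, map_mul, map_mul, map_inv, h1, mul_one, mul_inv_cancel]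

omit r in
theorem nW {x : G} (hx : x ∈ X₂) {y : G} (hy : y ∈ W) : x * y * x⁻¹ ∈ W := by
  obtain ⟨π, -, hk⟩ := f.sl₂
  have hyX := f.UX₂ (f.WU hy)
  have h1 := (hk ⟨y, hyX⟩).2 hy
  refine (hk ⟨x * y * x⁻¹, X₂.mul_mem (X₂.mul_mem hx hyX) (X₂.inv_mem hx)⟩).1 ?_
  have h2 : (⟨x * y * x⁻¹, X₂.mul_mem (X₂.mul_mem hx hyX) (X₂.inv_mem hx)⟩ : X₂) =
    ⟨x, hx⟩ * ⟨y, hyX⟩ * ⟨x, hx⟩⁻¹ := rfl
  rw [h2, map_mul, map_mul, map_inv, h1, mul_one, mul_inv_cancel]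

/-! ### the commutators -/

theorem c53 (a b : F) : ∃ u, x5 a * x3 b = x3 b * (x4 u * x5 a) := by
  obtain ⟨u, hu⟩ := r.R_eq f (f.WW _ (W.inv_mem (r.m3W f b)) _ (r.m5 a))
  refine ⟨u, ?_⟩
  rw [hu]; group

theorem c35 (a b : F) : ∃ u, x3 a * x5 b = x5 b * (x4 u * x3 a) := by
  obtain ⟨u, hu⟩ := r.R_eq f (f.WW _ (W.inv_mem (r.m5 b)) _ (r.m3W f a))
  refine ⟨u, ?_⟩
  rw [hu]; group

theorem c31 (a b : F) : ∃ u, x3 a * x1 b = x1 b * (x2 u * x3 a) := by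
  obtain ⟨u, hu⟩ := r.c35 f a b
  refine ⟨u, ?_⟩
  rw [← r.b3 a, ← r.b5 b, ← r.b4 u]
  calc nb * x3 a * nb * (nb * x5 b * nb) = nb * x3 a * (nb * nb) * x5 b * nb := by group
    _ = nb * (x3 a * x5 b) * nb := by rw [r.nb2]; group
    _ = nb * (x5 b * (x4 u * x3 a)) * nb := by rw [hu]
    _ = nb * (x5 b * 1 * x4 u * 1 * x3 a) * nb := by group
    _ = nb * (x5 b * (nb * nb) * x4 u * (nb * nb) * x3 a) * nb := by rw [r.nb2]
    _ = _ := by group

theorem c62 (a b : F) : ∃ u, x6 a * x2 b = x2 b * (x4 u * x6 a) := by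
  obtain ⟨u, hu⟩ := r.R_eq f (f.WW _ (W.inv_mem (r.m2W f b)) _ (r.m6 a))
  refine ⟨u, ?_⟩
  rw [hu]; group

theorem c61 (a b : F) : ∃ u v w y, x6 a * x1 b = x1 b * (x2 u * (x3 v * (x4 w * (x5 y * x6 a)))) := by
  have h1 : (x1 b)⁻¹ * x6 a * x1 b * (x6 a)⁻¹ ∈ W := by
    have := Rts.nW f (f.UX₂ (f.YU (Y.inv_mem (r.m1 b)))) (r.m6 a)
    rw [inv_inv] at this
    exact W.mul_mem this (W.inv_mem (r.m6 a))
  have h2 : (x1 b)⁻¹ * x6 a * x1 b * (x6 a)⁻¹ ∈ Y := by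
    have := Rts.nY f (f.UX₁ (f.WU (r.m6 a))) (r.m1 b)
    have e : (x1 b)⁻¹ * x6 a * x1 b * (x6 a)⁻¹ = (x1 b)⁻¹ * (x6 a * x1 b * (x6 a)⁻¹) := by group
    rw [e]
    exact Y.mul_mem (Y.inv_mem (r.m1 b)) this
  obtain ⟨u, v, w, y, h⟩ := r.WY_eq f h1 h2
  refine ⟨u, v, w, y, ?_⟩
  have e : x6 a * x1 b = x1 b * ((x1 b)⁻¹ * x6 a * x1 b * (x6 a)⁻¹) * x6 a := by group
  rw [e, h]; group

theorem c51 (a b : F) : ∃ u v w, x5 a * x1 b = x1 b * (x2 u * (x3 v * (x4 w * x5 a))) := by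
  have h1 : (x1 b)⁻¹ * x5 a * x1 b * (x5 a)⁻¹ ∈ W := by
    have := Rts.nW f (f.UX₂ (f.YU (Y.inv_mem (r.m1 b)))) (r.m5 a)
    rw [inv_inv] at this
    exact W.mul_mem this (W.inv_mem (r.m5 a))
  have h2 : nb⁻¹ * ((x1 b)⁻¹ * x5 a * x1 b * (x5 a)⁻¹) * nb ∈ W := by
    have h3 := Rts.nW f (f.UX₂ (f.YU (r.m1 a))) (r.m5 b)
    have e : nb⁻¹ * ((x1 b)⁻¹ * x5 a * x1 b * (x5 a)⁻¹) * nb = (x5 b)⁻¹ * (x1 a * x5 b * (x1 a)⁻¹) := by
      rw [← r.b5 a, ← r.b5 b, r.nb_inv, mul_inv_rev, mul_inv_rev, mul_inv_rev, mul_inv_rev, r.nb_inv]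
      calc nb * (nb * ((x5 b)⁻¹ * nb) * x5 a * (nb * x5 b * nb) * (x5 a)⁻¹) * nb =
          (nb * nb) * (x5 b)⁻¹ * nb * x5 a * nb * x5 b * nb * (x5 a)⁻¹ * nb := by group
        _ = _ := by rw [r.nb2]; group
    rw [e]
    exact W.mul_mem (W.inv_mem (r.m5 b)) h3
  obtain ⟨u, v, w, h⟩ := r.D_eq f (f.D_of nb r.nbX r.nbR _ h1 h2)
  refine ⟨u, v, w, ?_⟩
  have e : x5 a * x1 b = x1 b * ((x1 b)⁻¹ * x5 a * x1 b * (x5 a)⁻¹) * x5 a := by group
  rw [e, h]; group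

/-- the torus -/
noncomputable def tor (w : F) (h₁ h₂ : G) (s t : F) : G := pw w h₂ (s * t⁻¹) * pw w h₁ t

omit r f in
/-- the action of the torus from the actions of the factors -/
theorem tor_act {w : F} {s t : F} {y : F → G} {k l : F}
    (h1 : ∀ a, pw w h₁ t * y a = y (k * a) * pw w h₁ t)
    (h2 : ∀ a, pw w h₂ (s * t⁻¹) * y a = y (l * a) * pw w h₂ (s * t⁻¹)) (a : F) :
    tor w h₁ h₂ s t * y a = y (l * k * a) * tor w h₁ h₂ s t := by
  rw [tor, mul_assoc, h1, ← mul_assoc, h2, mul_assoc, mul_assoc l k a]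

/-- **the root data** -/
theorem rd : RD x1 x2 x3 x4 x5 x6 (tor w h₁ h₂) na nb where
  card := f.cF
  add1 := r.add1
  add2 := r.add2
  add3 := r.add3
  add4 := r.add4
  add5 := r.add5
  add6 := r.add6
  t1 := fun s t hs ht a => by
    have := tor_act (w := w) (y := x1) (h₁ := h₁) (h₂ := h₂) (fun a => pw_one f.cF r.w2 r.q1 ht a)
      (fun a => pw_one f.cF r.w2 r.p1 (mul_ne_zero hs (inv_ne_zero ht)) a) a
    rwa [inv_mul_cancel_right₀ ht] at this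
  t2 := fun s t hs ht a => by
    have := tor_act (w := w) (y := x2) (h₁ := h₁) (h₂ := h₂) (fun a => pw_one f.cF r.w2 r.q2 ht a)
      (fun a => pw_zero' f.cF r.w2 r.p2 (mul_ne_zero hs (inv_ne_zero ht)) a) a
    rwa [one_mul] at this
  t3 := fun s t hs ht a => by
    have := tor_act (w := w) (y := x3) (h₁ := h₁) (h₂ := h₂)
      (fun a => pw_zero' f.cF r.w2 r.q3 ht a)
      (fun a => pw_two f.cF r.w2 r.p3 (mul_ne_zero hs (inv_ne_zero ht)) a) a
    rwa [mul_one, mul_inv, inv_inv] at this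
  t4 := fun s t hs ht a => by
    have := tor_act (w := w) (y := x4) (h₁ := h₁) (h₂ := h₂) (fun a => pw_two f.cF r.w2 r.q4 ht a)
      (fun a => pw_zero' f.cF r.w2 r.p4 (mul_ne_zero hs (inv_ne_zero ht)) a) a
    rwa [one_mul] at this
  t5 := fun s t hs ht a => by
    have := tor_act (w := w) (y := x5) (h₁ := h₁) (h₂ := h₂) (fun a => pw_two f.cF r.w2 r.q5 ht a)
      (fun a => pw_one f.cF r.w2 r.p5 (mul_ne_zero hs (inv_ne_zero ht)) a) a
    have e : s * t⁻¹ * t⁻¹ = s * t := by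
      have h3 := cube f.cF ht
      field_simp
      linear_combination -h3
    rwa [e] at this
  t6 := fun s t hs ht a => by
    have := tor_act (w := w) (y := x6) (h₁ := h₁) (h₂ := h₂) (fun a => pw_one f.cF r.w2 r.q6 ht a)
      (fun a => pw_zero' f.cF r.w2 r.p6 (mul_ne_zero hs (inv_ne_zero ht)) a) a
    rwa [one_mul] at this
  na2 := r.na2
  nb2 := r.nb2
  a2 := r.a2
  a3 := r.a3
  a4 := r.a4
  b1 := r.b1
  b2 := r.b2
  b3 := r.b3
  ra := r.ra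
  rb := r.rb
  r21 := r.r21 f
  r41 := r.r41 f
  r32 := r.r32 f
  r42 := r.r42 f
  r52 := r.r52 f
  r43 := r.r43 f
  r63 := r.r63 f
  r54 := r.r54 f
  r64 := r.r64 f
  r65 := r.r65 f
  e31 := r.c31 f 1 1
  e51 := r.c51 f 1 1
  e61 := r.c61 f 1 1
  e62 := fun a => r.c62 f 1 a
  e53 := r.c53 f 1 1
  inj := r.pm_inj f

theorem X_mul (a b : Tup F F) : PosRel.pm x1 x2 x3 x4 x5 x6 a * PosRel.pm x1 x2 x3 x4 x5 x6 b =
    PosRel.pm x1 x2 x3 x4 x5 x6 (mu a b) := by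
  rw [(r.rd f).posRel.pm_mul a b, ToCoord.mul_eq (two f.cF)]

theorem mem_W' (a : Tup F F) : PosRel.pm x1 x2 x3 x4 x5 x6 a ∈ W ↔ a.a1 = 0 := by
  have h1 : x2 a.a2 * (x3 a.a3 * (x4 a.a4 * (x5 a.a5 * x6 a.a6))) ∈ W :=
    W.mul_mem (r.m2W f _) (W.mul_mem (r.m3W f _) (W.mul_mem (r.m4W f _) (W.mul_mem (r.m5 _) (r.m6 _))))
  unfold PosRel.pm
  rw [W.mul_mem_cancel_right h1]
  exact ⟨r.z1 _, fun h => by rw [h, r.e1]; exact W.one_mem⟩

theorem mem_Y' (a : Tup F F) : PosRel.pm x1 x2 x3 x4 x5 x6 a ∈ Y ↔ a.a6 = 0 := by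
  unfold PosRel.pm
  rw [Y.mul_mem_cancel_left (r.m1 _), Y.mul_mem_cancel_left (r.m2Y f _), Y.mul_mem_cancel_left (r.m3Y f _),
    Y.mul_mem_cancel_left (r.m4Y f _), Y.mul_mem_cancel_left (r.m5' _)]
  exact ⟨r.z6 _, fun h => by rw [h, r.e6]; exact Y.one_mem⟩

theorem mem_D' (a : Tup F F) : PosRel.pm x1 x2 x3 x4 x5 x6 a ∈ D ↔ a.a1 = 0 ∧ a.a5 = 0 ∧ a.a6 = 0 := by
  constructor
  · intro h
    have h1 := (r.mem_W' f a).1 (f.DW h)
    have h6 := (r.mem_Y' f a).1 (f.DY h)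
    refine ⟨h1, ?_, h6⟩
    unfold PosRel.pm at h
    rw [h1, h6, r.e1, r.e6, one_mul, mul_one, D.mul_mem_cancel_left (r.m2D f _),
      D.mul_mem_cancel_left (r.m3 _), D.mul_mem_cancel_left (r.m4D f _)] at h
    exact r.z5 _ h
  · rintro ⟨h1, h5, h6⟩
    unfold PosRel.pm
    rw [h1, h5, h6, r.e1, r.e5, r.e6, one_mul, mul_one, mul_one]
    exact D.mul_mem (r.m2D f _) (D.mul_mem (r.m3 _) (r.m4D f _))

theorem mem_V' (a : Tup F F) : PosRel.pm x1 x2 x3 x4 x5 x6 a ∈ V ↔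
    a.a1 = 0 ∧ a.a3 = 0 ∧ a.a5 = 0 ∧ a.a6 = 0 := by
  constructor
  · intro h
    obtain ⟨h1, h5, h6⟩ := (r.mem_D' f a).1 (f.VD h)
    refine ⟨h1, ?_, h5, h6⟩
    unfold PosRel.pm at h
    rw [h1, h5, h6, r.e1, r.e5, r.e6, one_mul, mul_one, mul_one, V.mul_mem_cancel_left (r.m2 _),
      V.mul_mem_cancel_right (r.m4V f _)] at h
    exact r.z3 _ h
  · rintro ⟨h1, h3, h5, h6⟩
    unfold PosRel.pm
    rw [h1, h3, h5, h6, r.e1, r.e3, r.e5, r.e6, one_mul, mul_one, mul_one, one_mul]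
    exact V.mul_mem (r.m2 _) (r.m4V f _)

theorem mem_R' (a : Tup F F) : PosRel.pm x1 x2 x3 x4 x5 x6 a ∈ R ↔
    a.a1 = 0 ∧ a.a2 = 0 ∧ a.a3 = 0 ∧ a.a5 = 0 ∧ a.a6 = 0 := by
  constructor
  · intro h
    obtain ⟨h1, h3, h5, h6⟩ := (r.mem_V' f a).1 (f.RV h)
    refine ⟨h1, ?_, h3, h5, h6⟩
    unfold PosRel.pm at h
    rw [h1, h3, h5, h6, r.e1, r.e3, r.e5, r.e6, one_mul, mul_one, mul_one, one_mul,
      R.mul_mem_cancel_right (r.m4 _)] at h
    exact r.z2 _ h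
  · rintro ⟨h1, h2, h3, h5, h6⟩
    unfold PosRel.pm
    rw [h1, h2, h3, h5, h6, r.e1, r.e2, r.e3, r.e5, r.e6, one_mul, mul_one, mul_one, one_mul, one_mul]
    exact r.m4 _

theorem mem_U' (g : G) : g ∈ U ↔ ∃ a, PosRel.pm x1 x2 x3 x4 x5 x6 a = g := by
  have hU : ∀ a, PosRel.pm x1 x2 x3 x4 x5 x6 a ∈ U := fun a => by
    unfold PosRel.pm
    exact U.mul_mem (f.YU (r.m1 _)) (f.WU (W.mul_mem (r.m2W f _) (W.mul_mem (r.m3W f _)
      (W.mul_mem (r.m4W f _) (W.mul_mem (r.m5 _) (r.m6 _))))))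
  constructor
  · intro hg
    refine surj_of hU (r.pm_inj f) ?_ hg
    have e2 : Tup F F ≃ F × F × F × F × F × F :=
      { toFun := fun a => (a.a1, a.a2, a.a3, a.a4, a.a5, a.a6)
        invFun := fun p => ⟨p.1, p.2.1, p.2.2.1, p.2.2.2.1, p.2.2.2.2.1, p.2.2.2.2.2⟩
        left_inv := fun a => rfl
        right_inv := fun p => rfl }
    rw [Nat.card_congr e2, f.kU]
    simp only [Nat.card_prod, f.cF]
    norm_num
  · rintro ⟨a, rfl⟩
    exact hU a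

/-! ### the fundamental involutions -/

theorem pm_e1 (t : F) : PosRel.pm x1 x2 x3 x4 x5 x6 (GTwoFour.e1 t) = x1 t := by
  simp only [PosRel.pm, GTwoFour.e1, r.e2, r.e3, r.e4, r.e5, r.e6, mul_one]
theorem pm_e2 (t : F) : PosRel.pm x1 x2 x3 x4 x5 x6 (GTwoFour.e2 t) = x2 t := by
  simp only [PosRel.pm, GTwoFour.e2, r.e1, r.e3, r.e4, r.e5, r.e6, mul_one, one_mul]
theorem pm_e3 (t : F) : PosRel.pm x1 x2 x3 x4 x5 x6 (GTwoFour.e3 t) = x3 t := by
  simp only [PosRel.pm, GTwoFour.e3, r.e1, r.e2, r.e4, r.e5, r.e6, mul_one, one_mul]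
theorem pm_e4 (t : F) : PosRel.pm x1 x2 x3 x4 x5 x6 (GTwoFour.e4 t) = x4 t := by
  simp only [PosRel.pm, GTwoFour.e4, r.e1, r.e2, r.e3, r.e5, r.e6, mul_one, one_mul]
theorem pm_e5 (t : F) : PosRel.pm x1 x2 x3 x4 x5 x6 (GTwoFour.e5 t) = x5 t := by
  simp only [PosRel.pm, GTwoFour.e5, r.e1, r.e2, r.e3, r.e4, r.e6, mul_one, one_mul]
theorem pm_e6 (t : F) : PosRel.pm x1 x2 x3 x4 x5 x6 (GTwoFour.e6 t) = x6 t := by
  simp only [PosRel.pm, GTwoFour.e6, r.e1, r.e2, r.e3, r.e4, r.e5, one_mul]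

theorem nA (a2 a3 a4 a5 a6 : F) : na * PosRel.pm x1 x2 x3 x4 x5 x6 ⟨0, a2, a3, a4, a5, a6⟩ =
    PosRel.pm x1 x2 x3 x4 x5 x6 ⟨0, a6, a5, a4 + a2 * a6 + a3 * a5, a3, a2⟩ * na := by
  have h2 := two f.cF
  have e1 : na * PosRel.pm x1 x2 x3 x4 x5 x6 ⟨0, a2, a3, a4, a5, a6⟩ =
      (na * x2 a2 * na) * (na * x3 a3 * na) * (na * x4 a4 * na) * (na * x5 a5 * na) * (na * x6 a6 * na) * na := by
    simp only [PosRel.pm, r.e1, one_mul]
    calc na * (x2 a2 * (x3 a3 * (x4 a4 * (x5 a5 * x6 a6)))) =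
        na * x2 a2 * 1 * x3 a3 * 1 * x4 a4 * 1 * x5 a5 * 1 * x6 a6 * 1 := by group
      _ = na * x2 a2 * (na * na) * x3 a3 * (na * na) * x4 a4 * (na * na) * x5 a5 * (na * na) * x6 a6 *
          (na * na) := by rw [r.na2]
      _ = _ := by group
  rw [e1, r.a2, r.a3, r.a4, r.a5, r.a6]
  congr 1
  rw [← r.pm_e6 f, ← r.pm_e5 f, ← r.pm_e4 f, ← r.pm_e3 f, ← r.pm_e2 f]
  simp only [r.X_mul f]
  congr 1
  ext <;> simp only [mu, GTwoFour.e2, GTwoFour.e3, GTwoFour.e4, GTwoFour.e5, GTwoFour.e6] <;> grind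

theorem nB (a1 a2 a3 a4 a5 : F) : nb * PosRel.pm x1 x2 x3 x4 x5 x6 ⟨a1, a2, a3, a4, a5, 0⟩ =
    PosRel.pm x1 x2 x3 x4 x5 x6
      ⟨a5, a4 + a3 * a5 + a1 * a5 ^ 2, a3, a2 + a1 * a3 + a1 ^ 2 * a5, a1, 0⟩ * nb := by
  have h2 := two f.cF
  have e1 : nb * PosRel.pm x1 x2 x3 x4 x5 x6 ⟨a1, a2, a3, a4, a5, 0⟩ =
      (nb * x1 a1 * nb) * (nb * x2 a2 * nb) * (nb * x3 a3 * nb) * (nb * x4 a4 * nb) * (nb * x5 a5 * nb) * nb := by
    simp only [PosRel.pm, r.e6, mul_one]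
    calc nb * (x1 a1 * (x2 a2 * (x3 a3 * (x4 a4 * x5 a5)))) =
        nb * x1 a1 * 1 * x2 a2 * 1 * x3 a3 * 1 * x4 a4 * 1 * x5 a5 * 1 := by group
      _ = nb * x1 a1 * (nb * nb) * x2 a2 * (nb * nb) * x3 a3 * (nb * nb) * x4 a4 * (nb * nb) * x5 a5 *
          (nb * nb) := by rw [r.nb2]
      _ = _ := by group
  rw [e1, r.b1, r.b2, r.b3, r.b4, r.b5]
  congr 1
  rw [← r.pm_e5 f, ← r.pm_e4 f, ← r.pm_e3 f, ← r.pm_e2 f, ← r.pm_e1 f]
  simp only [r.X_mul f]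
  congr 1
  ext <;> simp only [mu, GTwoFour.e1, GTwoFour.e2, GTwoFour.e3, GTwoFour.e4, GTwoFour.e5] <;> grind

/-! ### the torus -/

/-- the action of an element from the actions on the root groups -/
theorem act_of {g : G} {l m : F} (g1 : ∀ a, g * x1 a * g⁻¹ = x1 (l * a)) (g2 : ∀ a, g * x2 a * g⁻¹ = x2 (m * a))
    (g3 : ∀ a, g * x3 a * g⁻¹ = x3 (l ^ 2 * m * a)) (g4 : ∀ a, g * x4 a * g⁻¹ = x4 (m ^ 2 * a))
    (g5 : ∀ a, g * x5 a * g⁻¹ = x5 (l * m * a)) (g6 : ∀ a, g * x6 a * g⁻¹ = x6 (m * a)) (a : Tup F F) :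
    g * PosRel.pm x1 x2 x3 x4 x5 x6 a * g⁻¹ = PosRel.pm x1 x2 x3 x4 x5 x6 (dg l m a) := by
  simp only [PosRel.pm, dg]
  rw [← g1, ← g2, ← g3, ← g4, ← g5, ← g6]
  group

/-- the elements acting diagonally -/
def Dg (x1 x2 x3 x4 x5 x6 : F → G) : Subgroup G where
  carrier := {g | ∃ l m : F, l ≠ 0 ∧ m ≠ 0 ∧ ∀ a, g * PosRel.pm x1 x2 x3 x4 x5 x6 a * g⁻¹ =
    PosRel.pm x1 x2 x3 x4 x5 x6 (dg l m a)}
  one_mem' := by
    refine ⟨1, 1, one_ne_zero, one_ne_zero, fun a => ?_⟩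
    have : dg (1 : F) 1 a = a := by ext <;> simp [dg]
    rw [this]; group
  mul_mem' := by
    rintro g h ⟨l, m, hl, hm, hg⟩ ⟨l', m', hl', hm', hh⟩
    refine ⟨l * l', m * m', mul_ne_zero hl hl', mul_ne_zero hm hm', fun a => ?_⟩
    have e : g * h * PosRel.pm x1 x2 x3 x4 x5 x6 a * (g * h)⁻¹ =
      g * (h * PosRel.pm x1 x2 x3 x4 x5 x6 a * h⁻¹) * g⁻¹ := by group
    rw [e, hh, hg]
    congr 1
    ext <;> simp only [dg] <;> ring
  inv_mem' := by
    rintro g ⟨l, m, hl, hm, hg⟩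
    refine ⟨l⁻¹, m⁻¹, inv_ne_zero hl, inv_ne_zero hm, fun a => ?_⟩
    have h1 := hg (dg l⁻¹ m⁻¹ a)
    have e : dg l m (dg l⁻¹ m⁻¹ a) = a := by
      ext <;> simp only [dg] <;> field_simp
    rw [e] at h1
    rw [← h1]; group

theorem h₁_mem : h₁ ∈ Dg x1 x2 x3 x4 x5 x6 := by
  have hw := r.w2
  have hw0 : w ≠ 0 := by rintro rfl; simp at hw
  have hw3 : w ^ 3 = 1 := by linear_combination (w - 1) * hw
  refine ⟨w, w, hw0, hw0, r.act_of f r.q1 r.q2 (fun a => ?_) r.q4 (fun a => ?_) r.q6⟩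
  · rw [r.q3, ← pow_succ, hw3, one_mul]
  · rw [r.q5, pow_two]

theorem h₂_mem : h₂ ∈ Dg x1 x2 x3 x4 x5 x6 := by
  have hw := r.w2
  have hw0 : w ≠ 0 := by rintro rfl; simp at hw
  refine ⟨w, 1, hw0, one_ne_zero, r.act_of f r.p1 (fun a => ?_) (fun a => ?_) (fun a => ?_) (fun a => ?_)
    (fun a => ?_)⟩
  · rw [r.p2, one_mul]
  · rw [r.p3, mul_one]
  · rw [r.p4, one_pow, one_mul]
  · rw [r.p5, mul_one]
  · rw [r.p6, one_mul]

theorem diag' {l m : F} (hl : l ≠ 0) (hm : m ≠ 0) : ∃ h ∈ zpowers h₁ ⊔ zpowers h₂, ∀ a,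
    h * PosRel.pm x1 x2 x3 x4 x5 x6 a * h⁻¹ = PosRel.pm x1 x2 x3 x4 x5 x6 (dg l m a) := by
  have D := r.rd f
  have hl3 := cube f.cF hl
  have hm3 := cube f.cF hm
  refine ⟨tor w h₁ h₂ l m, mul_mem (pw_mem (mem_sup_right (mem_zpowers h₂)) _)
    (pw_mem (mem_sup_left (mem_zpowers h₁)) _), ?_⟩
  have el : l⁻¹ = l ^ 2 := inv_eq_of_mul_eq_one_right (by rw [← hl3]; ring)
  have em : m⁻¹ = m ^ 2 := inv_eq_of_mul_eq_one_right (by rw [← hm3]; ring)
  refine r.act_of f (fun a => ?_) (fun a => ?_) (fun a => ?_) (fun a => ?_) (fun a => ?_) (fun a => ?_)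
  · exact mul_inv_eq_iff_eq_mul.mpr (D.t1 l m hl hm a)
  · exact mul_inv_eq_iff_eq_mul.mpr (D.t2 l m hl hm a)
  · rw [← el]
    exact mul_inv_eq_iff_eq_mul.mpr (D.t3 l m hl hm a)
  · rw [← em]
    exact mul_inv_eq_iff_eq_mul.mpr (D.t4 l m hl hm a)
  · exact mul_inv_eq_iff_eq_mul.mpr (D.t5 l m hl hm a)
  · exact mul_inv_eq_iff_eq_mul.mpr (D.t6 l m hl hm a)

omit r f [Finite G] in
theorem norm_of_invol {j : G} (hj : j * j = 1) {K : Subgroup G} (h : ∀ x ∈ K, j * x * j ∈ K) :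
    j ∈ normalizer (K : Set G) := by
  have hji : j⁻¹ = j := inv_eq_of_mul_eq_one_right hj
  rw [mem_normalizer_iff]
  intro x
  rw [hji]
  refine ⟨h x, fun hx => ?_⟩
  have h1 := h _ hx
  have e : j * (j * x * j) * j = x := by
    calc j * (j * x * j) * j = (j * j) * x * (j * j) := by group
      _ = x := by rw [hj]; group
  rwa [e] at h1

omit r f [Finite G] in
theorem closed_of_gen {j g h : G} (hj : j * j = 1) {K : Subgroup G} (hK : K = zpowers g ⊔ zpowers h)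
    (hg : j * g * j ∈ K) (hh : j * h * j ∈ K) : ∀ x ∈ K, j * x * j ∈ K := by
  have hji : j⁻¹ = j := inv_eq_of_mul_eq_one_right hj
  have h1 : K ≤ K.comap (MulAut.conj j).toMonoidHom := by
    conv_lhs => rw [hK]
    refine sup_le ?_ ?_
    · rw [zpowers_le, mem_comap]
      change j * g * j⁻¹ ∈ K
      rw [hji]; exact hg
    · rw [zpowers_le, mem_comap]
      change j * h * j⁻¹ ∈ K
      rw [hji]; exact hh
  intro x hx
  have h2 := h1 hx
  rw [mem_comap] at h2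
  change j * x * j⁻¹ ∈ K at h2
  rwa [hji] at h2

/-- **the coordinates** -/
theorem pos24 : Pos24 X₁ X₂ (zpowers h₁ ⊔ zpowers h₂) U R V D W Y (PosRel.pm x1 x2 x3 x4 x5 x6) na nb where
  card := f.cF
  inj := r.pm_inj f
  mul := r.X_mul f
  mem_U := r.mem_U' f
  diag := by
    have h1 : zpowers h₁ ⊔ zpowers h₂ ≤ Dg x1 x2 x3 x4 x5 x6 := by
      refine sup_le ?_ ?_
      · rw [zpowers_le]; exact r.h₁_mem f
      · rw [zpowers_le]; exact r.h₂_mem f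
    exact fun h hh => h1 hh
  diag' := fun l m hl hm => r.diag' f hl hm
  ja_mem := r.naX
  jb_mem := r.nbX
  ja_sq := r.na2
  jb_sq := r.nb2
  ja_H := by
    refine norm_of_invol r.na2 (closed_of_gen r.na2 rfl ?_ ?_)
    · rw [r.nah₁]
      exact mul_mem (mem_sup_left (mem_zpowers h₁)) (mem_sup_right (mem_zpowers h₂))
    · rw [r.nah₂]
      exact inv_mem (mem_sup_right (mem_zpowers h₂))
  jb_H := by
    refine norm_of_invol r.nb2 (closed_of_gen r.nb2 rfl ?_ ?_)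
    · rw [r.nbh₁]
      exact inv_mem (mem_sup_left (mem_zpowers h₁))
    · rw [r.nbh₂]
      exact mem_sup_right (mem_zpowers h₂)
  nA := r.nA f
  nB := r.nB f
  mem_R := r.mem_R' f
  mem_V := r.mem_V' f
  mem_D := r.mem_D' f
  mem_W := r.mem_W' f
  mem_Y := r.mem_Y' f

end both

end Rts

end Cfsg.Agent.Omega.GTwoFour.Id

end

section


/-!
# The pair of type `G₂(4)`: calculation in the group
-/

set_option autoImplicit false

namespace Cfsg.Agent.Omega.GTwoFour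

open Cfsg.Agent.HexRec Subgroup

variable {F : Type*} [Field F]

/-- the neutral element -/
def one0 : Tup F F := ⟨0, 0, 0, 0, 0, 0⟩

/-- the inverse -/
def iv (a : Tup F F) : Tup F F where
  a1 := a.a1
  a2 := a.a2 + a.a6 * a.a1 ^ 3 + a.a1 * a.a3 + a.a1 ^ 2 * a.a5
  a3 := a.a3 + a.a6 * a.a1 ^ 2
  a4 := a.a4 + a.a6 ^ 2 * a.a1 ^ 3 + a.a1 * a.a5 ^ 2 +
    a.a6 * (a.a2 + a.a6 * a.a1 ^ 3 + a.a1 * a.a3 + a.a1 ^ 2 * a.a5) +
    a.a6 * (a.a1 ^ 2 * a.a5) + (a.a3 + a.a6 * a.a1 ^ 2) * a.a5 + a.a6 * ((a.a3 + a.a6 * a.a1 ^ 2) * a.a1)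
  a5 := a.a5 + a.a6 * a.a1
  a6 := a.a6

theorem mu_iv (hF : Nat.card F = 4) (a : Tup F F) : mu a (iv a) = one0 := by
  have h2 := two hF
  ext <;> simp only [mu, iv, one0] <;> grind

theorem one0_mu (a : Tup F F) : mu one0 a = a := by
  ext <;> simp only [mu, one0] <;> ring

variable {G : Type*} [Group G] {X : Tup F F → G} {f : G} {ja jb : G}

namespace Dat

variable (h : Dat X f ja jb)
include h

theorem X_one : X one0 = 1 := by
  have h1 := h.mul one0 one0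
  rw [one0_mu] at h1
  exact mul_eq_left.mp h1

theorem inv (a : Tup F F) : (X a)⁻¹ = X (iv a) := by
  rw [inv_eq_iff_mul_eq_one, h.mul, mu_iv h.card, h.X_one]

theorem eq_one {a : Tup F F} (ha : X a = 1) : a = one0 := h.inj (ha.trans h.X_one.symm)

/-- the Sylow 2-subgroup of `G₂(4)` -/
def T : Subgroup G where
  carrier := {g | ∃ a, g = X a}
  one_mem' := ⟨one0, h.X_one.symm⟩
  mul_mem' := by
    rintro _ _ ⟨a, rfl⟩ ⟨b, rfl⟩
    exact ⟨mu a b, h.mul a b⟩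
  inv_mem' := by
    rintro _ ⟨a, rfl⟩
    exact ⟨iv a, h.inv a⟩

theorem mem_T {g : G} : g ∈ h.T ↔ ∃ a, g = X a := Iff.rfl

theorem X_mem (a : Tup F F) : X a ∈ h.T := ⟨a, rfl⟩

theorem conj_X {a b c : Tup F F} (he : mu b a = mu c b) : X b * X a * (X b)⁻¹ = X c := by
  rw [h.mul, he, ← h.mul, mul_inv_cancel_right]

theorem fX' (a : Tup F F) : f * X a = X (fr a) * f := by
  rw [← h.fX a, mul_assoc _ f f, h.ff, mul_one]

theorem Xf (a : Tup F F) : X a * f = f * X (fr a) := by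
  have h1 := h.fX a
  rw [← h1, ← mul_assoc, ← mul_assoc, h.ff, one_mul]

theorem f_inv : f⁻¹ = f := inv_eq_of_mul_eq_one_right h.ff

theorem f_not_mem : f ∉ h.T := fun ⟨a, ha⟩ => h.f_not a ha

theorem f_norm {g : G} (hg : g ∈ h.T) : f * g * f ∈ h.T := by
  obtain ⟨a, rfl⟩ := hg
  exact ⟨fr a, h.fX a⟩

/-- `T ∪ f T` -/
def S0 : Subgroup G where
  carrier := {g | g ∈ h.T ∨ f * g ∈ h.T}
  one_mem' := Or.inl (one_mem _)
  mul_mem' := by
    rintro a b (ha | ha) (hb | hb)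
    · exact Or.inl (mul_mem ha hb)
    · right
      have h1 : f * (a * b) = (f * a * f) * (f * b) := by
        calc f * (a * b) = f * a * (f * f) * b := by rw [h.ff]; group
          _ = _ := by group
      rw [h1]
      exact mul_mem (h.f_norm ha) hb
    · right
      rw [← mul_assoc]
      exact mul_mem ha hb
    · left
      have h1 : a * b = (f * (f * a) * f) * (f * b) := by
        calc a * b = (f * f) * a * (f * f) * b := by rw [h.ff]; group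
          _ = _ := by group
      rw [h1]
      exact mul_mem (h.f_norm ha) hb
  inv_mem' := by
    rintro a (ha | ha)
    · exact Or.inl (inv_mem ha)
    · right
      have h1 : f * a⁻¹ = f * (f * a)⁻¹ * f := by
        rw [mul_inv_rev, h.f_inv]
        calc f * a⁻¹ = f * a⁻¹ * (f * f) := by rw [h.ff, mul_one]
          _ = _ := by group
      rw [h1]
      exact h.f_norm (inv_mem ha)

theorem mem_S0 {g : G} : g ∈ h.S0 ↔ g ∈ h.T ∨ f * g ∈ h.T := Iff.rfl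

theorem T_le_S0 : h.T ≤ h.S0 := fun _ hg => Or.inl hg

theorem f_mem_S0 : f ∈ h.S0 := Or.inr (by rw [h.ff]; exact one_mem _)

/-! ### orders -/

theorem card_T : Nat.card h.T = 4096 := by
  have e : Tup F F ≃ h.T := Equiv.ofBijective (fun a => ⟨X a, h.X_mem a⟩)
    ⟨fun a b hab => h.inj (congrArg Subtype.val hab), fun ⟨g, a, ha⟩ => ⟨a, Subtype.ext ha.symm⟩⟩
  have e2 : Tup F F ≃ F × F × F × F × F × F :=
    { toFun := fun a => (a.a1, a.a2, a.a3, a.a4, a.a5, a.a6)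
      invFun := fun p => ⟨p.1, p.2.1, p.2.2.1, p.2.2.2.1, p.2.2.2.2.1, p.2.2.2.2.2⟩
      left_inv := fun a => rfl
      right_inv := fun p => rfl }
  rw [← Nat.card_congr e, Nat.card_congr e2]
  simp only [Nat.card_prod, h.card]

theorem relIndex_T : h.T.relIndex h.S0 = 2 := by
  rw [Subgroup.relIndex, Subgroup.index_eq_two_iff]
  refine ⟨⟨f, h.f_mem_S0⟩, fun b => ?_⟩
  rw [mem_subgroupOf, mem_subgroupOf]
  simp only [Subgroup.coe_mul]
  rcases b.2 with hb | hb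
  · refine Or.inr ⟨hb, fun hc => h.f_not_mem ?_⟩
    have h1 := mul_mem (inv_mem hb) hc
    rwa [inv_mul_cancel_left] at h1
  · left
    refine ⟨?_, fun hc => h.f_not_mem ?_⟩
    · have h1 : (b : G) * f = f * (f * (b : G)) * f := by
        rw [← mul_assoc f f, h.ff, one_mul]
      rw [h1]
      exact h.f_norm hb
    · have h1 := mul_mem hb (inv_mem hc)
      rwa [mul_inv_cancel_right] at h1

theorem card_S0 : Nat.card h.S0 = 8192 := by
  have h1 := Subgroup.card_mul_index (h.T.subgroupOf h.S0)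
  have h2 : (h.T.subgroupOf h.S0).index = 2 := h.relIndex_T
  rw [h2, Nat.card_congr (subgroupOfEquivOfLe h.T_le_S0).toEquiv, h.card_T] at h1
  omega

theorem two_S0 : IsPGroup 2 h.S0 := IsPGroup.of_card (n := 13) (by rw [h.card_S0]; norm_num)

theorem two_T : IsPGroup 2 h.T := h.two_S0.to_le h.T_le_S0

/-- the centraliser of `f` in `T` -/
theorem comm_iff {a : Tup F F} : f * X a = X a * f ↔ fr a = a := by
  rw [h.fX', mul_left_inj]
  exact ⟨fun he => h.inj he, fun he => by rw [he]⟩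

end Dat

end Cfsg.Agent.Omega.GTwoFour

end

section


/-!
# The pair of type `G₂(4)`: involutions of `T` and of `f T`
-/

set_option autoImplicit false

namespace Cfsg.Agent.Omega.GTwoFour

open Cfsg.Agent.HexRec Subgroup

variable {F : Type*} [Field F] {G : Type*} [Group G] {X : Tup F F → G} {f : G} {ja jb : G}

namespace Dat

variable (h : Dat X f ja jb)
include h

/-! ### conjugation by root elements -/

theorem cj1 (t a2 a3 a4 a5 a6 : F) : X (e1 t) * X ⟨0, a2, a3, a4, a5, a6⟩ * (X (e1 t))⁻¹ =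
    X ⟨0, a2 + a6 * t ^ 3 + t * a3 + t ^ 2 * a5, a3 + a6 * t ^ 2,
      a4 + a6 ^ 2 * t ^ 3 + t * a5 ^ 2 + a6 * t ^ 2 * a5, a5 + a6 * t, a6⟩ := by
  have h2 := two h.card
  refine h.conj_X ?_
  ext <;> simp only [mu, e1] <;> grind

theorem cj2 (r a1 a2 a3 a4 a5 a6 : F) : X (e2 r) * X ⟨a1, a2, a3, a4, a5, a6⟩ * (X (e2 r))⁻¹ =
    X ⟨a1, a2, a3, a4 + a6 * r, a5, a6⟩ := by
  have h2 := two h.card
  refine h.conj_X ?_
  ext <;> simp only [mu, e2] <;> grind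

theorem cj3 (r a1 a2 a3 a4 a5 a6 : F) : X (e3 r) * X ⟨a1, a2, a3, a4, a5, a6⟩ * (X (e3 r))⁻¹ =
    X ⟨a1, a2 + a1 * r, a3, a4 + r * a5, a5, a6⟩ := by
  have h2 := two h.card
  refine h.conj_X ?_
  ext <;> simp only [mu, e3] <;> grind

theorem cj5 (r a1 a2 a3 a4 a5 a6 : F) : X (e5 r) * X ⟨a1, a2, a3, a4, a5, a6⟩ * (X (e5 r))⁻¹ =
    X ⟨a1, a2 + a1 ^ 2 * r, a3, a4 + a1 * r ^ 2 + a3 * r, a5, a6⟩ := by
  have h2 := two h.card
  refine h.conj_X ?_
  ext <;> simp only [mu, e5] <;> grind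

theorem cj6 (s a1 a2 a3 a4 a5 a6 : F) : X (e6 s) * X ⟨a1, a2, a3, a4, a5, a6⟩ * (X (e6 s))⁻¹ =
    X ⟨a1, a2 + s * a1 ^ 3, a3 + s * a1 ^ 2, a4 + s ^ 2 * a1 ^ 3 + s * a2 + s * a3 * a1, a5 + s * a1, a6⟩ := by
  have h2 := two h.card
  refine h.conj_X ?_
  ext <;> simp only [mu, e6] <;> grind

theorem cA (a2 a3 a4 a5 a6 : F) : ja * X ⟨0, a2, a3, a4, a5, a6⟩ * (ja)⁻¹ =
    X ⟨0, a6, a5, a4 + a2 * a6 + a3 * a5, a3, a2⟩ := by
  rw [h.nA, mul_inv_cancel_right]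

theorem cB (a1 a2 a3 a4 a5 : F) : jb * X ⟨a1, a2, a3, a4, a5, 0⟩ * (jb)⁻¹ =
    X ⟨a5, a4 + a3 * a5 + a1 * a5 ^ 2, a3, a2 + a1 * a3 + a1 ^ 2 * a5, a1, 0⟩ := by
  rw [h.nB, mul_inv_cancel_right]

omit [Field F] h in
theorem trans_conj {g k x y z : G} (h1 : g * x * g⁻¹ = y) (h2 : k * y * k⁻¹ = z) :
    (k * g) * x * (k * g)⁻¹ = z := by
  rw [← h2, ← h1]; group

end Dat

/-- fused to a long root element -/
def ZT (X : Tup F F → G) (x : G) : Prop := ∃ g : G, ∃ s : F, s ≠ 0 ∧ g * x * g⁻¹ = X (e4 s)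

/-- fused to a short root element -/
def UT (X : Tup F F → G) (x : G) : Prop := ∃ g : G, ∃ s : F, s ≠ 0 ∧ g * x * g⁻¹ = X (e3 s)

theorem ZT.of {x y g : G} (hy : ZT X y) (hg : g * x * g⁻¹ = y) : ZT X x := by
  obtain ⟨k, s, hs, hk⟩ := hy
  exact ⟨k * g, s, hs, by rw [← hk, ← hg]; group⟩

theorem UT.of {x y g : G} (hy : UT X y) (hg : g * x * g⁻¹ = y) : UT X x := by
  obtain ⟨k, s, hs, hk⟩ := hy
  exact ⟨k * g, s, hs, by rw [← hk, ← hg]; group⟩

namespace Dat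

variable (h : Dat X f ja jb)
include h

theorem zV {a2 a4 : F} (hne : ¬ (a2 = 0 ∧ a4 = 0)) : ZT X (X ⟨0, a2, 0, a4, 0, 0⟩) := by
  have h2 := two h.card
  by_cases ha : a2 = 0
  · subst ha
    exact ⟨1, a4, fun hc => hne ⟨rfl, hc⟩, by simp [e4]⟩
  · refine ZT.of (g := X (e6 (a4 / a2))) ?_ (h.cj6 _ _ _ _ _ _ _)
    refine ZT.of (g := jb) ?_ (h.cB _ _ _ _ _)
    refine ⟨1, a2, ha, ?_⟩
    simp only [one_mul, inv_one, mul_one, e4]
    congr 1
    ext <;> simp only <;> field_simp <;> grind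

theorem uFive {a2 a4 a5 : F} (h5 : a5 ≠ 0) : UT X (X ⟨0, a2, 0, a4, a5, 0⟩) := by
  have h2 := two h.card
  obtain ⟨t, ht⟩ : ∃ t : F, t ^ 2 * a5 = a2 := by
    refine ⟨(a2 / a5) ^ 2, ?_⟩
    have h4 := pow4 h.card (a2 / a5)
    rw [← pow_mul, h4, div_mul_cancel₀ _ h5]
  obtain ⟨r, hr⟩ : ∃ r : F, r * a5 = a4 + t * a5 ^ 2 := ⟨_, div_mul_cancel₀ _ h5⟩
  have k1 := h.cj1 t a2 0 a4 a5 0
  have k2 : a2 + 0 * t ^ 3 + t * 0 + t ^ 2 * a5 = 0 := by grind
  rw [k2] at k1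
  have k3 := h.cj3 r 0 0 (0 + 0 * t ^ 2) (a4 + 0 ^ 2 * t ^ 3 + t * a5 ^ 2 + 0 * t ^ 2 * a5) (a5 + 0 * t) 0
  have k4 : a4 + 0 ^ 2 * t ^ 3 + t * a5 ^ 2 + 0 * t ^ 2 * a5 + r * (a5 + 0 * t) = 0 := by grind
  have k5 : (0 : F) + 0 * r = 0 := by ring
  have k6 : (0 : F) + 0 * t ^ 2 = 0 := by ring
  have k7 : a5 + 0 * t = a5 := by ring
  rw [k4, k5, k7, k6] at k3
  rw [k7, k6] at k1
  have k8 := h.cA 0 0 0 a5 0
  rw [zero_mul, zero_mul, add_zero, add_zero] at k8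
  exact UT.of ⟨1, a5, h5, by simp [e3]⟩ (trans_conj (trans_conj k1 k3) k8)

theorem uThree {a2 a3 a4 : F} (h3 : a3 ≠ 0) : UT X (X ⟨0, a2, a3, a4, 0, 0⟩) := by
  have h2 := two h.card
  obtain ⟨t, ht⟩ : ∃ t : F, t * a3 = a2 := ⟨_, div_mul_cancel₀ _ h3⟩
  obtain ⟨r, hr⟩ : ∃ r : F, r * a3 = a4 := ⟨_, div_mul_cancel₀ _ h3⟩
  refine UT.of (g := X (e1 t)) ?_ (h.cj1 _ _ _ _ _ _)
  refine UT.of (g := X (e5 r)) ?_ (h.cj5 _ _ _ _ _ _ _)
  refine ⟨1, a3, h3, ?_⟩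
  simp only [one_mul, inv_one, mul_one, e3]
  congr 1
  ext <;> simp only <;> grind

/-- the equations of an involution -/
theorem sq_eqs {a : Tup F F} (ha : X a * X a = 1) : a.a6 * a.a1 = 0 ∧
    a.a6 * a.a1 ^ 3 + a.a1 * a.a3 + a.a1 ^ 2 * a.a5 = 0 ∧
    a.a6 ^ 2 * a.a1 ^ 3 + a.a1 * a.a5 ^ 2 + a.a6 * a.a2 +
    a.a6 * (a.a1 ^ 2 * a.a5) + a.a3 * a.a5 + a.a6 * (a.a3 * a.a1) = 0 := by
  have h2 := two h.card
  rw [h.mul] at ha
  have h1 := h.eq_one ha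
  have e5 := congrArg Tup.a5 h1
  have e2 := congrArg Tup.a2 h1
  have e4 := congrArg Tup.a4 h1
  simp only [mu, one0] at e5 e2 e4
  refine ⟨?_, ?_, ?_⟩ <;> grind

omit h in
theorem conj_sq {g x y : G} (hx : x * x = 1) (h1 : g * x * g⁻¹ = y) : y * y = 1 := by
  rw [← h1]
  calc g * x * g⁻¹ * (g * x * g⁻¹) = g * (x * x) * g⁻¹ := by group
    _ = 1 := by rw [hx]; group

theorem classify {a : Tup F F} (ha : X a * X a = 1) (h1 : a ≠ one0) :
    ZT X (X a) ∨ (UT X (X a) ∧ ¬ (a.a1 = 0 ∧ a.a3 = 0 ∧ a.a5 = 0 ∧ a.a6 = 0)) := by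
  have h2 := two h.card
  obtain ⟨q1, q2, q3⟩ := h.sq_eqs ha
  obtain ⟨a1, a2, a3, a4, a5, a6⟩ := a
  simp only at q1 q2 q3 ⊢
  by_cases c1 : a1 = 0
  · subst c1
    by_cases c6 : a6 = 0
    · subst c6
      have q4 : a3 * a5 = 0 := by linear_combination q3
      by_cases c5 : a5 = 0
      · subst c5
        by_cases c3 : a3 = 0
        · subst c3
          refine Or.inl (h.zV ?_)
          rintro ⟨rfl, rfl⟩
          exact h1 rfl
        · exact Or.inr ⟨h.uThree c3, fun hc => c3 hc.2.1⟩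
      · have c3 : a3 = 0 := by
          rcases mul_eq_zero.mp q4 with hc | hc
          · exact hc
          · exact absurd hc c5
        subst c3
        exact Or.inr ⟨h.uFive c5, fun hc => c5 hc.2.2.1⟩
    · -- a6 ≠ 0
      obtain ⟨t, ht⟩ : ∃ t : F, t * a6 = a5 := ⟨_, div_mul_cancel₀ _ c6⟩
      have k1 := h.cj1 t a2 a3 a4 a5 a6
      have k2 := conj_sq ha k1
      have k3 := (h.sq_eqs k2).2.2
      simp only at k3
      have k5 : a5 + a6 * t = 0 := by grind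
      rw [k5] at k3 k1
      have k6 : a2 + a6 * t ^ 3 + t * a3 + t ^ 2 * a5 = 0 := by
        have : a6 * (a2 + a6 * t ^ 3 + t * a3 + t ^ 2 * a5) = 0 := by linear_combination k3
        rcases mul_eq_zero.mp this with hc | hc
        · exact absurd hc c6
        · exact hc
      rw [k6] at k1
      obtain ⟨r, hr⟩ : ∃ r : F, r * a6 = a4 + a6 ^ 2 * t ^ 3 + t * a5 ^ 2 + a6 * t ^ 2 * a5 :=
        ⟨_, div_mul_cancel₀ _ c6⟩
      have k7 := h.cj2 r 0 0 (a3 + a6 * t ^ 2) (a4 + a6 ^ 2 * t ^ 3 + t * a5 ^ 2 + a6 * t ^ 2 * a5) 0 a6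
      have k8 : a4 + a6 ^ 2 * t ^ 3 + t * a5 ^ 2 + a6 * t ^ 2 * a5 + a6 * r = 0 := by grind
      rw [k8] at k7
      have k9 := h.cA 0 (a3 + a6 * t ^ 2) 0 0 a6
      rw [zero_mul, mul_zero, add_zero, add_zero] at k9
      have k10 := trans_conj (trans_conj k1 k7) k9
      by_cases c3 : a3 + a6 * t ^ 2 = 0
      · rw [c3] at k10
        exact Or.inl (ZT.of (h.zV fun hc => c6 hc.1) k10)
      · exact Or.inr ⟨UT.of (h.uFive c3) k10, fun hc => c6 hc.2.2.2⟩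
  · -- a1 ≠ 0
    have c6 : a6 = 0 := by
      rcases mul_eq_zero.mp q1 with hc | hc
      · exact hc
      · exact absurd hc c1
    subst c6
    have c3 : a3 = a1 * a5 := by
      have : a1 * (a3 + a1 * a5) = 0 := by linear_combination q2
      rcases mul_eq_zero.mp this with hc | hc
      · exact absurd hc c1
      · exact eqadd h.card hc
    obtain ⟨s, hs⟩ : ∃ s : F, s * a1 = a5 := ⟨_, div_mul_cancel₀ _ c1⟩
    have k1 := h.cj6 s a1 a2 a3 a4 a5 0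
    have k2 : a5 + s * a1 = 0 := by grind
    have k3 : a3 + s * a1 ^ 2 = 0 := by grind
    rw [k2, k3] at k1
    have k4 := h.cB a1 (a2 + s * a1 ^ 3) 0 (a4 + s ^ 2 * a1 ^ 3 + s * a2 + s * a3 * a1) 0
    have k5 := trans_conj k1 k4
    refine Or.inr ⟨UT.of ?_ k5, fun hc => c1 hc.1⟩
    exact h.uFive c1

end Dat

end Cfsg.Agent.Omega.GTwoFour

end

section


/-!
# The pair of type `G₂(4)`: centralizers in `T`; the involutions of `f T`
-/

set_option autoImplicit false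

namespace Cfsg.Agent.Omega.GTwoFour

open Cfsg.Agent.HexRec Subgroup

variable {F : Type*} [Field F] {G : Type*} [Group G] {X : Tup F F → G} {f : G} {ja jb : G}

omit [Field F] in
/-- counting a class from below -/
theorem card_cent_le [Finite G] (hF : Nat.card F = 4) {T : Subgroup G} {y : G} (s : F → F → G)
    (hs : ∀ p q, s p q ∈ T)
    (hinj : ∀ p q p' q', s p q * y * (s p q)⁻¹ = s p' q' * y * (s p' q')⁻¹ → p = p' ∧ q = q') :
    16 * Nat.card (T ⊓ centralizer ({y} : Set G) : Subgroup G) ≤ Nat.card T := by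
  have := fin hF
  let φ : (F × F) × (T ⊓ centralizer ({y} : Set G) : Subgroup G) → T :=
    fun x => ⟨s x.1.1 x.1.2 * x.2, mul_mem (hs _ _) x.2.2.1⟩
  have hφ : Function.Injective φ := by
    rintro ⟨⟨p, q⟩, c, hc⟩ ⟨⟨p', q'⟩, c', hc'⟩ hx
    have h1 : s p q * c = s p' q' * c' := congrArg Subtype.val hx
    have hc2 := mem_centralizer_singleton_iff.mp hc.2
    have hc2' := mem_centralizer_singleton_iff.mp hc'.2
    have h2 : s p q * y * (s p q)⁻¹ = s p' q' * y * (s p' q')⁻¹ := by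
      calc s p q * y * (s p q)⁻¹ = s p q * (c * y) * (s p q * c)⁻¹ := by rw [hc2]; group
        _ = (s p q * c) * y * (s p q * c)⁻¹ := by group
        _ = (s p' q' * c') * y * (s p' q' * c')⁻¹ := by rw [h1]
        _ = s p' q' * (c' * y) * (s p' q' * c')⁻¹ := by group
        _ = s p' q' * y * (s p' q')⁻¹ := by rw [hc2']; group
    obtain ⟨rfl, rfl⟩ := hinj _ _ _ _ h2
    have h3 : c = c' := mul_left_cancel h1
    subst h3
    rfl
  have h1 := Nat.card_le_card_of_injective φ hφ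
  rw [Nat.card_prod, Nat.card_prod, hF] at h1
  omega

namespace Dat

variable (h : Dat X f ja jb)
include h

/-- involutions of `T` outside `V` have at least 16 conjugates in `T` -/
theorem small [Finite G] {a : Tup F F} (ha : X a * X a = 1)
    (hV : ¬ (a.a1 = 0 ∧ a.a3 = 0 ∧ a.a5 = 0 ∧ a.a6 = 0)) :
    Nat.card (h.T ⊓ centralizer ({X a} : Set G) : Subgroup G) ≤ 256 := by
  have h2 := two h.card
  obtain ⟨q1, q2, q3⟩ := h.sq_eqs ha
  suffices hh : 16 * Nat.card (h.T ⊓ centralizer ({X a} : Set G) : Subgroup G) ≤ Nat.card h.T by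
    rw [h.card_T] at hh
    omega
  obtain ⟨a1, a2, a3, a4, a5, a6⟩ := a
  simp only at q1 q2 q3 hV
  by_cases c1 : a1 = 0
  · subst c1
    by_cases c6 : a6 = 0
    · subst c6
      by_cases c5 : a5 = 0
      · subst c5
        have c3 : a3 ≠ 0 := fun hc => hV ⟨rfl, hc, rfl, rfl⟩
        refine card_cent_le h.card (fun p q => X (e5 q) * X (e1 p))
          (fun p q => mul_mem (h.X_mem _) (h.X_mem _)) ?_
        intro p q p' q' he
        rw [trans_conj (h.cj1 p _ _ _ _ _) (h.cj5 q _ _ _ _ _ _),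
          trans_conj (h.cj1 p' _ _ _ _ _) (h.cj5 q' _ _ _ _ _ _)] at he
        have he' := h.inj he
        have e2 := congrArg Tup.a2 he'
        have e4 := congrArg Tup.a4 he'
        simp only at e2 e4
        have hp : p = p' := by
          have : (p - p') * a3 = 0 := by linear_combination e2
          rcases mul_eq_zero.mp this with hc | hc
          · exact sub_eq_zero.mp hc
          · exact absurd hc c3
        subst hp
        refine ⟨rfl, ?_⟩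
        have : (q - q') * a3 = 0 := by linear_combination e4
        rcases mul_eq_zero.mp this with hc | hc
        · exact sub_eq_zero.mp hc
        · exact absurd hc c3
      · have c3 : a3 = 0 := by
          have q4 : a3 * a5 = 0 := by linear_combination q3
          rcases mul_eq_zero.mp q4 with hc | hc
          · exact hc
          · exact absurd hc c5
        subst c3
        refine card_cent_le h.card (fun p q => X (e3 q) * X (e1 p))
          (fun p q => mul_mem (h.X_mem _) (h.X_mem _)) ?_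
        intro p q p' q' he
        rw [trans_conj (h.cj1 p _ _ _ _ _) (h.cj3 q _ _ _ _ _ _),
          trans_conj (h.cj1 p' _ _ _ _ _) (h.cj3 q' _ _ _ _ _ _)] at he
        have he' := h.inj he
        have e2 := congrArg Tup.a2 he'
        have e4 := congrArg Tup.a4 he'
        simp only at e2 e4
        have hp : p = p' := by
          have : (p - p') * ((p - p') * a5) = 0 := by grind
          rcases mul_eq_zero.mp this with hc | hc
          · exact sub_eq_zero.mp hc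
          · rcases mul_eq_zero.mp hc with hc | hc
            · exact sub_eq_zero.mp hc
            · exact absurd hc c5
        subst hp
        refine ⟨rfl, ?_⟩
        have : (q - q') * a5 = 0 := by linear_combination e4
        rcases mul_eq_zero.mp this with hc | hc
        · exact sub_eq_zero.mp hc
        · exact absurd hc c5
    · refine card_cent_le h.card (fun p q => X (e2 q) * X (e1 p))
        (fun p q => mul_mem (h.X_mem _) (h.X_mem _)) ?_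
      intro p q p' q' he
      rw [trans_conj (h.cj1 p _ _ _ _ _) (h.cj2 q _ _ _ _ _ _),
        trans_conj (h.cj1 p' _ _ _ _ _) (h.cj2 q' _ _ _ _ _ _)] at he
      have he' := h.inj he
      have e5 := congrArg Tup.a5 he'
      have e4 := congrArg Tup.a4 he'
      simp only at e5 e4
      have hp : p = p' := by
        have : (p - p') * a6 = 0 := by linear_combination e5
        rcases mul_eq_zero.mp this with hc | hc
        · exact sub_eq_zero.mp hc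
        · exact absurd hc c6
      subst hp
      refine ⟨rfl, ?_⟩
      have : (q - q') * a6 = 0 := by linear_combination e4
      rcases mul_eq_zero.mp this with hc | hc
      · exact sub_eq_zero.mp hc
      · exact absurd hc c6
  · have c6 : a6 = 0 := by
      rcases mul_eq_zero.mp q1 with hc | hc
      · exact hc
      · exact absurd hc c1
    subst c6
    refine card_cent_le h.card (fun p q => X (e6 p) * X (e3 q))
      (fun p q => mul_mem (h.X_mem _) (h.X_mem _)) ?_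
    intro p q p' q' he
    rw [trans_conj (h.cj3 q _ _ _ _ _ _) (h.cj6 p _ _ _ _ _ _),
      trans_conj (h.cj3 q' _ _ _ _ _ _) (h.cj6 p' _ _ _ _ _ _)] at he
    have he' := h.inj he
    have e5 := congrArg Tup.a5 he'
    have e2 := congrArg Tup.a2 he'
    simp only at e5 e2
    have hp : p = p' := by
      have : (p - p') * a1 = 0 := by linear_combination e5
      rcases mul_eq_zero.mp this with hc | hc
      · exact sub_eq_zero.mp hc
      · exact absurd hc c1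
    subst hp
    refine ⟨rfl, ?_⟩
    have : (q - q') * a1 = 0 := by linear_combination e2
    rcases mul_eq_zero.mp this with hc | hc
    · exact sub_eq_zero.mp hc
    · exact absurd hc c1

/-! ### involutions of `f T` -/

theorem step {e a : Tup F F} (he : mu e e = one0) (ha : f * X a * (f * X a) = 1) :
    f * X (mu (mu (fr e) a) e) * (f * X (mu (mu (fr e) a) e)) = 1 ∧
      X e * (f * X a) * (X e)⁻¹ = f * X (mu (mu (fr e) a) e) := by
  have h1 : X e * X e = 1 := by rw [h.mul, he, h.X_one]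
  have h2 : (X e)⁻¹ = X e := inv_eq_of_mul_eq_one_right h1
  have h3 : X e * (f * X a) * (X e)⁻¹ = f * X (mu (mu (fr e) a) e) := by
    rw [h2, ← mul_assoc, h.Xf, ← h.mul, ← h.mul, mul_assoc, mul_assoc, mul_assoc]
  exact ⟨by rw [← h3]; exact conj_sq ha rfl, h3⟩

theorem feq {a : Tup F F} (ha : f * X a * (f * X a) = 1) : mu (fr a) a = one0 := by
  rw [← mul_assoc, h.fX, h.mul] at ha
  exact h.eq_one ha

/-- every involution of `f T` is conjugate to `f` -/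
theorem exists_conj_f {a : Tup F F} (ha : f * X a * (f * X a) = 1) :
    ∃ g ∈ h.T, g * (f * X a) * g⁻¹ = f := by
  have hF := h.card
  have h2 := two hF
  -- x1
  obtain ⟨s, hs⟩ := exists_tr hF (c := a.a1) (by
    have := congrArg Tup.a1 (h.feq ha); simpa [mu, fr, one0] using this)
  obtain ⟨hb, kb⟩ := h.step (e := e1 s) (by ext <;> simp only [mu, e1, one0] <;> grind) ha
  set b := mu (mu (fr (e1 s)) a) (e1 s) with hbdef
  have b1 : b.a1 = 0 := by simp only [hbdef, mu, fr, e1]; grind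
  clear_value b
  -- x6
  obtain ⟨s, hs⟩ := exists_tr hF (c := b.a6) (by
    have := congrArg Tup.a6 (h.feq hb); simpa [mu, fr, one0] using this)
  obtain ⟨hc, kc⟩ := h.step (e := e6 s) (by ext <;> simp only [mu, e6, one0] <;> grind) hb
  set c := mu (mu (fr (e6 s)) b) (e6 s) with hcdef
  have c1 : c.a1 = 0 := by simp only [hcdef, mu, fr, e6]; grind
  have c6 : c.a6 = 0 := by simp only [hcdef, mu, fr, e6]; grind
  clear_value c
  -- x5
  obtain ⟨s, hs⟩ := exists_tr hF (c := c.a5) (by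
    have := congrArg Tup.a5 (h.feq hc); simpa [mu, fr, one0, c1, c6] using this)
  obtain ⟨hd, kd⟩ := h.step (e := e5 s) (by ext <;> simp only [mu, e5, one0] <;> grind) hc
  set d := mu (mu (fr (e5 s)) c) (e5 s) with hddef
  have d1 : d.a1 = 0 := by simp only [hddef, mu, fr, e5]; grind
  have d6 : d.a6 = 0 := by simp only [hddef, mu, fr, e5]; grind
  have d5 : d.a5 = 0 := by simp only [hddef, mu, fr, e5]; grind
  clear_value d
  -- x3
  obtain ⟨s, hs⟩ := exists_tr hF (c := d.a3) (by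
    have := congrArg Tup.a3 (h.feq hd); simpa [mu, fr, one0, d1, d6, d5] using this)
  obtain ⟨hp, kp⟩ := h.step (e := e3 s) (by ext <;> simp only [mu, e3, one0] <;> grind) hd
  set p := mu (mu (fr (e3 s)) d) (e3 s) with hpdef
  have p1 : p.a1 = 0 := by simp only [hpdef, mu, fr, e3]; grind
  have p6 : p.a6 = 0 := by simp only [hpdef, mu, fr, e3]; grind
  have p5 : p.a5 = 0 := by simp only [hpdef, mu, fr, e3]; grind
  have p3 : p.a3 = 0 := by simp only [hpdef, mu, fr, e3]; grind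
  clear_value p
  -- x2
  obtain ⟨s, hs⟩ := exists_tr hF (c := p.a2) (by
    have := congrArg Tup.a2 (h.feq hp); simpa [mu, fr, one0, p1, p6, p5, p3] using this)
  obtain ⟨hq, kq⟩ := h.step (e := e2 s) (by ext <;> simp only [mu, e2, one0] <;> grind) hp
  set q := mu (mu (fr (e2 s)) p) (e2 s) with hqdef
  have q1 : q.a1 = 0 := by simp only [hqdef, mu, fr, e2]; grind
  have q6 : q.a6 = 0 := by simp only [hqdef, mu, fr, e2]; grind
  have q5 : q.a5 = 0 := by simp only [hqdef, mu, fr, e2]; grind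
  have q3 : q.a3 = 0 := by simp only [hqdef, mu, fr, e2]; grind
  have q2 : q.a2 = 0 := by simp only [hqdef, mu, fr, e2]; grind
  clear_value q
  -- x4
  obtain ⟨s, hs⟩ := exists_tr hF (c := q.a4) (by
    have := congrArg Tup.a4 (h.feq hq); simpa [mu, fr, one0, q1, q6, q5, q3, q2] using this)
  obtain ⟨hr, kr⟩ := h.step (e := e4 s) (by ext <;> simp only [mu, e4, one0] <;> grind) hq
  have hr0 : mu (mu (fr (e4 s)) q) (e4 s) = one0 := by
    ext <;> simp only [mu, fr, e4, one0] <;> grind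
  rw [hr0, h.X_one, mul_one] at kr
  refine ⟨_, ?_, trans_conj (trans_conj (trans_conj (trans_conj (trans_conj kb kc) kd) kp) kq) kr⟩
  exact mul_mem (h.X_mem _) (mul_mem (h.X_mem _) (mul_mem (h.X_mem _) (mul_mem (h.X_mem _)
    (mul_mem (h.X_mem _) (h.X_mem _)))))

end Dat

end Cfsg.Agent.Omega.GTwoFour

end

section


/-!
# The pair of type `G₂(4)`: `O₂(C(f)) ∩ T = 1`, `f` is fused into `T`
-/

set_option autoImplicit false

namespace Cfsg.Agent.Omega.GTwoFour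

open Cfsg.Agent.HexRec Subgroup Cfsg.Agent.Omega.GTwoFour.Cor

universe u v

variable {F : Type v} [Field F] {G : Type u} [Group G] {X : Tup F F → G} {f : G} {ja jb : G}

/-- a 2-element of order dividing three is trivial -/
theorem eq_one_of_cube {N : Subgroup G} (hN : IsPGroup 2 N) {x : G} (hx : x ∈ N) (h3 : x ^ 3 = 1) : x = 1 := by
  obtain ⟨k, hk⟩ := hN ⟨x, hx⟩
  have hk' : x ^ 2 ^ k = 1 := congrArg Subtype.val hk
  have h1 := orderOf_dvd_of_pow_eq_one hk'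
  have h2 := orderOf_dvd_of_pow_eq_one h3
  have h4 : Nat.Coprime (2 ^ k) 3 := Nat.Coprime.pow_left k (by norm_num)
  have h5 := Nat.eq_one_of_dvd_coprimes h4 h1 h2
  exact orderOf_eq_one_iff.mp h5

theorem eq_one_of_fifth {N : Subgroup G} (hN : IsPGroup 2 N) {x : G} (hx : x ∈ N) (h3 : x ^ 5 = 1) : x = 1 := by
  obtain ⟨k, hk⟩ := hN ⟨x, hx⟩
  have hk' : x ^ 2 ^ k = 1 := congrArg Subtype.val hk
  have h1 := orderOf_dvd_of_pow_eq_one hk'
  have h2 := orderOf_dvd_of_pow_eq_one h3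
  have h4 : Nat.Coprime (2 ^ k) 5 := Nat.Coprime.pow_left k (by norm_num)
  have h5 := Nat.eq_one_of_dvd_coprimes h4 h1 h2
  exact orderOf_eq_one_iff.mp h5

/-- a 2-element whose cube lies in `H` lies in `H` -/
theorem mem_of_cube {N H : Subgroup G} (hN : IsPGroup 2 N) {x : G} (hx : x ∈ N) (h3 : x ^ 3 ∈ H) : x ∈ H := by
  obtain ⟨k, hk⟩ := hN ⟨x, hx⟩
  have hk' : x ^ 2 ^ k = 1 := congrArg Subtype.val hk
  have h4 : Nat.gcd 3 (2 ^ k) = 1 := Nat.Coprime.pow_right k (by norm_num)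
  have h5 := Nat.gcd_eq_gcd_ab 3 (2 ^ k)
  rw [h4] at h5
  have h6 : x = (x ^ 3) ^ (Nat.gcdA 3 (2 ^ k)) := by
    conv_lhs => rw [← zpow_one x]
    have h7 : (1 : ℤ) = 3 * Nat.gcdA 3 (2 ^ k) + ((2 ^ k : ℕ) : ℤ) * Nat.gcdB 3 (2 ^ k) := by
      exact_mod_cast h5
    rw [h7, zpow_add, zpow_mul, zpow_mul, zpow_natCast x (2 ^ k), hk', one_zpow, mul_one,
      zpow_ofNat]
  rw [h6]
  exact zpow_mem h3 _

/-- a 2-element with an odd power in `H` lies in `H` -/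
theorem mem_of_odd {N H : Subgroup G} (hN : IsPGroup 2 N) {x : G} (hx : x ∈ N) {m : ℕ} (hm : Odd m)
    (h3 : x ^ m ∈ H) : x ∈ H := by
  obtain ⟨k, hk⟩ := hN ⟨x, hx⟩
  have hk' : x ^ 2 ^ k = 1 := congrArg Subtype.val hk
  have h4 : Nat.gcd m (2 ^ k) = 1 := Nat.Coprime.pow_right k (Nat.coprime_two_right.mpr hm)
  have h5 := Nat.gcd_eq_gcd_ab m (2 ^ k)
  rw [h4] at h5
  have h6 : x = (x ^ m) ^ (Nat.gcdA m (2 ^ k)) := by
    conv_lhs => rw [← zpow_one x]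
    have h7 : (1 : ℤ) = m * Nat.gcdA m (2 ^ k) + ((2 ^ k : ℕ) : ℤ) * Nat.gcdB m (2 ^ k) := by
      exact_mod_cast h5
    rw [h7, zpow_add, zpow_mul, zpow_mul, zpow_natCast x (2 ^ k), hk', one_zpow, mul_one,
      zpow_natCast]
  rw [h6]
  exact zpow_mem h3 _

/-- iterated conjugation -/
theorem conj_three {g p q r : G} (h1 : g * p * g⁻¹ = q) (h2 : g * q * g⁻¹ = r) (h3 : g * r * g⁻¹ = p) :
    g ^ 3 * p = p * g ^ 3 := by
  have h4 : g ^ 3 * p * (g ^ 3)⁻¹ = p := by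
    calc g ^ 3 * p * (g ^ 3)⁻¹ = g * (g * (g * p * g⁻¹) * g⁻¹) * g⁻¹ := by
          simp only [pow_succ, pow_zero, one_mul, mul_inv_rev, mul_assoc]
      _ = p := by rw [h1, h2, h3]
  exact mul_inv_eq_iff_eq_mul.mp h4

theorem conj_five {g p q r s t : G} (h1 : g * p * g⁻¹ = q) (h2 : g * q * g⁻¹ = r) (h3 : g * r * g⁻¹ = s)
    (h4 : g * s * g⁻¹ = t) (h5 : g * t * g⁻¹ = p) : g ^ 5 * p = p * g ^ 5 := by
  have h6 : g ^ 5 * p * (g ^ 5)⁻¹ = p := by
    calc g ^ 5 * p * (g ^ 5)⁻¹ = g * (g * (g * (g * (g * p * g⁻¹) * g⁻¹) * g⁻¹) * g⁻¹) * g⁻¹ := by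
          simp only [pow_succ, pow_zero, one_mul, mul_inv_rev, mul_assoc]
      _ = p := by rw [h1, h2, h3, h4, h5]
  exact mul_inv_eq_iff_eq_mul.mp h6

namespace Dat

variable (h : Dat X f ja jb)
include h

theorem cA' (a2 a3 a4 a5 a6 : F) : ja⁻¹ * X ⟨0, a2, a3, a4, a5, a6⟩ * ja =
    X ⟨0, a6, a5, a4 + a2 * a6 + a3 * a5, a3, a2⟩ := by
  have h2 := two h.card
  rw [mul_assoc, inv_mul_eq_iff_eq_mul, h.nA]
  congr 2
  ext <;> simp only <;> grind

theorem cB' (a1 a2 a3 a4 a5 : F) : jb⁻¹ * X ⟨a1, a2, a3, a4, a5, 0⟩ * jb =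
    X ⟨a5, a4 + a3 * a5 + a1 * a5 ^ 2, a3, a2 + a1 * a3 + a1 ^ 2 * a5, a1, 0⟩ := by
  have h2 := two h.card
  rw [mul_assoc, inv_mul_eq_iff_eq_mul, h.nB]
  congr 2
  ext <;> simp only <;> grind

/-- the action of `x6(t) x6(t)^{jb}` on `V` -/
theorem gV (t a2 a4 : F) : (X (e6 t) * (jb * X (e6 t) * jb⁻¹)) * X ⟨0, a2, 0, a4, 0, 0⟩ *
    (X (e6 t) * (jb * X (e6 t) * jb⁻¹))⁻¹ = X ⟨0, a2 + t * a4, 0, a4 + t * (a2 + t * a4), 0, 0⟩ := by
  have h2 := two h.card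
  have k1 := h.cB' 0 a2 0 a4 0
  have k2 := h.cj6 t 0 (a4 + 0 * 0 + 0 * 0 ^ 2) 0 (a2 + 0 * 0 + 0 ^ 2 * 0) 0 0
  have q2 : (⟨0, a4 + 0 * 0 + 0 * 0 ^ 2 + t * 0 ^ 3, 0 + t * 0 ^ 2,
      a2 + 0 * 0 + 0 ^ 2 * 0 + t ^ 2 * 0 ^ 3 + t * (a4 + 0 * 0 + 0 * 0 ^ 2) + t * 0 * 0, 0 + t * 0, 0⟩ :
      Tup F F) = ⟨0, a4, 0, a2 + t * a4, 0, 0⟩ := by
    ext <;> simp only <;> ring
  rw [q2] at k2
  have k3 := h.cB 0 a4 0 (a2 + t * a4) 0
  have q3 : (⟨0, a2 + t * a4 + 0 * 0 + 0 * 0 ^ 2, 0, a4 + 0 * 0 + 0 ^ 2 * 0, 0, 0⟩ :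
      Tup F F) = ⟨0, a2 + t * a4, 0, a4, 0, 0⟩ := by
    ext <;> simp only <;> ring
  rw [q3] at k3
  have k4 := h.cj6 t 0 (a2 + t * a4) 0 a4 0 0
  have q4 : (⟨0, a2 + t * a4 + t * 0 ^ 3, 0 + t * 0 ^ 2,
      a4 + t ^ 2 * 0 ^ 3 + t * (a2 + t * a4) + t * 0 * 0, 0 + t * 0, 0⟩ :
      Tup F F) = ⟨0, a2 + t * a4, 0, a4 + t * (a2 + t * a4), 0, 0⟩ := by
    ext <;> simp only <;> ring
  rw [q4] at k4
  rw [← k4, ← k3, ← k2, ← k1]
  group

/-- no 2-group contains `x6(1)` and its conjugate under `jb` -/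
theorem no_pair_b {N : Subgroup G} (hN : IsPGroup 2 N) (h1 : X (e6 1) ∈ N)
    (h2 : jb * X (e6 1) * jb⁻¹ ∈ N) : False := by
  have h2' := two h.card
  have k1 := h.gV 1 1 0
  have k2 := h.gV 1 1 1
  have k3 := h.gV 1 0 1
  set g := X (e6 1) * (jb * X (e6 1) * jb⁻¹) with hg
  have q1 : (⟨0, 1 + 1 * 0, 0, 0 + 1 * (1 + 1 * 0), 0, 0⟩ : Tup F F) = ⟨0, 1, 0, 1, 0, 0⟩ := by
    ext <;> simp only <;> ring
  have q2 : (⟨0, 1 + 1 * 1, 0, 1 + 1 * (1 + 1 * 1), 0, 0⟩ : Tup F F) = ⟨0, 0, 0, 1, 0, 0⟩ := by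
    ext <;> simp only <;> grind
  have q3 : (⟨0, 0 + 1 * 1, 0, 1 + 1 * (0 + 1 * 1), 0, 0⟩ : Tup F F) = ⟨0, 1, 0, 0, 0, 0⟩ := by
    ext <;> simp only <;> grind
  rw [q1] at k1
  rw [q2] at k2
  rw [q3] at k3
  have k4 := conj_three k1 k2 k3
  have k5 : g ∈ centralizer ({X ⟨0, 1, 0, 0, 0, 0⟩} : Set G) :=
    mem_of_odd hN (mul_mem h1 h2) (m := 3) (by decide) (mem_centralizer_singleton_iff.mpr k4)
  have k6 := mem_centralizer_singleton_iff.mp k5
  rw [k6, mul_inv_cancel_right] at k1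
  have k7 := congrArg Tup.a4 (h.inj k1)
  simp only at k7
  exact one_ne_zero k7.symm

/-- the long root element in a subgroup normalised by `C_T(f)` -/
theorem exists_e4 {N : Subgroup G} (hN : ∀ n ∈ N, n * f = f * n)
    (hc : ∀ g, g * f = f * g → ∀ n ∈ N, g * n * g⁻¹ ∈ N) {a : Tup F F} (ha : X a ∈ N) (h1 : a ≠ one0) :
    X (e4 1) ∈ N := by
  have h2 := two h.card
  have hF1 : ∀ c : Tup F F, X c ∈ N → fr c = c := fun c hc' => h.comm_iff.mp (hN _ hc').symm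
  have hfr : ∀ c : Tup F F, fr c = c → X c * f = f * X c := fun c hc' => (h.comm_iff.mpr hc').symm
  -- scalars
  have hs4 : ∀ s : F, s ≠ 0 → X (e4 s) ∈ N → X (e4 1) ∈ N := by
    intro s hs hX
    have h3 := congrArg Tup.a4 (hF1 _ hX)
    simp only [fr, e4] at h3
    have : s = 1 := by
      have h4 : s * (s - 1) = 0 := by linear_combination h3
      rcases mul_eq_zero.mp h4 with h5 | h5
      · exact absurd h5 hs
      · exact sub_eq_zero.mp h5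
    rwa [this] at hX
  -- commutators
  have hcm : ∀ c d : Tup F F, fr d = d → X c ∈ N → ∀ e, X d * X c * (X d)⁻¹ = X e → X e * (X c)⁻¹ ∈ N := by
    intro c d hd hX e he
    rw [← he]
    exact mul_mem (hc _ (hfr d hd) _ hX) (inv_mem hX)
  -- the case `a1 = 0`
  have key : ∀ c : Tup F F, X c ∈ N → c ≠ one0 → c.a1 = 0 → X (e4 1) ∈ N := by
    rintro ⟨c1, c2, c3, c4, c5, c6⟩ hX hne h0
    simp only at h0
    subst h0
    by_cases k2 : c2 = 0
    · by_cases k3 : c3 = 0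
      · by_cases k5 : c5 = 0
        · by_cases k6 : c6 = 0
          · subst k2 k3 k5 k6
            refine hs4 c4 ?_ hX
            rintro rfl
            exact hne rfl
          · have h3 := hcm _ (e2 1) (by ext <;> simp [fr, e2]) hX _ (h.cj2 1 _ _ _ _ _ _)
            rw [h.inv, h.mul] at h3
            refine hs4 c6 k6 ?_
            convert h3 using 2
            ext <;> simp only [mu, iv, e4] <;> grind
        · have h3 := hcm _ (e3 1) (by ext <;> simp [fr, e3]) hX _ (h.cj3 1 _ _ _ _ _ _)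
          rw [h.inv, h.mul] at h3
          refine hs4 c5 k5 ?_
          convert h3 using 2
          ext <;> simp only [mu, iv, e4] <;> grind
      · have h3 := hcm _ (e5 1) (by ext <;> simp [fr, e5]) hX _ (h.cj5 1 _ _ _ _ _ _)
        rw [h.inv, h.mul] at h3
        refine hs4 c3 k3 ?_
        convert h3 using 2
        ext <;> simp only [mu, iv, e4] <;> grind
    · have h3 := hcm _ (e6 1) (by ext <;> simp [fr, e6]) hX _ (h.cj6 1 _ _ _ _ _ _)
      rw [h.inv, h.mul] at h3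
      refine hs4 c2 k2 ?_
      convert h3 using 2
      ext <;> simp only [mu, iv, e4] <;> grind
  by_cases k1 : a.a1 = 0
  · exact key a ha h1 k1
  · obtain ⟨a1, a2, a3, a4, a5, a6⟩ := a
    have h3 := hcm _ (e5 1) (by ext <;> simp [fr, e5]) ha _ (h.cj5 1 _ _ _ _ _ _)
    rw [h.inv, h.mul] at h3
    refine key _ h3 ?_ ?_
    · intro hc'
      have h4 := congrArg Tup.a2 hc'
      simp only [mu, iv, one0] at h4 k1
      apply k1
      have h5 : a1 ^ 2 = 0 := by grind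
      exact pow_eq_zero_iff (two_ne_zero) |>.mp h5
    · simp only [mu, iv]
      grind

/-- `O₂(C(f)) ∩ T = 1` -/
theorem R_inf {x : G} (hx : x ∈ R f) (hxT : x ∈ h.T) : x = 1 := by
  by_contra hne
  obtain ⟨a, rfl⟩ := hxT
  have h1 : a ≠ one0 := fun hc => hne (by rw [hc, h.X_one])
  have hc : ∀ g, g * f = f * g → ∀ n ∈ R f, g * n * g⁻¹ ∈ R f := fun g hg n hn => R_norm hg hn
  have h4 := h.exists_e4 (N := R f) (fun n hn => R_cen hn) hc hx h1
  have h5 := hc _ h.fB.symm _ h4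
  have e5 : jb * X (e4 1) * (jb)⁻¹ = X (e2 1) := by
    have := h.cB 0 0 0 1 0
    simpa [e4, e2] using this
  rw [e5] at h5
  have h6 := hc _ h.fA.symm _ h5
  have e6' : ja * X (e2 1) * (ja)⁻¹ = X (e6 1) := by
    have := h.cA 1 0 0 0 0
    simpa [e2, e6] using this
  rw [e6'] at h6
  exact h.no_pair_b (R_two f) h6 (hc _ h.fB.symm _ h6)

/-- `C_T(f)` -/
def T1 : Subgroup G := h.T ⊓ centralizer ({f} : Set G)

theorem mem_T1 {x : G} : x ∈ h.T1 ↔ ∃ a, fr a = a ∧ x = X a := by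
  rw [T1, mem_inf, mem_centralizer_singleton_iff]
  constructor
  · rintro ⟨⟨a, rfl⟩, h2⟩
    exact ⟨a, h.comm_iff.mp h2.symm, rfl⟩
  · rintro ⟨a, h1, rfl⟩
    exact ⟨⟨a, rfl⟩, (h.comm_iff.mpr h1).symm⟩

theorem card_T1 : Nat.card h.T1 = 64 := by
  classical
  let c : Bool → F := fun b => if b then 1 else 0
  have hc : Function.Injective c := by
    intro a b hab
    cases a <;> cases b <;> simp [c] at hab <;> rfl
  have hc2 : ∀ x : F, x ^ 2 = x → ∃ b, c b = x := by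
    intro x hx
    have h1 : x * (x - 1) = 0 := by linear_combination hx
    rcases mul_eq_zero.mp h1 with h2 | h2
    · exact ⟨false, by simp [c, h2]⟩
    · exact ⟨true, by simp [c, sub_eq_zero.mp h2]⟩
  have hc3 : ∀ b, (c b) ^ 2 = c b := by intro b; cases b <;> simp [c]
  let φ : (Bool × Bool × Bool × Bool × Bool × Bool) → h.T1 := fun p =>
    ⟨X ⟨c p.1, c p.2.1, c p.2.2.1, c p.2.2.2.1, c p.2.2.2.2.1, c p.2.2.2.2.2⟩,
      h.mem_T1.mpr ⟨_, by ext <;> exact hc3 _, rfl⟩⟩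
  have hφ : Function.Bijective φ := by
    constructor
    · rintro ⟨p1, p2, p3, p4, p5, p6⟩ ⟨q1, q2, q3, q4, q5, q6⟩ hpq
      have h1 := h.inj (congrArg Subtype.val hpq)
      have k1 := hc (congrArg Tup.a1 h1)
      have k2 := hc (congrArg Tup.a2 h1)
      have k3 := hc (congrArg Tup.a3 h1)
      have k4 := hc (congrArg Tup.a4 h1)
      have k5 := hc (congrArg Tup.a5 h1)
      have k6 := hc (congrArg Tup.a6 h1)
      simp only at k1 k2 k3 k4 k5 k6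
      subst k1 k2 k3 k4 k5 k6
      rfl
    · rintro ⟨x, hx⟩
      obtain ⟨a, ha, rfl⟩ := h.mem_T1.mp hx
      obtain ⟨b1, k1⟩ := hc2 a.a1 (congrArg Tup.a1 ha)
      obtain ⟨b2, k2⟩ := hc2 a.a2 (congrArg Tup.a2 ha)
      obtain ⟨b3, k3⟩ := hc2 a.a3 (congrArg Tup.a3 ha)
      obtain ⟨b4, k4⟩ := hc2 a.a4 (congrArg Tup.a4 ha)
      obtain ⟨b5, k5⟩ := hc2 a.a5 (congrArg Tup.a5 ha)
      obtain ⟨b6, k6⟩ := hc2 a.a6 (congrArg Tup.a6 ha)
      refine ⟨(b1, b2, b3, b4, b5, b6), Subtype.ext ?_⟩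
      simp only [φ, k1, k2, k3, k4, k5, k6]
  rw [← Nat.card_congr (Equiv.ofBijective φ hφ)]
  simp [Nat.card_eq_fintype_card]

/-- `|O₂(C(f))| · 64 ≤ |C(f)|₂` -/
theorem card_R_le [Finite G] {n : ℕ}
    (hn : ∀ Q : Subgroup G, IsPGroup 2 Q → (∀ q ∈ Q, q * f = f * q) → Nat.card Q ≤ n) :
    Nat.card (R f) * 64 ≤ n := by
  rw [← h.card_T1]
  refine card_mul_le (h.two_T.to_le inf_le_left) (fun p hp => mem_centralizer_singleton_iff.mp hp.2) ?_ hn
  intro x hx hx1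
  exact h.R_inf hx hx1.1

/-- `C_S(y)` has `C_T(y)` as a subgroup of index at most two -/
theorem card_cent_S0 [Finite G] (y : G) : Nat.card (h.S0 ⊓ centralizer ({y} : Set G) : Subgroup G) ≤
    2 * Nat.card (h.T ⊓ centralizer ({y} : Set G) : Subgroup G) := by
  have h1 : (h.T ⊓ centralizer ({y} : Set G)).relIndex (h.S0 ⊓ centralizer ({y} : Set G)) ≤ 2 := by
    have h2 := Subgroup.relIndex_inf_le (H := h.T) (K := centralizer ({y} : Set G))
      (L := h.S0 ⊓ centralizer ({y} : Set G))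
    have h3 : (centralizer ({y} : Set G)).relIndex (h.S0 ⊓ centralizer ({y} : Set G)) = 1 :=
      relIndex_eq_one.mpr inf_le_right
    have h4 : h.T.relIndex (h.S0 ⊓ centralizer ({y} : Set G)) ≤ h.T.relIndex h.S0 :=
      relIndex_le_of_le_right inf_le_left (by rw [h.relIndex_T]; norm_num)
    rw [h3, mul_one] at h2
    exact h2.trans (h4.trans h.relIndex_T.le)
  have h5 : h.T ⊓ centralizer ({y} : Set G) ≤ h.S0 ⊓ centralizer ({y} : Set G) :=
    inf_le_inf_right _ h.T_le_S0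
  have h6 := Subgroup.card_mul_index
    ((h.T ⊓ centralizer ({y} : Set G)).subgroupOf (h.S0 ⊓ centralizer ({y} : Set G)))
  rw [Nat.card_congr (subgroupOfEquivOfLe h5).toEquiv] at h6
  change _ * (h.T ⊓ centralizer ({y} : Set G)).relIndex (h.S0 ⊓ centralizer ({y} : Set G)) = _ at h6
  rw [← h6, mul_comm 2]
  exact Nat.mul_le_mul_left _ h1

end Dat

end Cfsg.Agent.Omega.GTwoFour

end
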